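import Cfsg.Agent.ConjFunctor.Basic

/-!
Conjugation families, and fusion realised by chains of conjugations inside given subgroups.
-/

set_option autoImplicit false

namespace Cfsg.Agent.ConjFunctor

variable {G : Type*} [Group G] {p : ℕ}

/-- The set `g A g⁻¹`. -/
abbrev img (g : G) (A : Set G) : Set G := (fun a => g * a * g⁻¹) '' A

theorem img_one (A : Set G) : img 1 A = A := by simp [img]

theorem img_img (g h : G) (A : Set G) : img g (img h A) = img (g * h) A := by
  simp [img, Set.image_image, mul_assoc]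

theorem img_inv_img (g : G) (A : Set G) : img g⁻¹ (img g A) = A := by
  rw [img_img, inv_mul_cancel, img_one]

theorem img_mono {g : G} {A B : Set G} (h : A ⊆ B) : img g A ⊆ img g B := Set.image_mono h

theorem coe_cnj (g : G) (T : Subgroup G) : ((cnj g T : Subgroup G) : Set G) = img g (T : Set G) := rfl

theorem img_congr {g g' : G} {A : Set G} (h : ∀ a ∈ A, g * a * g⁻¹ = g' * a * g'⁻¹) :
    img g A = img g' A := Set.image_congr h

theorem img_subset_iff {g : G} {A : Set G} {B : Set G} :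
    img g A ⊆ B ↔ ∀ a ∈ A, g * a * g⁻¹ ∈ B := by simp [img, Set.image_subset_iff, Set.subset_def]

theorem closure_img (g : G) (A : Set G) :
    Subgroup.closure (img g A) = cnj g (Subgroup.closure A) :=
  (MonoidHom.map_closure (MulAut.conj g).toMonoidHom A).symm

theorem img_subset_of_mem_nrm {g : G} {T : Subgroup G} (hg : g ∈ nrm T) {A : Set G}
    (hA : A ⊆ T) : img g A ⊆ T :=
  img_subset_iff.2 fun _ ha => conj_mem_of_nrm hg (hA ha)

/-! ### Conjugation families -/

/-- `g` is a product of steps inside normalizers of members of `𝓕`, each member containing the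
corresponding conjugate of `A`. -/
inductive Reach (𝓕 : Set (Subgroup G)) : Set G → G → Prop
  | one (A : Set G) : Reach 𝓕 A 1
  | cons {A : Set G} {T : Subgroup G} {x g : G} : T ∈ 𝓕 → A ⊆ T → x ∈ nrm T →
      Reach 𝓕 (img x A) g → Reach 𝓕 A (g * x)

namespace Reach

variable {𝓕 : Set (Subgroup G)}

theorem single {A : Set G} {T : Subgroup G} {x : G} (hT : T ∈ 𝓕) (hA : A ⊆ T)
    (hx : x ∈ nrm T) : Reach 𝓕 A x := by
  simpa using Reach.cons hT hA hx (.one _)

theorem trans {A : Set G} {g h : G} (h₁ : Reach 𝓕 A g) (h₂ : Reach 𝓕 (img g A) h) :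
    Reach 𝓕 A (h * g) := by
  induction h₁ with
  | one A => simpa [img_one] using h₂
  | cons hT hA hx _ ih =>
    rw [← mul_assoc]
    exact .cons hT hA hx (ih (by simpa [img_img] using h₂))

theorem inv {A : Set G} {g : G} (h : Reach 𝓕 A g) : Reach 𝓕 (img g A) g⁻¹ := by
  induction h with
  | one A => simpa [img_one] using Reach.one A
  | @cons A T x g hT hA hx _ ih =>
    rw [← img_img, mul_inv_rev]
    refine ih.trans ?_
    rw [img_inv_img]
    exact single hT (img_subset_of_mem_nrm hx hA) (Subgroup.inv_mem _ hx)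

theorem mono {A B : Set G} {g : G} (h : Reach 𝓕 A g) (hB : B ⊆ A) : Reach 𝓕 B g := by
  induction h generalizing B with
  | one A => exact .one B
  | cons hT hA hx _ ih => exact .cons hT (hB.trans hA) hx (ih (img_mono hB))

theorem filter {Ψ : Set (Subgroup G)} (Φ : Set G → Prop)
    (hΦ : ∀ A x, Φ A → Φ (img x A)) (hsub : ∀ A, ∀ T ∈ 𝓕, A ⊆ (T : Set G) → Φ A → T ∈ Ψ)
    {A : Set G} {g : G} (h : Reach 𝓕 A g) (hA : Φ A) : Reach Ψ A g := by
  induction h with
  | one A => exact .one A
  | cons hT hA' hx _ ih => exact .cons (hsub _ _ hT hA' hA) hA' hx (ih (hΦ _ _ hA))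

theorem to_family {A : Set G} {g : G} (h : Reach 𝓕 A g) :
    ∃ (n : ℕ) (T : Fin n → Subgroup G) (x : Fin n → G), (List.ofFn x).prod = g⁻¹ ∧
      (∀ i, T i ∈ 𝓕) ∧ (∀ i, x i ∈ Subgroup.normalizer ((T i : Subgroup G) : Set G)) ∧
      (∀ h : 0 < n, A ⊆ T ⟨0, h⟩) ∧
      ∀ (i : Fin n) (h : i.val + 1 < n),
        (fun a => (((List.ofFn x).take (i.val + 1)).prod)⁻¹ * a * ((List.ofFn x).take (i.val + 1)).prod) '' A ⊆
          T ⟨i.val + 1, h⟩ := by
  induction h with
  | one A =>
    exact ⟨0, Fin.elim0, Fin.elim0, by simp, fun i => i.elim0, fun i => i.elim0,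
      fun h => absurd h (lt_irrefl 0), fun i => i.elim0⟩
  | @cons A T₀ x₀ g hT hA hx _ ih =>
    obtain ⟨n, T, x, hp, hmem, hnm, h0, hstep⟩ := ih
    refine ⟨n + 1, Fin.cons T₀ T, Fin.cons x₀⁻¹ x, by simp [List.ofFn_succ, hp],
      Fin.cases hT hmem, Fin.cases (Subgroup.inv_mem _ hx) hnm, fun _ => hA, ?_⟩
    intro i h
    cases i using Fin.cases with
    | zero =>
      have := h0 (by simpa using h)
      rw [img_subset_iff] at this
      rintro y ⟨a, ha, rfl⟩
      have e : (⟨(0 : Fin (n + 1)).val + 1, h⟩ : Fin (n + 1)) = Fin.succ ⟨0, by simpa using h⟩ :=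
        Fin.ext (by simp)
      rw [e, Fin.cons_succ]
      simpa [List.ofFn_succ] using this a ha
    | succ i =>
      rintro y ⟨a, ha, rfl⟩
      have hi : i.val + 1 < n := by simpa using h
      have e : (⟨i.succ.val + 1, h⟩ : Fin (n + 1)) = Fin.succ ⟨i.val + 1, hi⟩ := Fin.ext (by simp)
      rw [e, Fin.cons_succ]
      have := hstep i hi ⟨_, ⟨a, ha, rfl⟩, rfl⟩
      simp only [Fin.val_succ, List.ofFn_succ, List.take_succ_cons, List.prod_cons, Fin.cons_zero,
        Fin.cons_succ]
      convert this using 1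
      simp [mul_inv_rev, inv_inv, mul_assoc]

theorem of_family_aux (n : ℕ) : ∀ (A : Set G) (T : Fin n → Subgroup G) (x : Fin n → G),
      (∀ i, T i ∈ 𝓕) → (∀ i, x i ∈ nrm (T i)) →
      (∀ h : 0 < n, A ⊆ T ⟨0, h⟩) →
      (∀ (i : Fin n) (h : i.val + 1 < n),
        (fun a => (((List.ofFn x).take (i.val + 1)).prod)⁻¹ * a * ((List.ofFn x).take (i.val + 1)).prod) '' A ⊆
          T ⟨i.val + 1, h⟩) → Reach 𝓕 A ((List.ofFn x).prod)⁻¹ := by
  induction n with
  | zero => intro A T x _ _ _ _; simpa using Reach.one A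
  | succ n ih =>
    intro A T x hmem hnm h0 hstep
    rw [List.ofFn_succ, List.prod_cons, mul_inv_rev]
    refine .cons (hmem 0) (h0 n.succ_pos) (Subgroup.inv_mem _ (hnm 0))
      (ih _ (fun i => T i.succ) _ (fun i => hmem _) (fun i => hnm _) (fun h => ?_) ?_)
    · rintro y ⟨a, ha, rfl⟩
      have := hstep 0 (by simpa using h) ⟨a, ha, rfl⟩
      simpa [List.ofFn_succ] using this
    · rintro i h y ⟨b, ⟨a, ha, rfl⟩, rfl⟩
      have := hstep i.succ (by simpa using h) ⟨a, ha, rfl⟩
      simp only [Fin.val_succ, List.ofFn_succ, List.take_succ_cons, List.prod_cons] at this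
      convert this using 1
      · rfl
      · simp only [mul_inv_rev, inv_inv, mul_assoc]

end Reach

theorem isConjugationFamily_of_reach {𝓕 : Set (Subgroup G)} {S : Subgroup G}
    (hle : ∀ T ∈ 𝓕, T ≤ S)
    (h : ∀ (A : Set G) (g : G), A ⊆ S → img g A ⊆ S → Reach 𝓕 A g) :
    IsConjugationFamily 𝓕 S := by
  refine ⟨hle, fun A g _ hA hg => ?_⟩
  obtain ⟨n, T, x, hp, h'⟩ := (h A g⁻¹ hA (by simpa [img] using hg)).to_family
  exact ⟨n, T, x, by simpa using hp, h'⟩

theorem reach_of_isConjugationFamily {𝓕 : Set (Subgroup G)} {S : Subgroup G}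
    (h : IsConjugationFamily 𝓕 S) (A : Set G) (g : G) (hA : A ⊆ S) (hg : img g A ⊆ S) :
    Reach 𝓕 A g := by
  have key : Reach 𝓕 (insert 1 A) g := by
    have hA' : insert 1 A ⊆ (S : Set G) := Set.insert_subset S.one_mem hA
    have hg' : (fun a => (g⁻¹)⁻¹ * a * g⁻¹) '' (insert 1 A) ⊆ (S : Set G) := by
      rw [Set.image_insert_eq]
      exact Set.insert_subset (by simp) (by simpa [img] using hg)
    obtain ⟨n, T, x, hp, h1, h2, h3, h4⟩ :=
      h.2 (insert 1 A) g⁻¹ (Set.insert_nonempty _ _) hA' hg'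
    have := Reach.of_family_aux n _ T x h1 h2 h3 h4
    rwa [hp, inv_inv] at this
  exact key.mono (Set.subset_insert _ _)

variable [Finite G] [Fact p.Prime]

/-- Alperin's argument: a set of subgroups of `S` meeting every conjugacy class in a fully
normalized member reaches all fusion in `S`. -/
theorem reach_of_criterion (S : Sylow p G) {𝓕 : Set (Subgroup G)}
    (hle : ∀ U ∈ 𝓕, U ≤ (S : Subgroup G))
    (hcrit : ∀ T : Subgroup G, T ≤ (S : Subgroup G) →
      ∃ U ∈ 𝓕, (∃ g, cnj g T = U) ∧ Fully p (S : Subgroup G) U) :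
    ∀ (A : Set G) (g : G), A ⊆ (S : Subgroup G) → img g A ⊆ (S : Subgroup G) →
      Reach 𝓕 A g := by
  suffices key : ∀ (k : ℕ) (T : Subgroup G), Nat.card ↥(S : Subgroup G) ≤ Nat.card ↥T + k →
      T ≤ (S : Subgroup G) → ∀ g : G, cnj g T ≤ (S : Subgroup G) → Reach 𝓕 (T : Set G) g by
    intro A g hA hg
    refine (key _ (Subgroup.closure A) le_add_self ((Subgroup.closure_le _).2 hA) g ?_).mono
      Subgroup.subset_closure
    rw [← closure_img]
    exact (Subgroup.closure_le _).2 hg
  intro k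
  induction k using Nat.strong_induction_on with
  | _ k ih =>
    intro T hk hT g hg
    obtain ⟨U, hU, ⟨g₀, hg₀⟩, hUf⟩ := hcrit T hT
    by_cases hTS : T = (S : Subgroup G)
    · subst hTS
      have h1 : U = (S : Subgroup G) :=
        Subgroup.eq_of_le_of_card_ge (hle U hU) (by rw [← hg₀, card_cnj])
      subst h1
      have h2 : cnj g (S : Subgroup G) = S :=
        Subgroup.eq_of_le_of_card_ge hg (by rw [card_cnj])
      exact Reach.single hU subset_rfl (mem_nrm_iff_cnj.2 h2)
    · have step : ∀ (T' : Subgroup G), T' ≤ (S : Subgroup G) → Nat.card ↥T' = Nat.card ↥T →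
          T' ≠ (S : Subgroup G) → ∀ g' : G, cnj g' T' = U →
            ∃ y, cnj y T' = U ∧ Reach 𝓕 (T' : Set G) y := by
        intro T' hT' hc hne g' hg'
        obtain ⟨n, -, hn1, hn2⟩ := exists_adjust S.2 hUf hg'
        refine ⟨n * g', hn1, ?_⟩
        have hlt := lt_inf_nrm S.2 hT' hne
        have h1 : Nat.card ↥T' < Nat.card ↥((S : Subgroup G) ⊓ nrm T') :=
          (Subgroup.card_le_of_le hlt.le).lt_of_ne
            fun he => hlt.ne (Subgroup.eq_of_le_of_card_ge hlt.le he.ge)
        have h2 : Nat.card ↥((S : Subgroup G) ⊓ nrm T') ≤ Nat.card ↥(S : Subgroup G) :=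
          Subgroup.card_le_of_le inf_le_left
        refine (ih (Nat.card ↥(S : Subgroup G) - Nat.card ↥((S : Subgroup G) ⊓ nrm T')) (by omega)
          _ (by omega) inf_le_left _ (hn2.trans inf_le_left)).mono ?_
        exact le_inf hT' Subgroup.le_normalizer
      obtain ⟨x, hx, hxr⟩ := step T hT rfl hTS g₀ hg₀
      have hTS' : cnj g T ≠ (S : Subgroup G) := fun he =>
        hTS (Subgroup.eq_of_le_of_card_ge hT (by rw [← card_cnj g T, he]))
      obtain ⟨y, hy, hyr⟩ := step (cnj g T) hg (card_cnj g T) hTS' (g₀ * g⁻¹)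
        (by rw [cnj_cnj, inv_mul_cancel_right, hg₀])
      have hz : y * g * x⁻¹ ∈ nrm U := by
        rw [mem_nrm_iff_cnj, mul_assoc, ← cnj_cnj, ← cnj_cnj]
        rw [← hx, cnj_inv_cnj, hy]
        exact hx.symm
      have h1 : Reach 𝓕 (T : Set G) (y * g * x⁻¹ * x) := by
        refine hxr.trans ?_
        rw [← coe_cnj, hx]
        exact Reach.single hU subset_rfl hz
      rw [inv_mul_cancel_right] at h1
      have h2 : Reach 𝓕 (T : Set G) (y⁻¹ * (y * g)) := by
        refine h1.trans ?_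
        have := hyr.inv
        rw [coe_cnj, img_img] at this
        exact this
      simpa using h2

/-- The fully normalized subgroups of `S`. -/
def fullyFamily (p : ℕ) (S : Subgroup G) : Set (Subgroup G) := {T | T ≤ S ∧ Fully p S T}

theorem reach_fully (S : Sylow p G) (A : Set G) (g : G) (hA : A ⊆ (S : Subgroup G))
    (hg : img g A ⊆ (S : Subgroup G)) : Reach (fullyFamily p (S : Subgroup G)) A g := by
  refine reach_of_criterion S (fun U hU => hU.1) (fun T hT => ?_) A g hA hg
  obtain ⟨x, hx, hxf, -⟩ := exists_fully S hT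
  exact ⟨_, ⟨hx, hxf⟩, ⟨x, rfl⟩, hxf⟩

end Cfsg.Agent.ConjFunctor
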