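import Mathlib.GroupTheory.Sylow
import Mathlib.GroupTheory.Nilpotent
import Mathlib.GroupTheory.QuotientGroup.Basic
import Cfsg.Prelude.Def_ConjugacyFunctors

/-!
Basic facts used by the conjugacy functor library: conjugates of subgroups, Sylow subgroups of
subgroups, fully normalized subgroups, and the transport properties of induced functors.
-/

set_option autoImplicit false

namespace Cfsg.Agent.ConjFunctor

universe u

variable {G : Type*} [Group G] {p : ℕ}

/-- The conjugate `g T g⁻¹`. -/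
abbrev cnj (g : G) (T : Subgroup G) : Subgroup G := T.map (MulAut.conj g).toMonoidHom

/-- The normalizer of a subgroup. -/
abbrev nrm (T : Subgroup G) : Subgroup G := Subgroup.normalizer (T : Set G)

theorem mem_cnj {g : G} {T : Subgroup G} {x : G} : x ∈ cnj g T ↔ g⁻¹ * x * g ∈ T := by
  constructor
  · rintro ⟨t, ht, rfl⟩
    simpa [mul_assoc] using ht
  · intro h
    exact ⟨g⁻¹ * x * g, h, by simp [mul_assoc]⟩

theorem conj_mem_cnj {g : G} {T : Subgroup G} {t : G} : g * t * g⁻¹ ∈ cnj g T ↔ t ∈ T := by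
  rw [mem_cnj]; simp [mul_assoc]

theorem cnj_one (T : Subgroup G) : cnj 1 T = T := by
  ext x; simp [mem_cnj]

theorem cnj_cnj (g h : G) (T : Subgroup G) : cnj g (cnj h T) = cnj (g * h) T := by
  ext x; simp [mem_cnj, mul_assoc]

theorem cnj_inv_cnj (g : G) (T : Subgroup G) : cnj g⁻¹ (cnj g T) = T := by
  rw [cnj_cnj, inv_mul_cancel, cnj_one]

theorem cnj_cnj_inv (g : G) (T : Subgroup G) : cnj g (cnj g⁻¹ T) = T := by
  rw [cnj_cnj, mul_inv_cancel, cnj_one]

theorem cnj_le_cnj {g : G} {S T : Subgroup G} : cnj g S ≤ cnj g T ↔ S ≤ T :=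
  Subgroup.map_le_map_iff_of_injective (MulAut.conj g).injective

theorem cnj_le_iff {g : G} {S T : Subgroup G} : cnj g S ≤ T ↔ S ≤ cnj g⁻¹ T := by
  conv_lhs => rw [← cnj_cnj_inv g T]
  exact cnj_le_cnj

theorem cnj_inj {g : G} {S T : Subgroup G} : cnj g S = cnj g T ↔ S = T :=
  (Subgroup.map_injective (MulAut.conj g).injective).eq_iff

theorem cnj_eq_bot {g : G} {T : Subgroup G} : cnj g T = ⊥ ↔ T = ⊥ :=
  Subgroup.map_eq_bot_iff_of_injective T (MulAut.conj g).injective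

theorem cnj_inf (g : G) (S T : Subgroup G) : cnj g (S ⊓ T) = cnj g S ⊓ cnj g T :=
  Subgroup.map_inf S T _ (MulAut.conj g).injective

theorem cnj_normal (g : G) (T : Subgroup G) [T.Normal] : cnj g T = T := by
  ext x
  rw [mem_cnj]
  constructor
  · intro h
    simpa [mul_assoc] using ‹T.Normal›.conj_mem _ h g
  · intro h
    simpa using ‹T.Normal›.conj_mem _ h g⁻¹

theorem mem_nrm_iff_cnj {g : G} {T : Subgroup G} : g ∈ nrm T ↔ cnj g T = T :=
  Subgroup.mem_normalizer_iff_map_conj_eq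

theorem mem_nrm_iff {g : G} {T : Subgroup G} : g ∈ nrm T ↔ ∀ x, x ∈ T ↔ g * x * g⁻¹ ∈ T :=
  Subgroup.mem_normalizer_iff

theorem conj_mem_of_nrm {g x : G} {T : Subgroup G} (hg : g ∈ nrm T) (hx : x ∈ T) :
    g * x * g⁻¹ ∈ T :=
  (mem_nrm_iff.1 hg x).1 hx

theorem mem_nrm_of_forall [Finite G] {g : G} {T : Subgroup G} (h : ∀ x ∈ T, g * x * g⁻¹ ∈ T) :
    g ∈ nrm T := by
  rw [mem_nrm_iff_cnj]
  refine SetLike.coe_injective (Set.eq_of_subset_of_ncard_le ?_ ?_ (Set.toFinite _))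
  · rintro y ⟨x, hx, rfl⟩
    exact h x hx
  · rw [Set.ncard_def, Set.ncard_def]
    simp [Set.InjOn.encard_image (MulAut.conj g).injective.injOn]

theorem cnj_nrm (g : G) (T : Subgroup G) : cnj g (nrm T) = nrm (cnj g T) := by
  ext x
  rw [mem_cnj, mem_nrm_iff_cnj, mem_nrm_iff_cnj, cnj_cnj]
  conv_lhs => rw [← cnj_inj (g := g), cnj_cnj]
  simp [mul_assoc]

theorem cnj_centralizer (g : G) (T : Subgroup G) :
    cnj g (Subgroup.centralizer (T : Set G)) = Subgroup.centralizer (cnj g T : Set G) := by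
  ext x
  rw [mem_cnj, Subgroup.mem_centralizer_iff, Subgroup.mem_centralizer_iff]
  constructor
  · rintro h y ⟨t, ht, rfl⟩
    have := h t ht
    calc g * t * g⁻¹ * x = g * (t * (g⁻¹ * x * g)) * g⁻¹ := by group
      _ = g * ((g⁻¹ * x * g) * t) * g⁻¹ := by rw [this]
      _ = x * (g * t * g⁻¹) := by group
  · intro h t ht
    have := h (g * t * g⁻¹) (Subgroup.mem_map_of_mem _ ht)
    calc t * (g⁻¹ * x * g) = g⁻¹ * (g * t * g⁻¹ * x) * g := by group
      _ = g⁻¹ * (x * (g * t * g⁻¹)) * g := by rw [this]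
      _ = g⁻¹ * x * g * t := by group

theorem relIndex_cnj (g : G) (S T : Subgroup G) : (cnj g S).relIndex (cnj g T) = S.relIndex T :=
  Subgroup.relIndex_map_map_of_injective S T (MulAut.conj g).injective

theorem card_cnj (g : G) (T : Subgroup G) : Nat.card ↥(cnj g T) = Nat.card ↥T :=
  Subgroup.card_map_of_injective (MulAut.conj g).injective

theorem isPGroup_cnj {g : G} {T : Subgroup G} (hT : IsPGroup p ↥T) : IsPGroup p ↥(cnj g T) :=
  hT.map _

theorem nrm_eq_top (T : Subgroup G) [T.Normal] : nrm T = ⊤ := Subgroup.normalizer_eq_top T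

theorem cnj_of_mem {g : G} {T : Subgroup G} (hg : g ∈ T) : cnj g T = T :=
  mem_nrm_iff_cnj.1 (Subgroup.le_normalizer hg)

/-! ### Sylow subgroups of subgroups -/

/-- `T` is a Sylow `p`-subgroup of the subgroup `H`, in the form used by the definitions. -/
def IsSylowIn (p : ℕ) (T H : Subgroup G) : Prop :=
  T ≤ H ∧ IsPGroup p ↥T ∧ ¬ p ∣ T.relIndex H

namespace IsSylowIn

variable {T H : Subgroup G}

theorem le (h : IsSylowIn p T H) : T ≤ H := h.1

theorem isPGroup (h : IsSylowIn p T H) : IsPGroup p ↥T := h.2.1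

theorem map_conj (h : IsSylowIn p T H) (g : G) : IsSylowIn p (cnj g T) (cnj g H) :=
  ⟨cnj_le_cnj.2 h.1, isPGroup_cnj h.2.1, by rw [relIndex_cnj]; exact h.2.2⟩

theorem mono (h : IsSylowIn p T H) {K : Subgroup G} (hTK : T ≤ K) (hKH : K ≤ H) :
    IsSylowIn p T K :=
  ⟨hTK, h.2.1, fun hd => h.2.2 (hd.trans (by
    rw [← Subgroup.relIndex_mul_relIndex T K H hTK hKH]; exact dvd_mul_right _ _))⟩

variable [Fact p.Prime]

theorem exists_sylow (h : IsSylowIn p T H) : ∃ P : Sylow p ↥H, (P : Subgroup ↥H).map H.subtype = T := by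
  have hp : IsPGroup p ↥(T.subgroupOf H) := h.2.1.comap_subtype
  refine ⟨hp.toSylow h.2.2, ?_⟩
  show (T.subgroupOf H).map H.subtype = T
  rw [Subgroup.subgroupOf_map_subtype, inf_of_le_left h.1]

theorem of_sylow [Finite G] {H : Subgroup G} (P : Sylow p ↥H) :
    IsSylowIn p ((P : Subgroup ↥H).map H.subtype) H := by
  refine ⟨Subgroup.map_subtype_le _, P.2.map _, ?_⟩
  rw [Subgroup.relIndex, Subgroup.subgroupOf,
    Subgroup.comap_map_eq_self_of_injective H.subtype_injective]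
  exact P.not_dvd_index

/-- A `p`-subgroup of `H` is conjugate in `H` into a Sylow subgroup of `H`. -/
theorem exists_cnj_le [Finite G] (h : IsSylowIn p T H) {Q : Subgroup G} (hQ : IsPGroup p ↥Q)
    (hQH : Q ≤ H) : ∃ x ∈ H, cnj x Q ≤ T := by
  obtain ⟨P, hP⟩ := h.exists_sylow
  obtain ⟨P', hP'⟩ := (hQ.comap_subtype : IsPGroup p ↥(Q.subgroupOf H)).exists_le_sylow
  obtain ⟨x, hx⟩ := MulAction.exists_smul_eq ↥H P' P
  refine ⟨x, x.2, ?_⟩
  rintro y ⟨q, hq, rfl⟩
  have hq' : (⟨q, hQH hq⟩ : ↥H) ∈ P' := hP' hq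
  have : x * ⟨q, hQH hq⟩ * x⁻¹ ∈ P := by
    rw [← hx]
    exact Subgroup.smul_mem_pointwise_smul _ (MulAut.conj x) _ hq'
  rw [← hP]
  exact ⟨x * ⟨q, hQH hq⟩ * x⁻¹, this, rfl⟩

theorem card_le [Finite G] (h : IsSylowIn p T H) {Q : Subgroup G} (hQ : IsPGroup p ↥Q)
    (hQH : Q ≤ H) : Nat.card ↥Q ≤ Nat.card ↥T := by
  obtain ⟨x, -, hx⟩ := h.exists_cnj_le hQ hQH
  rw [← card_cnj x Q]
  exact Subgroup.card_le_of_le hx

theorem eq_of_le [Finite G] (h : IsSylowIn p T H) {Q : Subgroup G} (hQ : IsPGroup p ↥Q)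
    (hQH : Q ≤ H) (hTQ : T ≤ Q) : Q = T :=
  (Subgroup.eq_of_le_of_card_ge hTQ (h.card_le hQ hQH)).symm

theorem exists_cnj_eq [Finite G] (h : IsSylowIn p T H) {T' : Subgroup G} (h' : IsSylowIn p T' H) :
    ∃ x ∈ H, cnj x T' = T := by
  obtain ⟨x, hxH, hx⟩ := h.exists_cnj_le h'.isPGroup h'.le
  refine ⟨x, hxH, Subgroup.eq_of_le_of_card_ge hx ?_⟩
  rw [card_cnj]
  exact h'.card_le h.isPGroup h.le

end IsSylowIn

theorem isSylowIn_top [Fact p.Prime] [Finite G] (S : Sylow p G) :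
    IsSylowIn p (S : Subgroup G) ⊤ :=
  ⟨le_top, S.2, by rw [Subgroup.relIndex_top_right]; exact S.not_dvd_index⟩

theorem IsSylowIn.exists_top [Fact p.Prime] {T : Subgroup G} (h : IsSylowIn p T ⊤) :
    ∃ S : Sylow p G, (S : Subgroup G) = T :=
  ⟨h.isPGroup.toSylow (by simpa [Subgroup.relIndex_top_right] using h.2.2), rfl⟩

theorem sylow_isSylowIn [Fact p.Prime] [Finite G] (S : Sylow p G) {H : Subgroup G}
    (h : (S : Subgroup G) ≤ H) : IsSylowIn p (S : Subgroup G) H :=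
  (isSylowIn_top S).mono h le_top

theorem exists_isSylowIn [Fact p.Prime] [Finite G] (H : Subgroup G) {Q : Subgroup G}
    (hQ : IsPGroup p ↥Q) (hQH : Q ≤ H) : ∃ T, IsSylowIn p T H ∧ Q ≤ T := by
  obtain ⟨P, hP⟩ := (hQ.comap_subtype : IsPGroup p ↥(Q.subgroupOf H)).exists_le_sylow
  refine ⟨_, IsSylowIn.of_sylow P, fun q hq => ?_⟩
  exact ⟨⟨q, hQH hq⟩, hP hq, rfl⟩

theorem exists_isSylowIn' (p : ℕ) [Fact p.Prime] [Finite G] (H : Subgroup G) :
    ∃ T, IsSylowIn p T H :=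
  ⟨_, IsSylowIn.of_sylow (default : Sylow p ↥H)⟩

/-- A Sylow subgroup of `G` meets a normal subgroup in a Sylow subgroup of it. -/
theorem isSylowIn_inf_of_normal [Fact p.Prime] [Finite G] {S H : Subgroup G}
    (hS : IsSylowIn p S H) {L : Subgroup G} (hLH : L ≤ H) (hn : H ≤ nrm L) :
    IsSylowIn p (S ⊓ L) L := by
  obtain ⟨P, hP, -⟩ := exists_isSylowIn L (IsPGroup.of_bot (G := G) (p := p)) bot_le
  obtain ⟨x, hxH, hx⟩ := hS.exists_cnj_le hP.isPGroup (hP.le.trans hLH)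
  have hxL : cnj x L = L := mem_nrm_iff_cnj.1 (hn hxH)
  have h1 : IsSylowIn p (cnj x P) L := hxL ▸ hP.map_conj x
  rwa [h1.eq_of_le hS.isPGroup.to_inf_left inf_le_right (le_inf hx h1.le)]

/-- The Frattini argument inside a subgroup. -/
theorem exists_mul_of_frattini [Fact p.Prime] [Finite G] {L P : Subgroup G}
    (hP : IsSylowIn p P L) {g : G} (hg : g ∈ nrm L) :
    ∃ c ∈ L, ∃ n ∈ nrm P, g = c * n := by
  have h1 : IsSylowIn p (cnj g P) L := by
    have := hP.map_conj g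
    rwa [mem_nrm_iff_cnj.1 hg] at this
  obtain ⟨x, hx, he⟩ := hP.exists_cnj_eq h1
  refine ⟨x⁻¹, L.inv_mem hx, x * g, mem_nrm_iff_cnj.2 ?_, by group⟩
  rw [← cnj_cnj]; exact he

/-! ### Fully normalized subgroups -/

/-- `N_S(T)` has index prime to `p` in `N_G(T)`. -/
def Fully (p : ℕ) (S T : Subgroup G) : Prop :=
  ¬ p ∣ (S ⊓ nrm T).relIndex (nrm T)

theorem Fully.isSylowIn {S T : Subgroup G} (h : Fully p S T) (hS : IsPGroup p ↥S) :
    IsSylowIn p (S ⊓ nrm T) (nrm T) :=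
  ⟨inf_le_right, hS.to_inf_left, h⟩

theorem fully_self [Fact p.Prime] [Finite G] (S : Sylow p G) :
    Fully p (S : Subgroup G) (S : Subgroup G) := by
  unfold Fully
  rw [inf_of_le_left Subgroup.le_normalizer]
  exact (sylow_isSylowIn S Subgroup.le_normalizer).2.2

theorem fully_of_normal [Fact p.Prime] [Finite G] (S : Sylow p G) (T : Subgroup G)
    (h : (S : Subgroup G) ≤ nrm T) : Fully p (S : Subgroup G) T := by
  unfold Fully
  rw [inf_of_le_left h]
  exact (sylow_isSylowIn S h).2.2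

theorem exists_cnj_le_sylow [Fact p.Prime] [Finite G] (S : Sylow p G) {Q : Subgroup G}
    (hQ : IsPGroup p ↥Q) : ∃ g, cnj g Q ≤ (S : Subgroup G) := by
  obtain ⟨x, -, hx⟩ := (isSylowIn_top S).exists_cnj_le hQ le_top
  exact ⟨x, hx⟩

/-- Every subgroup of a Sylow subgroup has a fully normalized conjugate, reached by an element that
carries its normalizer in `S` into the normalizer of the conjugate. -/
theorem exists_fully [Fact p.Prime] [Finite G] (S : Sylow p G) {T : Subgroup G}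
    (hT : T ≤ (S : Subgroup G)) :
    ∃ g, cnj g T ≤ (S : Subgroup G) ∧ Fully p (S : Subgroup G) (cnj g T) ∧
      cnj g ((S : Subgroup G) ⊓ nrm T) ≤ (S : Subgroup G) ⊓ nrm (cnj g T) := by
  obtain ⟨P, hP, hle⟩ := exists_isSylowIn (nrm T) (S.2.to_inf_left (K := nrm T)) inf_le_right
  obtain ⟨g, hg⟩ := exists_cnj_le_sylow S hP.isPGroup
  have hg' : cnj g ((S : Subgroup G) ⊓ nrm T) ≤ (S : Subgroup G) := (cnj_le_cnj.2 hle).trans hg
  refine ⟨g, le_trans (cnj_le_cnj.2 (le_inf hT Subgroup.le_normalizer)) hg', ?_, ?_⟩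
  · have h1 : IsSylowIn p (cnj g P) (nrm (cnj g T)) := by
      have := hP.map_conj g; rwa [cnj_nrm] at this
    unfold Fully
    rw [h1.eq_of_le (S.2.to_inf_left) inf_le_right (le_inf hg h1.le)]
    exact h1.2.2
  · refine le_inf hg' ?_
    rw [← cnj_nrm]
    exact cnj_le_cnj.2 inf_le_right

/-- An element conjugating `T` to a fully normalized `U` can be corrected so that it carries
`N_S(T)` into `N_S(U)`. -/
theorem exists_adjust [Fact p.Prime] [Finite G] {S : Subgroup G} (hS : IsPGroup p ↥S)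
    {T U : Subgroup G} (hU : Fully p S U) {g : G} (hg : cnj g T = U) :
    ∃ n ∈ nrm U, cnj (n * g) T = U ∧ cnj (n * g) (S ⊓ nrm T) ≤ S ⊓ nrm U := by
  have h1 : cnj g (S ⊓ nrm T) ≤ nrm U := by
    rw [← hg, ← cnj_nrm]; exact cnj_le_cnj.2 inf_le_right
  obtain ⟨n, hn, hle⟩ := (hU.isSylowIn hS).exists_cnj_le (isPGroup_cnj hS.to_inf_left) h1
  refine ⟨n, hn, ?_, ?_⟩
  · rw [← cnj_cnj, hg]; exact mem_nrm_iff_cnj.1 hn
  · rw [← cnj_cnj]; exact hle

theorem lt_inf_nrm [Fact p.Prime] [Finite G] {S T : Subgroup G} (hS : IsPGroup p ↥S)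
    (hTS : T ≤ S) (hne : T ≠ S) : T < S ⊓ nrm T := by
  refine lt_of_le_of_ne (le_inf hTS Subgroup.le_normalizer) fun he => hne ?_
  have : Group.IsNilpotent ↥S := hS.isNilpotent
  by_contra hne'
  have hlt : T.subgroupOf S < ⊤ := by
    rw [lt_top_iff_ne_top, Ne, Subgroup.subgroupOf_eq_top]
    exact fun h => hne' (le_antisymm hTS h)
  have hn := Group.normalizerCondition_of_isNilpotent (T.subgroupOf S) hlt
  rw [← Subgroup.subgroupOf_normalizer_eq hTS] at hn
  have h' : (nrm T).subgroupOf S = T.subgroupOf S := by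
    rw [Subgroup.subgroupOf_inj, inf_comm, ← he, inf_of_le_left hTS]
  exact hn.ne h'.symm

/-! ### Induced functors -/

theorem inducedFunctor_le {G : Type u} [Group G] (W : ∀ (Q : Type u) [Group Q], Subgroup Q)
    (P : Subgroup G) : inducedFunctor W P ≤ P :=
  Subgroup.map_subtype_le _

/-- Isomorphism invariance, read inside groups: a homomorphism injective on the `p`-subgroup `P`
commutes with the induced functor at `P`. -/
theorem inducedFunctor_map {G H : Type u} [Group G] [Group H]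
    {W : ∀ (Q : Type u) [Group Q], Subgroup Q} (hW : IsCharPFunctor.{u} p W) (f : G →* H)
    (P : Subgroup G) [Finite ↥P] (hP : IsPGroup p ↥P) (hinj : Set.InjOn f P) :
    inducedFunctor W (P.map f) = (inducedFunctor W P).map f := by
  let e : ↥P ≃* ↥(P.map f) := MulEquiv.ofBijective (f.subgroupMap P)
    ⟨fun a b h => Subtype.ext (hinj a.2 b.2 (congrArg Subtype.val h)),
      f.subgroupMap_surjective P⟩
  unfold inducedFunctor
  rw [← hW.2 ↥P ↥(P.map f) hP e, Subgroup.map_map, Subgroup.map_map]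
  rfl

theorem isConjugacyFunctor_inducedFunctor {G : Type u} [Group G] [Finite G]
    {W : ∀ (Q : Type u) [Group Q], Subgroup Q} (hW : IsCharPFunctor.{u} p W) :
    IsConjugacyFunctor p (inducedFunctor (G := G) W) := fun P hP =>
  ⟨inducedFunctor_le W P, fun hne h => by
      haveI : Nontrivial ↥P := (Subgroup.nontrivial_iff_ne_bot P).2 hne
      exact hW.1 ↥P hP inferInstance
        ((Subgroup.map_eq_bot_iff_of_injective _ P.subtype_injective).1 h),
    fun g => inducedFunctor_map hW _ P hP (MulAut.conj g).injective.injOn⟩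

section Functor

variable {W : Subgroup G → Subgroup G} (hW : IsConjugacyFunctor p W) {P : Subgroup G}
  (hP : IsPGroup p ↥P)
include hW hP

theorem functor_le : W P ≤ P := (hW P hP).1

theorem functor_isPGroup : IsPGroup p ↥(W P) := hP.to_le (hW P hP).1

theorem functor_ne_bot (h : P ≠ ⊥) : W P ≠ ⊥ := (hW P hP).2.1 h

theorem functor_cnj (g : G) : W (cnj g P) = cnj g (W P) := (hW P hP).2.2 g

theorem nrm_le_nrm_functor : nrm P ≤ nrm (W P) := fun g hg => by
  rw [mem_nrm_iff_cnj, ← functor_cnj hW hP, mem_nrm_iff_cnj.1 hg]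

theorem le_nrm_functor : P ≤ nrm (W P) :=
  Subgroup.le_normalizer.trans (nrm_le_nrm_functor hW hP)

end Functor

end Cfsg.Agent.ConjFunctor
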