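import Cfsg.Agent.ConjFunctor.Fusion

/-!
Well placed subgroups: existence of well placed conjugates and the conjugation family they form.
-/

set_option autoImplicit false

namespace Cfsg.Agent.ConjFunctor

variable {G : Type*} [Group G] {p : ℕ} {W : Subgroup G → Subgroup G}

theorem functorTower_shift (W : Subgroup G → Subgroup G) (S T : Subgroup G) (i : ℕ) :
    functorTower W S T (i + 1) = functorTower W S (W (S ⊓ nrm T)) i := by
  induction i with
  | zero => rfl
  | succ i ih =>
    show W (S ⊓ nrm (functorTower W S T (i + 1))) = W (S ⊓ nrm _)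
    rw [ih]

theorem isWellPlaced_fully {S T : Subgroup G} (h : IsWellPlaced p W S T) : Fully p S T := h.2 0

theorem isWellPlaced_next {S T : Subgroup G} (hW : IsConjugacyFunctor p W) (hS : IsPGroup p ↥S)
    (h : IsWellPlaced p W S T) : IsWellPlaced p W S (W (S ⊓ nrm T)) :=
  ⟨(functor_le hW hS.to_inf_left).trans inf_le_left, fun i => by
    rw [← functorTower_shift]; exact h.2 (i + 1)⟩

theorem isWellPlaced_of_tail {S T : Subgroup G} (hT : T ≤ S) (h0 : Fully p S T)
    (h : IsWellPlaced p W S (W (S ⊓ nrm T))) : IsWellPlaced p W S T := by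
  refine ⟨hT, fun i => ?_⟩
  cases i with
  | zero => exact h0
  | succ i => rw [functorTower_shift]; exact h.2 i

variable [Finite G] [Fact p.Prime]

theorem isWellPlaced_of_le_nrm (S : Sylow p G) (hW : IsConjugacyFunctor p W) {T : Subgroup G}
    (hT : T ≤ (S : Subgroup G)) (hn : (S : Subgroup G) ≤ nrm T) :
    IsWellPlaced p W (S : Subgroup G) T := by
  refine ⟨hT, fun i => fully_of_normal S _ ?_⟩
  induction i with
  | zero => exact hn
  | succ i ih =>
    show (S : Subgroup G) ≤ nrm (W ((S : Subgroup G) ⊓ _))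
    rw [inf_of_le_left ih]
    exact le_nrm_functor hW S.2

/-- Every subgroup of `S` has a well placed conjugate, reached by an element carrying its
normalizer in `S` into `S`. -/
theorem exists_wellPlaced (S : Sylow p G) (hW : IsConjugacyFunctor p W) {T : Subgroup G}
    (hT : T ≤ (S : Subgroup G)) :
    ∃ g, IsWellPlaced p W (S : Subgroup G) (cnj g T) ∧
      cnj g ((S : Subgroup G) ⊓ nrm T) ≤ (S : Subgroup G) := by
  suffices key : ∀ (k : ℕ) (T : Subgroup G),
      Nat.card ↥(S : Subgroup G) ≤ Nat.card ↥((S : Subgroup G) ⊓ nrm T) + k →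
      T ≤ (S : Subgroup G) → ∃ g, IsWellPlaced p W (S : Subgroup G) (cnj g T) ∧
        cnj g ((S : Subgroup G) ⊓ nrm T) ≤ (S : Subgroup G) from key _ T le_add_self hT
  intro k
  induction k using Nat.strong_induction_on with
  | _ k ih =>
    intro T hk hT
    obtain ⟨g, hgS, hgf, hgN⟩ := exists_fully S hT
    set U := cnj g T with hU
    set R := (S : Subgroup G) ⊓ nrm U with hR
    have hRp : IsPGroup p ↥R := S.2.to_inf_left
    by_cases hRS : R = (S : Subgroup G)
    · exact ⟨g, isWellPlaced_of_le_nrm S hW hgS (inf_eq_left.1 hRS), hgN.trans inf_le_left⟩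
    · have hWR : W R ≤ (S : Subgroup G) := (functor_le hW hRp).trans inf_le_left
      have hlt := lt_inf_nrm S.2 (inf_le_left : R ≤ _) hRS
      have h1 : Nat.card ↥R < Nat.card ↥((S : Subgroup G) ⊓ nrm R) :=
        (Subgroup.card_le_of_le hlt.le).lt_of_ne
          fun he => hlt.ne (Subgroup.eq_of_le_of_card_ge hlt.le he.ge)
      have h2 : Nat.card ↥((S : Subgroup G) ⊓ nrm R) ≤ Nat.card ↥((S : Subgroup G) ⊓ nrm (W R)) :=
        Subgroup.card_le_of_le (inf_le_inf_left _ (nrm_le_nrm_functor hW hRp))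
      have h3 : Nat.card ↥((S : Subgroup G) ⊓ nrm T) ≤ Nat.card ↥R := by
        rw [← card_cnj g ((S : Subgroup G) ⊓ nrm T)]; exact Subgroup.card_le_of_le hgN
      have h4 : Nat.card ↥((S : Subgroup G) ⊓ nrm (W R)) ≤ Nat.card ↥(S : Subgroup G) :=
        Subgroup.card_le_of_le inf_le_left
      obtain ⟨h, hwp, hle⟩ := ih
        (Nat.card ↥(S : Subgroup G) - Nat.card ↥((S : Subgroup G) ⊓ nrm (W R))) (by omega)
        _ (by omega) hWR
      have hRle : R ≤ (S : Subgroup G) ⊓ nrm (W R) :=
        le_inf inf_le_left (le_nrm_functor hW hRp)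
      have hhR : cnj h R ≤ (S : Subgroup G) := (cnj_le_cnj.2 hRle).trans hle
      have hsyl : IsSylowIn p (cnj h R) (nrm (cnj h U)) := by
        have := (hgf.isSylowIn S.2).map_conj h
        rwa [cnj_nrm] at this
      have heq : (S : Subgroup G) ⊓ nrm (cnj h U) = cnj h R :=
        hsyl.eq_of_le S.2.to_inf_left inf_le_right (le_inf hhR hsyl.le)
      refine ⟨h * g, ?_, ?_⟩
      · rw [← cnj_cnj, ← hU]
        refine isWellPlaced_of_tail ?_ ?_ ?_
        · exact (cnj_le_cnj.2 (le_inf hgS Subgroup.le_normalizer)).trans hhR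
        · unfold Fully; rw [heq]; exact hsyl.2.2
        · rw [heq, functor_cnj hW hRp]; exact hwp
      · rw [← cnj_cnj]
        exact (cnj_le_cnj.2 hgN).trans hhR

theorem reach_wellPlaced (S : Sylow p G) (hW : IsConjugacyFunctor p W) :
    ∀ (A : Set G) (g : G), A ⊆ (S : Subgroup G) → img g A ⊆ (S : Subgroup G) →
      Reach {T : Subgroup G | IsWellPlaced p W (S : Subgroup G) T} A g :=
  reach_of_criterion S (fun _ hU => hU.1) fun T hT => by
    obtain ⟨g, hg, -⟩ := exists_wellPlaced S hW hT
    exact ⟨_, hg, ⟨g, rfl⟩, isWellPlaced_fully hg⟩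

end Cfsg.Agent.ConjFunctor
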