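import Cfsg.Agent.ConjFunctor.PairDegree
import Cfsg.Agent.Fus93.Critical
import Cfsg.Prelude.Def_LocalEven

/-!
Consequences of non-normality of the `K`-infinity subgroups: degree four, and failure of
`p`-stability in a quotient.
-/

set_option autoImplicit false

open scoped commutatorElement

namespace Cfsg.Agent.ConjFunctor

open Cfsg KInf KInfEngel

universe u

variable {G : Type u} [Group G] [Finite G] {p : ℕ} [hp : Fact p.Prime]

theorem exists_crit : ∃ A : Subgroup G, Crit p A ∧
    pCore p G ⊓ Subgroup.centralizer (A : Set G) ≤ A := by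
  set Q := pCore p G with hQ
  have hQp : IsPGroup p ↥Q := Thompson.isPGroup_pCore
  obtain ⟨H, hchar, hcen, -, hcomm⟩ := Fus93.exists_critical hQp
  haveI := hchar
  haveI hHn : H.Normal := inferInstance
  set A := H.map Q.subtype with hA
  have hAn : A.Normal := ConjAct.normal_of_characteristic_of_normal
  haveI := hAn
  have hAQ : A ≤ Q := Subgroup.map_subtype_le _
  have hzc : (KInf.zc H).map Q.subtype = KInf.zc A := map_zc Q.subtype Q.subtype_injective H
  have h1 : ⁅H, (⊤ : Subgroup ↥Q)⁆ ≤ KInf.zc H := by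
    refine le_inf (Subgroup.commutator_le_left H ⊤)
      (Subgroup.commutator_le.2 fun x hx g _ => ?_)
    have h2 := hcomm x⁻¹ (H.inv_mem hx) g
    simpa [commutatorElement_def, mul_assoc] using h2
  refine ⟨A, ⟨hAQ, hAn, ?_, ?_, fun φ hφ hfix => ?_⟩, fun x hx => ?_⟩
  · have := Subgroup.map_mono (f := Q.subtype) ((Subgroup.commutator_mono le_rfl (le_top : H ≤ ⊤)).trans h1)
    rw [Subgroup.map_commutator, hzc] at this
    exact this.trans inf_le_right
  · have := Subgroup.map_mono (f := Q.subtype) h1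
    rw [Subgroup.map_commutator, hzc, ← MonoidHom.range_eq_map, Subgroup.range_subtype,
      Subgroup.commutator_comm] at this
    exact this
  · have hφH : ∀ h ∈ H, φ h = h := fun h hh => hfix h (Subgroup.mem_map_of_mem Q.subtype hh)
    refine MulEquiv.ext fun g => ?_
    set z := g⁻¹ * φ g with hz
    have hzC : z ∈ Subgroup.centralizer (H : Set ↥Q) := by
      refine Subgroup.mem_centralizer_iff.2 fun h hh => ?_
      have h1 := hφH _ (hHn.conj_mem h hh g)
      rw [map_mul, map_mul, map_inv, hφH h hh] at h1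
      calc h * z = g⁻¹ * (g * h * g⁻¹) * φ g := by rw [hz]; group
        _ = g⁻¹ * (φ g * h * (φ g)⁻¹) * φ g := by rw [h1]
        _ = z * h := by rw [hz]; group
    have hzf : φ z = z := hφH z (hcen hzC)
    have hk : ∀ k : ℕ, (φ ^ k) g = g * z ^ k := by
      intro k
      induction k with
      | zero => simp
      | succ k ih =>
        rw [pow_succ', MulAut.mul_apply, ih, map_mul, map_pow, hzf, pow_succ', ← mul_assoc]
        congr 1
        rw [hz]; group
    have h1 := hk (orderOf φ)
    rw [pow_orderOf_eq_one, MulAut.one_apply, left_eq_mul] at h1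
    obtain ⟨k, hk'⟩ := hQp z
    have hz1 : z = 1 := orderOf_eq_one_iff.1 (Nat.eq_one_of_dvd_coprimes (hφ.pow_right k)
      (orderOf_dvd_of_pow_eq_one h1) (orderOf_dvd_of_pow_eq_one hk'))
    rw [hz, inv_mul_eq_one] at hz1
    exact hz1.symm
  · exact ⟨⟨x, hx.1⟩, hcen (Subgroup.mem_centralizer_iff.2 fun h hh => Subtype.ext
      (Subgroup.mem_centralizer_iff.1 hx.2 h (Subgroup.mem_map_of_mem Q.subtype hh))), rfl⟩

/-- A normal subgroup whose image in the group acting on a chief factor is a `p`-group acts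
trivially. -/
theorem commutator_le_of_forall_pow {U V D : Subgroup G} [V.Normal] [D.Normal]
    (h : IsChiefFactor U V) (hU : IsPGroup p ↥U)
    (hD : ∀ x ∈ D, ∃ k : ℕ, x ^ p ^ k ∈ facCent U V) : ⁅U, D⁆ ≤ V := by
  haveI := h.2.1
  haveI : (U.map (QuotientGroup.mk' V)).Normal :=
    Subgroup.Normal.map h.2.1 _ (QuotientGroup.mk'_surjective V)
  haveI : (facCent U V).Normal := (Subgroup.normal_centralizer).comap _
  set C := facCent U V with hC
  obtain ⟨T, hT⟩ := exists_isSylowIn' p D
  refine ChiefFactor.commutator_le_of_le_sup h hU hT.isPGroup hT.le (C := C)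
    (by rw [Subgroup.commutator_comm]; exact le_facCent.1 le_rfl) ?_
  obtain ⟨P, hP⟩ := hT.exists_sylow
  set f := QuotientGroup.mk' (C.subgroupOf D) with hf
  have hq : IsPGroup p (↥D ⧸ C.subgroupOf D) := by
    intro y
    obtain ⟨x, rfl⟩ := QuotientGroup.mk'_surjective (C.subgroupOf D) y
    obtain ⟨k, hk⟩ := hD x x.2
    refine ⟨k, ?_⟩
    rw [← map_pow]
    exact (QuotientGroup.eq_one_iff _).2 hk
  have htop : (⊤ : Subgroup (↥D ⧸ C.subgroupOf D)) =
      ((P.mapSurjective (QuotientGroup.mk'_surjective _) : Sylow p (↥D ⧸ C.subgroupOf D)) :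
        Subgroup (↥D ⧸ C.subgroupOf D)) :=
    (P.mapSurjective (QuotientGroup.mk'_surjective _)).is_maximal' (hq.to_subgroup ⊤) le_top
  intro x hx
  have h1 : f ⟨x, hx⟩ ∈ (P : Subgroup ↥D).map f := by
    have : f ⟨x, hx⟩ ∈ (⊤ : Subgroup (↥D ⧸ C.subgroupOf D)) := Subgroup.mem_top _
    rw [htop] at this
    exact this
  obtain ⟨y, hy, hyx⟩ := h1
  have h2 : y⁻¹ * ⟨x, hx⟩ ∈ C.subgroupOf D := QuotientGroup.eq.1 hyx
  have h3 : (y : G) ∈ T := hP ▸ Subgroup.mem_map_of_mem D.subtype hy
  have : x = (y : G) * ((y⁻¹ * ⟨x, hx⟩ : ↥D) : G) := by simp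
  rw [this]
  exact Subgroup.mul_mem _ (Subgroup.mem_sup_right h3) (Subgroup.mem_sup_left h2)

/-- An element acting quadratically and nontrivially on a chief factor inside a `p`-group shows that
the quotient is not `p`-stable. -/
theorem not_isNormalizerPStable_quotient {U V : Subgroup G} [V.Normal] (h : IsChiefFactor U V)
    (hU : IsPGroup p ↥U) {g : G} (h2 : ⁅⁅U, Subgroup.zpowers g⁆, Subgroup.zpowers g⁆ ≤ V)
    (h1 : ¬ ⁅U, Subgroup.zpowers g⁆ ≤ V) : ¬ IsNormalizerPStable p (G ⧸ V) := by
  intro hst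
  set f := QuotientGroup.mk' V with hf
  set P := U.map f with hP
  haveI : P.Normal := Subgroup.Normal.map h.2.1 _ (QuotientGroup.mk'_surjective V)
  have htop : Subgroup.normalizer (P : Set (G ⧸ V)) = ⊤ := Subgroup.normalizer_eq_top P
  have hg : f g ∈ Subgroup.normalizer (P : Set (G ⧸ V)) := htop ▸ Subgroup.mem_top _
  have hquad : ⁅⁅P, Subgroup.zpowers (f g)⁆, Subgroup.zpowers (f g)⁆ = ⊥ := by
    rw [← MonoidHom.map_zpowers, ← Subgroup.map_commutator, ← Subgroup.map_commutator,
      Subgroup.map_eq_bot_iff, hf, QuotientGroup.ker_mk']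
    exact h2
  have hcore := hst P (hU.map f) (f g) hg hquad
  let π₁ : G →* ↥(Subgroup.normalizer (P : Set (G ⧸ V))) :=
    f.codRestrict _ fun x => htop.symm ▸ Subgroup.mem_top _
  haveI : ((Subgroup.centralizer (P : Set (G ⧸ V))).subgroupOf
      (Subgroup.normalizer (P : Set (G ⧸ V)))).Normal :=
    Subgroup.normal_subgroupOf_centralizer_normalizer _
  let π := (QuotientGroup.mk' ((Subgroup.centralizer (P : Set (G ⧸ V))).subgroupOf
      (Subgroup.normalizer (P : Set (G ⧸ V))))).comp π₁
  set D := (pCore p _).comap π with hD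
  haveI : D.Normal := (Thompson.instPCoreNormal).comap π
  have hpow : ∀ x ∈ D, ∃ k : ℕ, x ^ p ^ k ∈ facCent U V := by
    intro x hx
    obtain ⟨k, hk⟩ := (Thompson.isPGroup_pCore (p := p)) ⟨π x, hx⟩
    refine ⟨k, ?_⟩
    have hk' : π (x ^ p ^ k) = 1 := by rw [map_pow]; exact congrArg Subtype.val hk
    exact Subgroup.mem_subgroupOf.1 ((QuotientGroup.eq_one_iff _).1 hk')
  exact h1 ((Subgroup.commutator_mono le_rfl (Subgroup.zpowers_le.2 (show g ∈ D from hcore))).trans
    (commutator_le_of_forall_pow h hU hpow))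

/-- The element given by non-normality of a `K`-infinity subgroup, with its properties. -/
theorem exists_kInf_element (S : Sylow p G)
    (hK : ¬ (inducedFunctor kInfLower (S : Subgroup G)).Normal ∨
      ¬ (inducedFunctor kInfUpper (S : Subgroup G)).Normal) :
    ∃ g : G, g ∈ (S : Subgroup G) ∧ g ∉ pCore p G ∧
      (∀ U V : Subgroup G, IsChiefFactor U V → U ≤ pCore p G →
        iterCommutator U (Subgroup.zpowers g) 4 ≤ V) ∧
      ⁅⁅KInf.zc (pCore p G), Subgroup.zpowers g⁆, Subgroup.zpowers g⁆ = ⊥ ∧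
      (Subgroup.centralizer ((pCore p G : Subgroup G) : Set G) ≤ pCore p G →
        ∃ (N : Subgroup G) (_ : N.Normal), ¬ IsNormalizerPStable p (G ⧸ N)) := by
  obtain ⟨A, hA, hcent⟩ := exists_crit (G := G) (p := p)
  obtain ⟨g, hgS, hgQ, h3, hz, hch⟩ := exists_good hA S hK
  haveI := hA.normal
  haveI := hA.zc_normal
  refine ⟨g, hgS, hgQ, fun U V h hU => ?_, ?_, fun hC => ?_⟩
  · refine iter_le_of_critical (i := 3) (j := 2) Thompson.isPGroup_pCore hA.le hA.comm hcent g
      (by norm_num) (fun X Y hXY hX => ?_) (fun X Y hXY hX => ?_) h hU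
    · haveI := hXY.2.1
      haveI := hXY.2.2.1
      have hAx : iterCommutator X (Subgroup.zpowers g) 3 ≤ X ⊓ KInf.zc A :=
        le_inf (iterCommutator_le_self (by rw [nrm_eq_top]; exact le_top) 3)
          ((iterCommutator_mono hX le_rfl 3).trans h3)
      rcases hXY.2.2.2 ((X ⊓ KInf.zc A) ⊔ Y) (Subgroup.sup_normal _ _) le_sup_right
        (sup_le inf_le_left hXY.1.le) with he | he
      · exact hAx.trans (le_sup_left.trans he.le)
      · refine iter_le_of_sup_eq he ?_
        refine (iterCommutator_antitone (by rw [nrm_eq_top]; exact le_top) (Nat.le_succ 2)).trans ?_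
        exact ((iterCommutator_mono inf_le_right le_rfl 2).trans hz.le).trans bot_le
    · exact ((iterCommutator_mono hX le_rfl 2).trans hz.le).trans bot_le
  · refine le_bot_iff.1 ((Subgroup.commutator_mono (Subgroup.commutator_mono ?_ le_rfl) le_rfl).trans
      hz.le)
    have hzA : KInf.zc (pCore p G) ≤ Subgroup.centralizer (A : Set G) :=
      inf_le_right.trans (Subgroup.centralizer_le (SetLike.coe_subset_coe.2 hA.le))
    exact le_inf ((le_inf inf_le_left hzA).trans hcent) hzA
  · obtain ⟨U, V, h, hU, h2, h1⟩ := hch hC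
    haveI := h.2.2.1
    exact ⟨V, h.2.2.1, not_isNormalizerPStable_quotient h (hA.isPGroup.to_le hU) h2 h1⟩

end Cfsg.Agent.ConjFunctor
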