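import Cfsg.Agent.ConjFunctor.MinimalTransfer
import Cfsg.Agent.ConjFunctor.KInfConsequences

/-!
Control of transfer in every section from elements of small degree; the case of the lower
`K`-infinity subgroup for `p ≥ 5`; normal subgroups of index `p`.
-/

set_option autoImplicit false

open scoped commutatorElement

namespace Cfsg.Agent.ConjFunctor

open Cfsg

universe u

variable {p : ℕ} [Fact p.Prime] {W : ∀ (Q : Type u) [Group Q], Subgroup Q}

/-- If non-normality of `W(T)` in constrained sections yields an element outside `O_p` of degree below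
`p`, then `W` controls transfer in every section. -/
theorem controlsTransfer_of_engel (hW : IsCharPFunctor.{u} p W) {G : Type u} [Group G] [Finite G]
    (hgood : ∀ (H : Type u) [Group H] [Finite H], IsSec G H → Constr p H → ∀ T : Sylow p H,
      ¬ (inducedFunctor (G := H) W (T : Subgroup H)).Normal →
      ∃ g : H, g ∈ (T : Subgroup H) ∧ g ∉ pCore p H ∧ EngelBelow (pCore p H) (p - 1) g)
    (H : Type u) [Group H] [Finite H] (hH : IsSec G H) :
    ControlsTransferIn p (inducedFunctor (G := H) W) ⊤ := by
  have h𝓦 : ∀ V ∈ ({W} : Set (∀ (Q : Type u) [Group Q], Subgroup Q)), IsCharPFunctor.{u} p V := by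
    rintro _ rfl; exact hW
  rw [controlsTransferIn_iff_indFam]
  refine transfer_induction (G := G) h𝓦 (fun X _ _ hX hc hsub hquot => ?_) H hH
  by_contra hbad
  obtain ⟨S⟩ : Nonempty (Sylow p X) := inferInstance
  obtain ⟨-, -, -, hu⟩ := minimal_transfer_structure h𝓦 (Set.singleton_nonempty W) S hsub hquot hbad
    _ _ rfl rfl
  by_cases hn : (inducedFunctor (G := X) W (S : Subgroup X)).Normal
  · refine hbad (familyControlsTransferIn_iff.2 ⟨_, isSylowIn_top S, ?_⟩)
    haveI := hn
    rw [sig_indFam_singleton, nrm_eq_top]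
  · obtain ⟨g, hg, hgQ, hge⟩ := hgood X hX hc S hn
    obtain ⟨U, V, hUV, hUQ, hne⟩ := hu g hg hgQ
    exact hne (hge U V hUV hUQ)

theorem kInf_engel (hp : 5 ≤ p) (H : Type u) [Group H] [Finite H] (T : Sylow p H)
    (hn : ¬ (inducedFunctor (G := H) kInfLower (T : Subgroup H)).Normal) :
    ∃ g : H, g ∈ (T : Subgroup H) ∧ g ∉ pCore p H ∧ EngelBelow (pCore p H) (p - 1) g := by
  obtain ⟨g, hg, hgQ, h4, -⟩ := exists_kInf_element T (Or.inl hn)
  refine ⟨g, hg, hgQ, fun U V h hU => ?_⟩
  haveI := h.2.1
  exact (iterCommutator_antitone (by rw [nrm_eq_top]; exact le_top) (by omega)).trans (h4 U V h hU)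

theorem kInf_controlsTransfer (hp : 5 ≤ p) (H : Type u) [Group H] [Finite H] :
    ControlsTransferIn p (inducedFunctor (G := H) kInfLower) ⊤ :=
  controlsTransfer_of_engel (KInf.isCharPFunctor p).1 (G := H)
    (fun X _ _ _ _ => kInf_engel hp X) H (isSec_refl H)

/-- Control of transfer, read at any Sylow subgroup. -/
theorem inf_commutator_eq_of_controls (hW : IsCharPFunctor.{u} p W) {G : Type u} [Group G] [Finite G]
    (h : ControlsTransferIn p (inducedFunctor (G := G) W) ⊤) (S : Sylow p G) :
    (S : Subgroup G) ⊓ commutator G =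
      (S : Subgroup G) ⊓ ⁅nrm (inducedFunctor W (S : Subgroup G)),
        nrm (inducedFunctor W (S : Subgroup G))⁆ := by
  have h𝓦 : ∀ V ∈ ({W} : Set (∀ (Q : Type u) [Group Q], Subgroup Q)), IsCharPFunctor.{u} p V := by
    rintro _ rfl; exact hW
  refine le_antisymm ?_ (inf_le_inf_left _ (Subgroup.commutator_mono le_top le_top))
  rw [← sig_indFam_singleton, commutator_def]
  exact FamilyControlsTransferIn.le_sig (indFam_isConjugacyFunctor h𝓦)
    ((controlsTransferIn_iff_indFam (p := p) G ⊤).1 h) (isSylowIn_top S)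

/-- Control of transfer in all sections and a Sylow normaliser acting as a `p`-group give a proper
focal subgroup. -/
theorem not_le_commutator_of_controls (hW : IsCharPFunctor.{u} p W) {G : Type u} [Group G] [Finite G]
    (hctl : ∀ (H : Type u) [Group H] [Finite H], IsSec G H →
      ControlsTransferIn p (inducedFunctor (G := H) W) ⊤)
    (H : Type u) [Group H] [Finite H] (hH : IsSec G H) (S : Sylow p H)
    (hS : (S : Subgroup H) ≠ ⊥)
    (hN : ∀ g ∈ nrm (S : Subgroup H), (orderOf g).Coprime p →
      g ∈ Subgroup.centralizer ((S : Subgroup H) : Set H)) :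
    ¬ (S : Subgroup H) ≤ commutator H := by
  suffices key : ∀ (n : ℕ) (H : Type u) [Group H] [Finite H], Nat.card H ≤ n → IsSec G H →
      ∀ S : Sylow p H, (S : Subgroup H) ≠ ⊥ → (∀ g ∈ nrm (S : Subgroup H), (orderOf g).Coprime p →
        g ∈ Subgroup.centralizer ((S : Subgroup H) : Set H)) → ¬ (S : Subgroup H) ≤ commutator H from
    key _ H le_rfl hH S hS hN
  intro n
  induction n using Nat.strong_induction_on with
  | _ n ih =>
  intro H _ _ hn hH S hS hN hle
  have hWf : IsConjugacyFunctor p (inducedFunctor (G := H) W) := isConjugacyFunctor_inducedFunctor hW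
  have h1 := inf_commutator_eq_of_controls hW (hctl H hH) S
  rw [inf_eq_left.2 hle] at h1
  set M := nrm (inducedFunctor W (S : Subgroup H)) with hM
  have hSM : (S : Subgroup H) ≤ M := le_nrm_functor hWf S.2
  by_cases htop : M = ⊤
  swap
  · obtain ⟨P, hP⟩ := (sylow_isSylowIn S hSM).exists_sylow
    refine ih (Nat.card ↥M) ?_ ↥M le_rfl (hH.trans (isSec_subgroup M)) P ?_ ?_ ?_
    · exact ((Subgroup.card_le_card_group M).lt_of_ne fun he =>
        htop (Subgroup.eq_top_of_card_eq M he)).trans_le hn
    · intro he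
      rw [he, Subgroup.map_bot] at hP
      exact hS hP.symm
    · intro g hg hgc
      rw [Subgroup.mem_centralizer_iff]
      intro y hy
      refine Subtype.ext ?_
      refine Subgroup.mem_centralizer_iff.1 (hN g ?_ ?_) y (hP ▸ Subgroup.mem_map_of_mem _ hy)
      · rw [← hP]; exact Subgroup.le_normalizer_map M.subtype ⟨g, hg, rfl⟩
      · rwa [Subgroup.orderOf_coe]
    · intro x hx
      have hx' : (x : H) ∈ ⁅M, M⁆ := (h1.le (hP ▸ Subgroup.mem_map_of_mem _ hx)).2
      rw [← Subgroup.map_subtype_commutator] at hx'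
      obtain ⟨y, hy, he⟩ := hx'
      rwa [← Subtype.ext he]
  haveI hWn : (inducedFunctor W (S : Subgroup H)).Normal := Subgroup.normalizer_eq_top_iff.1 htop
  set N := inducedFunctor W (S : Subgroup H) with hNdef
  have hNS : N ≤ (S : Subgroup H) := inducedFunctor_le W _
  by_cases hNeq : N = (S : Subgroup H)
  · -- `S` is normal and central modulo `S'`
    haveI : (S : Subgroup H).Normal := hNeq ▸ hWn
    have hcomm : ⁅(⊤ : Subgroup H), ⊤⁆ ⊓ (S : Subgroup H) ≤ ⁅(S : Subgroup H), (S : Subgroup H)⁆ := by
      intro z hz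
      refine mem_of_conj_congr S (Subgroup.commutator_le_self _) le_rfl
        (fun t => ‹(S : Subgroup H).Normal›.conj_mem' _ hz.2 t) (fun t => ?_) hz.1
      haveI : (⁅(S : Subgroup H), (S : Subgroup H)⁆).Normal := inferInstance
      suffices h : (⊤ : Subgroup H) ≤
          KInfEngel.facCent (S : Subgroup H) ⁅(S : Subgroup H), (S : Subgroup H)⁆ by
        have := KInfEngel.mem_facCent.1 (h (Subgroup.mem_top t⁻¹)) z hz.2
        simpa [commutatorElement_def] using this
      intro x _
      obtain ⟨k, hk⟩ := exists_pow_mem_of_forall_coprime (p := p) (H := (⊤ : Subgroup H))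
        (K := Subgroup.centralizer ((S : Subgroup H) : Set H))
        (fun y _ hy => hN y (by rw [nrm_eq_top]; trivial) hy) (Subgroup.mem_top x)
      have hC : Subgroup.centralizer ((S : Subgroup H) : Set H) ≤
          KInfEngel.facCent (S : Subgroup H) ⁅(S : Subgroup H), (S : Subgroup H)⁆ :=
        KInfEngel.le_facCent.2 ((Subgroup.commutator_eq_bot_iff_le_centralizer.2 le_rfl).le.trans bot_le)
      have hSle : (S : Subgroup H) ≤
          KInfEngel.facCent (S : Subgroup H) ⁅(S : Subgroup H), (S : Subgroup H)⁆ :=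
        KInfEngel.le_facCent.2 le_rfl
      set F := KInfEngel.facCent (S : Subgroup H) ⁅(S : Subgroup H), (S : Subgroup H)⁆ with hF
      haveI : F.Normal := by
        haveI : ((S : Subgroup H).map
            (QuotientGroup.mk' ⁅(S : Subgroup H), (S : Subgroup H)⁆)).Normal :=
          Subgroup.Normal.map inferInstance _ (QuotientGroup.mk'_surjective _)
        exact (Subgroup.normal_centralizer).comap _
      by_contra hxF
      have hd : orderOf (QuotientGroup.mk' F x) ∣ p ^ k :=
        orderOf_dvd_of_pow_eq_one (by rw [← map_pow]; exact (QuotientGroup.eq_one_iff _).2 (hC hk))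
      have hd2 : orderOf (QuotientGroup.mk' F x) ∣ (S : Subgroup H).index :=
        (orderOf_dvd_natCard _).trans ((Subgroup.index_eq_card F) ▸ Subgroup.index_dvd_of_le hSle)
      have hcop : Nat.Coprime (p ^ k) (S : Subgroup H).index :=
        ((Nat.Prime.coprime_iff_not_dvd Fact.out).2 S.not_dvd_index).pow_left k
      exact hxF ((QuotientGroup.eq_one_iff _).1 (orderOf_eq_one_iff.1
        (Nat.eq_one_of_dvd_coprimes hcop hd hd2)))
    have hle' : (S : Subgroup H) ≤ ⁅(S : Subgroup H), (S : Subgroup H)⁆ := fun z hz =>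
      hcomm ⟨hle hz, hz⟩
    haveI : Nontrivial ↥(S : Subgroup H) := (Subgroup.nontrivial_iff_ne_bot _).2 hS
    haveI : Group.IsNilpotent ↥(S : Subgroup H) := S.2.isNilpotent
    refine (Group.IsSolvable.commutator_lt_top_of_nontrivial (G := ↥(S : Subgroup H))).ne ?_
    rw [← Subgroup.map_subtype_inj, Subgroup.map_subtype_commutator,
      le_antisymm (Subgroup.commutator_le_self _) hle', ← MonoidHom.range_eq_map,
      Subgroup.range_subtype]
  · set f := QuotientGroup.mk' N with hf
    have hs := QuotientGroup.mk'_surjective N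
    have hne : N ≠ ⊥ := functor_ne_bot hWf S.2 hS
    let S' := S.mapSurjective hs
    have hS' : (S' : Subgroup (H ⧸ N)) = (S : Subgroup H).map f := rfl
    refine ih (Nat.card (H ⧸ N)) ?_ (H ⧸ N) le_rfl (hH.trans (isSec_quotient N)) S' ?_ ?_ ?_
    · have h := Subgroup.card_eq_card_quotient_mul_card_subgroup N
      have : 1 < Nat.card ↥N := Subgroup.one_lt_card_iff_ne_bot N |>.2 hne
      have hpos : 0 < Nat.card (H ⧸ N) := Nat.card_pos
      nlinarith
    · rw [hS', Ne, Subgroup.map_eq_bot_iff, hf, QuotientGroup.ker_mk']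
      exact fun h => hNeq (le_antisymm hNS h)
    · intro y hy hyc
      obtain ⟨g, rfl⟩ := hs y
      have hgN : g ∈ nrm (S : Subgroup H) := mem_nrm_of_forall fun x hx => by
        have h2 := conj_mem_of_nrm hy (hS'.symm ▸ Subgroup.mem_map_of_mem f hx)
        rw [← map_inv, ← map_mul, ← map_mul, hS', ← Subgroup.mem_comap, Subgroup.comap_map_eq,
          QuotientGroup.ker_mk', sup_of_le_left hNS] at h2
        exact h2
      obtain ⟨k, m, hm, hord⟩ := Nat.exists_eq_pow_mul_and_not_dvd (orderOf_pos g).ne' p
        (Fact.out : p.Prime).ne_one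
      have hpm : (orderOf (f g)).Coprime (p ^ k) := hyc.pow_right k
      obtain ⟨t, ht1, ht2⟩ := Nat.chineseRemainder hpm 1 0
      have h3 : f (g ^ t) = f g := by
        rw [map_pow]
        conv_rhs => rw [← pow_one (f g)]
        exact pow_eq_pow_iff_modEq.2 ht1
      have h4 : (orderOf (g ^ t)).Coprime p := by
        have hd : orderOf (g ^ t) ∣ m := by
          refine orderOf_dvd_of_pow_eq_one ?_
          rw [← pow_mul, ← orderOf_dvd_iff_pow_eq_one, hord]
          exact mul_dvd_mul_right (Nat.modEq_zero_iff_dvd.1 ht2) m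
        exact Nat.Coprime.coprime_dvd_left hd
          ((Nat.Prime.coprime_iff_not_dvd Fact.out).2 hm).symm
      rw [← h3, Subgroup.mem_centralizer_iff]
      rintro _ ⟨x, hx, rfl⟩
      have h5 := Subgroup.mem_centralizer_iff.1 (hN _ ((nrm _).pow_mem hgN t) h4) x hx
      rw [← map_mul, ← map_mul, h5]
    · rw [hS', commutator_def, ← Subgroup.map_top_of_surjective f hs, ← Subgroup.map_commutator]
      exact Subgroup.map_mono hle

/-- A normal subgroup of index `p` when the Sylow subgroup is not inside the derived subgroup. -/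
theorem exists_index_prime {G : Type*} [Group G] [Finite G] (S : Sylow p G)
    (h : ¬ (S : Subgroup G) ≤ commutator G) : ∃ N : Subgroup G, N.Normal ∧ N.index = p := by
  have hS' : IsPGroup p ↥((S : Subgroup G).map (Abelianization.of : G →* Abelianization G)) :=
    S.2.map _
  set A := Abelianization G with hA
  set of : G →* A := Abelianization.of with hof
  set T := (S : Subgroup G).map of with hT
  have hsurj : Function.Surjective of := QuotientGroup.mk'_surjective _
  obtain ⟨R⟩ : Nonempty (Sylow p A) := inferInstance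
  obtain ⟨C, hC⟩ := Subgroup.exists_right_complement'_of_coprime (N := (R : Subgroup A))
    R.card_coprime_index
  have hq : IsPGroup p (A ⧸ C) := by
    refine R.2.of_surjective ((QuotientGroup.mk' C).comp (R : Subgroup A).subtype) fun y => ?_
    obtain ⟨a, rfl⟩ := QuotientGroup.mk'_surjective C y
    obtain ⟨⟨r, c⟩, hrc⟩ := hC.2 a
    refine ⟨r, ?_⟩
    show (QuotientGroup.mk' C) r.1 = _
    rw [← hrc, map_mul, show QuotientGroup.mk' C c.1 = 1 from (QuotientGroup.eq_one_iff _).2 c.2,
      mul_one]
  have hCne : C ≠ ⊤ := fun he => h fun s hs => by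
    have h1 : of s ∈ T := Subgroup.mem_map_of_mem of hs
    have h2 : (R : Subgroup A) = ⊥ := Subgroup.isComplement'_top_right.1 (he ▸ hC)
    have h3 : T ≤ ((S.mapSurjective hsurj : Sylow p A) : Subgroup A) := le_rfl
    have h4 : Nat.card ↥((S.mapSurjective hsurj : Sylow p A) : Subgroup A) = 1 := by
      rw [show Nat.card ↥((S.mapSurjective hsurj : Sylow p A) : Subgroup A) = Nat.card ↥(R : Subgroup A)
        from Nat.card_congr ((S.mapSurjective hsurj).equiv R).toEquiv, h2, Subgroup.card_bot]
    rw [Subgroup.eq_bot_of_card_eq _ h4] at h3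
    exact (QuotientGroup.eq_one_iff s).1 (Subgroup.mem_bot.1 (h3 h1))
  have hne : (⊥ : Subgroup (A ⧸ C)) ≠ ⊤ := by
    intro he
    refine hCne (top_le_iff.1 fun a _ => (QuotientGroup.eq_one_iff a).1 ?_)
    exact Subgroup.mem_bot.1 (he ▸ Subgroup.mem_top _)
  obtain ⟨M, -, -, hM⟩ := PGroup.exists_le_index_eq_prime hq hne
  refine ⟨(M.comap (QuotientGroup.mk' C)).comap of, ?_, ?_⟩
  · exact Subgroup.Normal.comap (Subgroup.normal_of_isMulCommutative _) _
  · rw [Subgroup.index_comap_of_surjective _ hsurj,
      Subgroup.index_comap_of_surjective _ (QuotientGroup.mk'_surjective C), hM]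

end Cfsg.Agent.ConjFunctor
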