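import Cfsg.Agent.ConjFunctor.Control

/-!
A conjugacy functor `W` together with a central functor `V`: control of fusion and of transfer by
`N(W P)` and `C(V P)`, deduced from control in the normalisers of subgroups above `Z(P)`.
-/

set_option autoImplicit false
set_option linter.style.haveILetI false

open scoped commutatorElement

namespace Cfsg.Agent.ConjFunctor

variable {G : Type*} [Group G] {p : ℕ}

/-- The two subgroups `N_L(W T)` and `C_L(V T)`. -/
def pairN (W V : Subgroup G → Subgroup G) (T L : Subgroup G) : Set (Subgroup G) :=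
  {L ⊓ nrm (W T), L ⊓ Subgroup.centralizer ((V T : Subgroup G) : Set G)}

/-- The subgroup generated by the `T`-parts of the two derived subgroups. -/
def pairSig (W V : Subgroup G → Subgroup G) (T L : Subgroup G) : Subgroup G :=
  T ⊓ ⁅L ⊓ nrm (W T), L ⊓ nrm (W T)⁆ ⊔
    T ⊓ ⁅L ⊓ Subgroup.centralizer ((V T : Subgroup G) : Set G),
      L ⊓ Subgroup.centralizer ((V T : Subgroup G) : Set G)⁆

/-- The centre of a subgroup, seen in the group. -/
abbrev zc (T : Subgroup G) : Subgroup G := T ⊓ Subgroup.centralizer (T : Set G)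

section Cnj

variable {W V : Subgroup G → Subgroup G} (hW : IsConjugacyFunctor p W)
  (hV : IsConjugacyFunctor p V) {T : Subgroup G} (hT : IsPGroup p ↥T)
include hW hV hT

theorem map_pairN (g : G) (L : Subgroup G) :
    Subgroup.map (MulAut.conj g).toMonoidHom '' pairN W V T L =
      pairN W V (cnj g T) (cnj g L) := by
  rw [pairN, pairN, Set.image_pair]
  show {cnj g (L ⊓ nrm (W T)), cnj g (L ⊓ Subgroup.centralizer ((V T : Subgroup G) : Set G))} = _
  rw [cnj_inf, cnj_inf, cnj_nrm, cnj_centralizer, ← functor_cnj hW hT, ← functor_cnj hV hT]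

theorem cnj_pairSig (g : G) (L : Subgroup G) :
    cnj g (pairSig W V T L) = pairSig W V (cnj g T) (cnj g L) := by
  have e : ∀ M : Subgroup G, cnj g ⁅M, M⁆ = ⁅cnj g M, cnj g M⁆ := fun M =>
    Subgroup.map_commutator _ _ _
  show (pairSig W V T L).map _ = _
  unfold pairSig
  rw [Subgroup.map_sup]
  show cnj g (T ⊓ _) ⊔ cnj g (T ⊓ _) = _
  rw [cnj_inf, cnj_inf, e, e, cnj_inf, cnj_inf, cnj_nrm, cnj_centralizer, ← functor_cnj hW hT,
    ← functor_cnj hV hT]

end Cnj

/-! ### Right conjugation chains -/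

theorem fus_of_right_chain {𝒩 : Set (Subgroup G)} {T : Set G} (n : ℕ) :
    ∀ (A : Set G) (b : Fin n → G), (∀ i, ∃ M ∈ 𝒩, b i ∈ M) →
      (∀ k ≤ n, (fun a => (((List.ofFn b).take k).prod)⁻¹ * a * ((List.ofFn b).take k).prod) '' A ⊆ T) →
      Fus 𝒩 T A ((List.ofFn b).prod)⁻¹ := by
  induction n with
  | zero => intro A b _ _; simpa using (Fus.refl (g := (1 : G)) (by simp) : Fus 𝒩 T A 1)
  | succ n ih =>
    intro A b hb hk
    rw [List.ofFn_succ, List.prod_cons, mul_inv_rev]
    obtain ⟨M, hM, hm⟩ := hb 0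
    have h0 := hk 0 (Nat.zero_le _)
    have h1 := hk 1 (by omega)
    simp only [List.take_zero, List.prod_nil, inv_one, one_mul, mul_one, Set.image_id'] at h0
    simp only [List.ofFn_succ, List.take_succ_cons, List.take_zero, List.prod_cons, List.prod_nil,
      mul_one] at h1
    refine .step hM (M.inv_mem hm) h0 (by simpa [img] using h1) (ih _ _ (fun i => hb _) fun k hk' => ?_)
    rintro _ ⟨_, ⟨a, ha, rfl⟩, rfl⟩
    have := hk (k + 1) (by omega) ⟨a, ha, rfl⟩
    simpa [List.ofFn_succ, List.take_succ_cons, mul_assoc] using this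

theorem Fus.exists_right_chain {𝒩 : Set (Subgroup G)} {T : Set G} {A : Set G} {g : G}
    (h : Fus 𝒩 T A g) (hA : A ⊆ T) :
    ∃ (n : ℕ) (b : Fin n → G), (∀ i, ∃ M ∈ 𝒩, b i ∈ M) ∧
      (∀ k ≤ n, (fun a => (((List.ofFn b).take k).prod)⁻¹ * a * ((List.ofFn b).take k).prod) '' A ⊆ T) ∧
      ∀ a ∈ A, ((List.ofFn b).prod)⁻¹ * a * (List.ofFn b).prod = g * a * g⁻¹ := by
  induction h with
  | @refl A g hg =>
    exact ⟨0, Fin.elim0, fun i => i.elim0, fun k _ => by simpa using hA,
      fun a ha => by simp [hg a ha]⟩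
  | @step A M x g hM hx hA' hxA _ ih =>
    obtain ⟨n, b, hb, hk, he⟩ := ih hxA
    refine ⟨n + 1, Fin.cons x⁻¹ b, Fin.cases ⟨M, hM, M.inv_mem hx⟩ hb, fun k hk' => ?_, fun a ha => ?_⟩
    · cases k with
      | zero => simpa using hA
      | succ k =>
        rintro _ ⟨a, ha, rfl⟩
        have := hk k (by omega) ⟨_, ⟨a, ha, rfl⟩, rfl⟩
        simpa [List.ofFn_succ, List.take_succ_cons, mul_assoc] using this
    · have := he _ ⟨a, ha, rfl⟩
      simpa [List.ofFn_succ, mul_assoc] using this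

/-! ### From local to global -/

variable [Finite G] [Fact p.Prime]

/-- In the normaliser of a fully normalised `T`, an element is a product of an element centralising
`T` and one normalising `T C_S(T)`. -/
theorem exists_split (S : Sylow p G) {T : Subgroup G} (hT : Fully p (S : Subgroup G) T) {x : G}
    (hx : x ∈ nrm T) :
    ∃ n ∈ nrm (T ⊔ (S : Subgroup G) ⊓ Subgroup.centralizer (T : Set G)),
      ∀ b ∈ T, x * b * x⁻¹ = n * b * n⁻¹ := by
  set C := Subgroup.centralizer (T : Set G) with hC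
  have hCn : C ≤ nrm T := Subgroup.centralizer_le_normalizer _
  have hnC : ∀ y ∈ nrm T, y ∈ nrm C := fun y hy => by
    rw [mem_nrm_iff_cnj, hC, cnj_centralizer, mem_nrm_iff_cnj.1 hy]
  have hsyl : IsSylowIn p (((S : Subgroup G) ⊓ nrm T) ⊓ C) C :=
    isSylowIn_inf_of_normal (hT.isSylowIn S.2) hCn hnC
  rw [inf_assoc, inf_of_le_right hCn] at hsyl
  obtain ⟨c, hc, n, hn, rfl⟩ := exists_mul_of_frattini hsyl (hnC x hx)
  have hnT : n ∈ nrm T := by
    simpa using (nrm T).mul_mem ((nrm T).inv_mem (hCn hc)) hx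
  refine ⟨n, ?_, fun b hb => ?_⟩
  · rw [mem_nrm_iff_cnj]
    show Subgroup.map _ _ = _
    rw [Subgroup.map_sup]
    show cnj n T ⊔ cnj n _ = _
    rw [mem_nrm_iff_cnj.1 hnT, mem_nrm_iff_cnj.1 hn]
  · have h1 := Subgroup.mem_centralizer_iff.1 hc (n * b * n⁻¹) (conj_mem_of_nrm hnT hb)
    calc c * n * b * (c * n)⁻¹ = c * (n * b * n⁻¹) * c⁻¹ := by group
      _ = n * b * n⁻¹ := by rw [← h1, mul_inv_cancel_right]

theorem zc_le_inf_nrm (S : Sylow p G) {T : Subgroup G} (hT : T ≤ (S : Subgroup G)) :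
    zc (S : Subgroup G) ≤ zc ((S : Subgroup G) ⊓ nrm T) := fun z hz =>
  ⟨⟨hz.1, Subgroup.centralizer_le_normalizer _ (Subgroup.centralizer_le hT hz.2)⟩,
    Subgroup.centralizer_le inf_le_left hz.2⟩

theorem zc_le_sup_centralizer (S : Sylow p G) {T : Subgroup G} (hT : T ≤ (S : Subgroup G)) :
    zc (S : Subgroup G) ≤ T ⊔ (S : Subgroup G) ⊓ Subgroup.centralizer (T : Set G) :=
  fun _ hz => (le_sup_right : _ ≤ T ⊔ (S : Subgroup G) ⊓ Subgroup.centralizer (T : Set G))
    ⟨hz.1, Subgroup.centralizer_le hT hz.2⟩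

/-- Given a bound below `|S|`, every step of a large enough conjugation takes place in a subgroup
above `Z(S)` with a larger normaliser in `S`. -/
theorem card_lt_sup_centralizer (S : Sylow p G) {T : Subgroup G} (hT : T ≤ (S : Subgroup G)) {n : ℕ}
    (hn : n < Nat.card ↥(S : Subgroup G)) (hnT : n ≤ Nat.card ↥T) :
    n < Nat.card ↥((S : Subgroup G) ⊓ nrm (T ⊔ (S : Subgroup G) ⊓ Subgroup.centralizer (T : Set G))) := by
  set H := T ⊔ (S : Subgroup G) ⊓ Subgroup.centralizer (T : Set G) with hH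
  have hHS : H ≤ (S : Subgroup G) := sup_le hT inf_le_left
  by_cases he : H = (S : Subgroup G)
  · rw [he, inf_of_le_left Subgroup.le_normalizer]; exact hn
  have hlt := lt_inf_nrm S.2 hHS he
  have h1 : Nat.card ↥H < Nat.card ↥((S : Subgroup G) ⊓ nrm H) :=
    (Subgroup.card_le_of_le hlt.le).lt_of_ne
      fun h => hlt.ne (Subgroup.eq_of_le_of_card_ge hlt.le h.ge)
  have h2 : Nat.card ↥T ≤ Nat.card ↥H := Subgroup.card_le_of_le le_sup_left
  omega

/-- A conjugation between subsets of `S` of size at least `n` is a chain of steps in subgroups of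
`S` of order at least `n`. -/
theorem reach_large (S : Sylow p G) {A : Set G} {g : G} (hA : A ⊆ (S : Subgroup G))
    (hgA : img g A ⊆ (S : Subgroup G)) {n : ℕ} (hn : n ≤ A.ncard) :
    Reach {T | (T ≤ (S : Subgroup G) ∧ Fully p (S : Subgroup G) T) ∧ n ≤ Nat.card ↥T} A g := by
  refine (reach_fully S A g hA hgA).filter
    (Ψ := {T | (T ≤ (S : Subgroup G) ∧ Fully p (S : Subgroup G) T) ∧ n ≤ Nat.card ↥T})
    (fun C => n ≤ C.ncard) (fun C z hC => ?_)
    (fun C T hT hCT hC => ⟨hT, hC.trans ((Set.ncard_le_ncard hCT).trans_eq (Nat.card_coe_set_eq _).symm)⟩) hn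
  show _ ≤ ((MulAut.conj z) '' C).ncard
  rwa [Set.ncard_image_of_injective _ (MulAut.conj z).injective]

variable {W V : Subgroup G → Subgroup G} (hW : IsConjugacyFunctor p W) (hV : IsConjugacyFunctor p V)
  (hWZ : ∀ H : Subgroup G, IsPGroup p ↥H → zc H ≤ W H)
  (hVmono : ∀ H K : Subgroup G, IsPGroup p ↥H → IsPGroup p ↥K → H ≠ ⊥ → K ≠ ⊥ →
    zc H ≤ zc K → V H ≤ V K) (S : Sylow p G) (hS : (S : Subgroup G) ≠ ⊥)
include hW hV hWZ hVmono hS

omit hWZ hV hW in
theorem centralizer_le_of_inf_nrm {H : Subgroup G} (hH : H ≤ (S : Subgroup G)) :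
    Subgroup.centralizer ((V ((S : Subgroup G) ⊓ nrm H) : Subgroup G) : Set G) ≤
      Subgroup.centralizer ((V (S : Subgroup G) : Subgroup G) : Set G) := by
  have hne : zc (S : Subgroup G) ≠ ⊥ := by
    intro h
    haveI : Nontrivial ↥(S : Subgroup G) := (Subgroup.nontrivial_iff_ne_bot _).2 hS
    haveI := S.2.center_nontrivial
    obtain ⟨w, hz1⟩ := exists_ne (1 : ↥(Subgroup.center ↥(S : Subgroup G)))
    have hmem : ((w : ↥(S : Subgroup G)) : G) ∈ zc (S : Subgroup G) :=
      ⟨w.1.2, Subgroup.mem_centralizer_iff.2 fun s hs =>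
        congrArg Subtype.val (Subgroup.mem_center_iff.1 w.2 ⟨s, hs⟩)⟩
    rw [h, Subgroup.mem_bot] at hmem
    exact hz1 (Subtype.ext (Subtype.ext hmem))
  refine Subgroup.centralizer_le (hVmono _ _ S.2 S.2.to_inf_left hS ?_ (zc_le_inf_nrm S hH))
  exact ne_bot_of_le_ne_bot hne ((zc_le_inf_nrm S hH).trans inf_le_left)

/-- Control of fusion by `N(W S)` and `C(V S)`. -/
theorem controls_pair
    (hloc : ∀ H : Subgroup G, zc (S : Subgroup G) ≤ H → H ≤ (S : Subgroup G) →
      ∃ T, IsSylowIn p T (nrm H) ∧ Controls (pairN W V T (nrm H)) T (nrm H)) :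
    Controls (pairN W V (S : Subgroup G) ⊤) (S : Subgroup G) ⊤ := by
  set 𝒩 := pairN W V (S : Subgroup G) ⊤ with h𝒩
  -- control in the normalisers of conjugates
  have loc : ∀ H : Subgroup G, zc (S : Subgroup G) ≤ H → H ≤ (S : Subgroup G) → ∀ (g : G) (T : Subgroup G),
      IsSylowIn p T (nrm (cnj g H)) → Controls (pairN W V T (nrm (cnj g H))) T (nrm (cnj g H)) := by
    intro H hZH hH g T hT
    obtain ⟨Q, hQ, hc⟩ := hloc H hZH hH
    have h1 : IsSylowIn p (cnj g Q) (nrm (cnj g H)) := by rw [← cnj_nrm]; exact hQ.map_conj g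
    obtain ⟨y, hy, rfl⟩ := hT.exists_cnj_eq h1
    have hL : nrm (cnj g H) = cnj (y * g) (nrm H) := by
      rw [← cnj_cnj, cnj_nrm g H, cnj_of_mem hy]
    rw [cnj_cnj, hL, ← map_pairN hW hV hQ.isPGroup]
    intro A h hh hA hhA
    set z := y * g with hz
    have hA' : img z⁻¹ A ⊆ (Q : Set G) := by
      rw [← img_inv_img z (Q : Set G), ← coe_cnj]; exact img_mono hA
    have hh' : img (z⁻¹ * h * z) (img z⁻¹ A) ⊆ (Q : Set G) := by
      rw [img_img, mul_inv_cancel_right, ← img_img, ← img_inv_img z (Q : Set G), ← coe_cnj]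
      exact img_mono hhA
    have := (hc _ _ (mem_cnj.1 hh) hA' hh').map (MulAut.conj z).toMonoidHom
    have e1 : (MulAut.conj z).toMonoidHom '' img z⁻¹ A = A := by
      show img z (img z⁻¹ A) = A
      rw [img_img, mul_inv_cancel, img_one]
    have e2 : (MulAut.conj z).toMonoidHom (z⁻¹ * h * z) = h := by
      show z * (z⁻¹ * h * z) * z⁻¹ = h
      group
    rw [e1, e2] at this
    exact this
  suffices key : ∀ (k : ℕ) (H : Subgroup G), zc (S : Subgroup G) ≤ H → H ≤ (S : Subgroup G) →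
      Nat.card ↥(S : Subgroup G) ≤ Nat.card ↥((S : Subgroup G) ⊓ nrm H) + k →
      ∀ (x : G) (A : Set G), x ∈ nrm H → A ⊆ (((S : Subgroup G) ⊓ nrm H : Subgroup G) : Set G) →
        img x A ⊆ (((S : Subgroup G) ⊓ nrm H : Subgroup G) : Set G) →
        Fus 𝒩 ((S : Subgroup G) : Set G) A x by
    intro A g _ hA hgA
    refine Fus.of_reach (reach_large S hA hgA (Nat.zero_le _)) fun T hT x hx B hB => ?_
    obtain ⟨n, hn, he⟩ := exists_split S hT.1.2 hx
    set H := T ⊔ (S : Subgroup G) ⊓ Subgroup.centralizer (T : Set G) with hH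
    have hHS : H ≤ (S : Subgroup G) := sup_le hT.1.1 inf_le_left
    have hHle : H ≤ (S : Subgroup G) ⊓ nrm H := le_inf hHS Subgroup.le_normalizer
    have hBH : B ⊆ (H : Set G) := hB.trans (le_sup_left : T ≤ H)
    exact (key _ H (zc_le_sup_centralizer S hT.1.1) hHS le_add_self n B hn (hBH.trans hHle)
      ((img_subset_of_mem_nrm hn hBH).trans hHle)).congr fun b hb => (he b (hB hb)).symm
  intro k
  induction k using Nat.strong_induction_on with
  | _ k ih =>
    intro H hZH hH hk x A hx hA hxA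
    set P₀ := (S : Subgroup G) ⊓ nrm H with hP₀
    -- a step inside a large subgroup
    have big : ∀ H' : Subgroup G, zc (S : Subgroup G) ≤ H' → H' ≤ (S : Subgroup G) →
        Nat.card ↥P₀ < Nat.card ↥((S : Subgroup G) ⊓ nrm H') →
        ∀ (x : G) (A : Set G), x ∈ nrm H' → A ⊆ (((S : Subgroup G) ⊓ nrm H' : Subgroup G) : Set G) →
        img x A ⊆ (((S : Subgroup G) ⊓ nrm H' : Subgroup G) : Set G) →
        Fus 𝒩 ((S : Subgroup G) : Set G) A x := by
      intro H' h1 h2 h3
      have h5 : Nat.card ↥((S : Subgroup G) ⊓ nrm H') ≤ Nat.card ↥(S : Subgroup G) :=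
        Subgroup.card_le_of_le inf_le_left
      exact ih (Nat.card ↥(S : Subgroup G) - Nat.card ↥((S : Subgroup G) ⊓ nrm H')) (by omega)
        H' h1 h2 (by omega)
    by_cases hP : P₀ = (S : Subgroup G)
    · have hc := loc H hZH hH 1 (S : Subgroup G)
        (by rw [cnj_one]; exact sylow_isSylowIn S (hP ▸ inf_le_right)) A x (by rwa [cnj_one])
        (hA.trans (by rw [hP])) (hxA.trans (by rw [hP]))
      refine hc.bind ?_
      rintro M (rfl | rfl) y hy B hB hyB
      · exact Fus.single (Or.inl rfl) ⟨Subgroup.mem_top y, hy.2⟩ hB hyB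
      · exact Fus.single (Or.inr rfl) ⟨Subgroup.mem_top y, hy.2⟩ hB hyB
    obtain ⟨g, hgH, hgf, hgP⟩ := exists_fully S hH
    set P₁ := (S : Subgroup G) ⊓ nrm (cnj g H) with hP₁
    have hP₁p : IsPGroup p ↥P₁ := S.2.to_inf_left
    have hc01 : Nat.card ↥P₀ ≤ Nat.card ↥P₁ := by
      rw [← card_cnj g P₀]; exact Subgroup.card_le_of_le hgP
    have hP0lt : Nat.card ↥P₀ < Nat.card ↥(S : Subgroup G) :=
      (Subgroup.card_le_of_le inf_le_left).lt_of_ne
        fun he => hP (Subgroup.eq_of_le_of_card_ge inf_le_left he.ge)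
    have hsub : (P₀ : Set G) ⊆ ((S : Subgroup G) : Set G) := fun z hz => hz.1
    have hgS : img g (P₀ : Set G) ⊆ ((S : Subgroup G) : Set G) := fun z hz => (hgP hz).1
    -- `g` on `P₀`
    have hgF : Fus 𝒩 ((S : Subgroup G) : Set G) (P₀ : Set G) g := by
      refine Fus.of_reach (reach_large S hsub hgS (Nat.card_coe_set_eq (P₀ : Set G)).le) ?_
      intro T hT z hz B hB
      obtain ⟨n, hn, he⟩ := exists_split S hT.1.2 hz
      set H' := T ⊔ (S : Subgroup G) ⊓ Subgroup.centralizer (T : Set G) with hH'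
      have hH'S : H' ≤ (S : Subgroup G) := sup_le hT.1.1 inf_le_left
      have hH'le : H' ≤ (S : Subgroup G) ⊓ nrm H' := le_inf hH'S Subgroup.le_normalizer
      have hBH : B ⊆ (H' : Set G) := hB.trans (le_sup_left : T ≤ H')
      exact (big H' (zc_le_sup_centralizer S hT.1.1) hH'S (card_lt_sup_centralizer S hT.1.1 hP0lt hT.2)
        n B hn (hBH.trans hH'le) ((img_subset_of_mem_nrm hn hBH).trans hH'le)).congr
        fun b hb => (he b (hB hb)).symm
    -- `g x g⁻¹` on the conjugate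
    have hmid : Fus 𝒩 ((S : Subgroup G) : Set G) (img g A) (g * x * g⁻¹) := by
      have hgA : img g A ⊆ (P₁ : Set G) := (img_mono hA).trans hgP
      have hgxA : img (g * x * g⁻¹) (img g A) ⊆ (P₁ : Set G) := by
        rw [img_img, inv_mul_cancel_right, ← img_img]; exact (img_mono hxA).trans hgP
      refine (loc H hZH hH g P₁ (hgf.isSylowIn S.2) _ (g * x * g⁻¹)
        (by rw [← cnj_nrm]; exact conj_mem_cnj.2 hx) hgA hgxA).bind ?_
      have hP₁S : (P₁ : Set G) ⊆ ((S : Subgroup G) : Set G) := fun z hz => hz.1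
      rintro M (rfl | rfl) y hy B hB hyB
      · by_cases hP1 : P₁ = (S : Subgroup G)
        · rw [hP1] at hy hB hyB
          exact Fus.single (Or.inl rfl) ⟨Subgroup.mem_top y, hy.2⟩ hB hyB
        · have hle : P₁ ≤ (S : Subgroup G) ⊓ nrm (W P₁) := le_inf inf_le_left (le_nrm_functor hW hP₁p)
          have hlt := lt_inf_nrm S.2 (inf_le_left : P₁ ≤ _) hP1
          have h1 : Nat.card ↥P₁ < Nat.card ↥((S : Subgroup G) ⊓ nrm P₁) :=
            (Subgroup.card_le_of_le hlt.le).lt_of_ne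
              fun he => hlt.ne (Subgroup.eq_of_le_of_card_ge hlt.le he.ge)
          have h2 : Nat.card ↥((S : Subgroup G) ⊓ nrm P₁) ≤ Nat.card ↥((S : Subgroup G) ⊓ nrm (W P₁)) :=
            Subgroup.card_le_of_le (inf_le_inf_left _ (nrm_le_nrm_functor hW hP₁p))
          exact big (W P₁) ((zc_le_inf_nrm S hgH).trans (hWZ _ hP₁p))
            ((functor_le hW hP₁p).trans inf_le_left) (by omega) y B hy.2 (hB.trans hle)
            (hyB.trans hle)
      · exact Fus.single (Or.inr rfl) ⟨Subgroup.mem_top y,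
          centralizer_le_of_inf_nrm hVmono S hS hgH hy.2⟩ (hB.trans hP₁S) (hyB.trans hP₁S)
    have h6 := (hgF.mono hA).trans hmid
    rw [inv_mul_cancel_right] at h6
    have h7 := (hgF.mono hxA).inv
    rw [img_img] at h7
    simpa using h6.trans h7

/-- Control of transfer by `N(W S)` and `C(V S)`. -/
theorem inf_commutator_le_pairSig
    (hloc : ∀ H : Subgroup G, zc (S : Subgroup G) ≤ H → H ≤ (S : Subgroup G) →
      ∃ T, IsSylowIn p T (nrm H) ∧ T ⊓ ⁅nrm H, nrm H⁆ ≤ pairSig W V T (nrm H)) :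
    (S : Subgroup G) ⊓ ⁅(⊤ : Subgroup G), ⊤⁆ ≤ pairSig W V (S : Subgroup G) ⊤ := by
  set D := pairSig W V (S : Subgroup G) ⊤ with hD
  have loc : ∀ H : Subgroup G, zc (S : Subgroup G) ≤ H → H ≤ (S : Subgroup G) → ∀ (g : G) (T : Subgroup G),
      IsSylowIn p T (nrm (cnj g H)) →
      T ⊓ ⁅nrm (cnj g H), nrm (cnj g H)⁆ ≤ pairSig W V T (nrm (cnj g H)) := by
    intro H hZH hH g T hT
    obtain ⟨Q, hQ, hc⟩ := hloc H hZH hH
    have h1 : IsSylowIn p (cnj g Q) (nrm (cnj g H)) := by rw [← cnj_nrm]; exact hQ.map_conj g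
    obtain ⟨y, hy, rfl⟩ := hT.exists_cnj_eq h1
    have hL : nrm (cnj g H) = cnj (y * g) (nrm H) := by
      rw [← cnj_cnj, cnj_nrm g H, cnj_of_mem hy]
    have e : ⁅cnj (y * g) (nrm H), cnj (y * g) (nrm H)⁆ = cnj (y * g) ⁅nrm H, nrm H⁆ :=
      (Subgroup.map_commutator _ _ _).symm
    rw [cnj_cnj, hL, e, ← cnj_inf, ← cnj_pairSig hW hV hQ.isPGroup]
    exact cnj_le_cnj.2 hc
  -- a step inside the normalizer of a large subgroup
  have stepD : ∀ {T : Subgroup G}, T ≤ (S : Subgroup G) → Fully p (S : Subgroup G) T →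
      (((S : Subgroup G) ⊓ nrm (T ⊔ (S : Subgroup G) ⊓ Subgroup.centralizer (T : Set G))) ⊓
        ⁅nrm (T ⊔ (S : Subgroup G) ⊓ Subgroup.centralizer (T : Set G)),
          nrm (T ⊔ (S : Subgroup G) ⊓ Subgroup.centralizer (T : Set G))⁆ ≤ D) →
      ∀ x ∈ nrm T, ∀ a ∈ T, a⁻¹ * (x * a * x⁻¹) ∈ D := by
    intro T hTS hTf hTD x hx a ha
    obtain ⟨n, hn, he⟩ := exists_split S hTf hx
    set H := T ⊔ (S : Subgroup G) ⊓ Subgroup.centralizer (T : Set G) with hH
    have hHS : H ≤ (S : Subgroup G) := sup_le hTS inf_le_left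
    have haH : a ∈ H := (le_sup_left : T ≤ H) ha
    rw [he a ha]
    have h1 : a⁻¹ * (n * a * n⁻¹) ∈ H := H.mul_mem (H.inv_mem haH) (conj_mem_of_nrm hn haH)
    refine hTD ⟨⟨hHS h1, Subgroup.le_normalizer h1⟩, ?_⟩
    have : a⁻¹ * (n * a * n⁻¹) = ⁅a⁻¹, n⁆ := by simp [commutatorElement_def, mul_assoc]
    rw [this]
    exact Subgroup.commutator_mem_commutator (inv_mem (Subgroup.le_normalizer haH)) hn
  suffices key : ∀ (k : ℕ) (H : Subgroup G), zc (S : Subgroup G) ≤ H → H ≤ (S : Subgroup G) →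
      Nat.card ↥(S : Subgroup G) ≤ Nat.card ↥((S : Subgroup G) ⊓ nrm H) + k →
      ((S : Subgroup G) ⊓ nrm H) ⊓ ⁅nrm H, nrm H⁆ ≤ D by
    have hfocal := Subgroup.commutator_inf_eq_focalSubgroup S
    rw [inf_comm, ← commutator_def, hfocal, Subgroup.focalSubgroup_def, Subgroup.closure_le]
    rintro z ⟨hz, x, hxS, u, rfl⟩
    have hxi : x⁻¹ ∈ (S : Subgroup G) := inv_mem hxS
    have e : ⁅x, u⁆ = (x⁻¹)⁻¹ * (u * x⁻¹ * u⁻¹) := by simp [commutatorElement_def, mul_assoc]
    have himg : img u ({x⁻¹} : Set G) ⊆ ((S : Subgroup G) : Set G) := by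
      rw [img, Set.image_singleton, Set.singleton_subset_iff]
      have := (S : Subgroup G).mul_mem hxi hz
      rw [e, inv_inv, inv_mul_cancel_left] at this
      exact this
    rw [e]
    have reachD : ∀ {A : Set G} {g : G},
        Reach {T | (T ≤ (S : Subgroup G) ∧ Fully p (S : Subgroup G) T) ∧ 0 ≤ Nat.card ↥T} A g →
        ∀ a ∈ A, a⁻¹ * (g * a * g⁻¹) ∈ D := by
      intro A g h
      induction h with
      | one A => intro a _; simp
      | @cons A T x g hT hA hx _ ih =>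
        intro a ha
        have h1 := stepD hT.1.1 hT.1.2 (key _ _ (zc_le_sup_centralizer S hT.1.1)
          (sup_le hT.1.1 inf_le_left) le_add_self) x hx a (hA ha)
        have h2 := ih _ ⟨a, ha, rfl⟩
        convert D.mul_mem h1 h2 using 1
        group
    exact reachD (reach_large S (Set.singleton_subset_iff.2 hxi) himg (Nat.zero_le _)) _ rfl
  intro k
  induction k using Nat.strong_induction_on with
  | _ k ih =>
    intro H hZH hH hk
    set P₀ := (S : Subgroup G) ⊓ nrm H with hP₀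
    have big : ∀ H' : Subgroup G, zc (S : Subgroup G) ≤ H' → H' ≤ (S : Subgroup G) →
        Nat.card ↥P₀ < Nat.card ↥((S : Subgroup G) ⊓ nrm H') →
        ((S : Subgroup G) ⊓ nrm H') ⊓ ⁅nrm H', nrm H'⁆ ≤ D := by
      intro H' h1 h2 h3
      have h5 : Nat.card ↥((S : Subgroup G) ⊓ nrm H') ≤ Nat.card ↥(S : Subgroup G) :=
        Subgroup.card_le_of_le inf_le_left
      exact ih (Nat.card ↥(S : Subgroup G) - Nat.card ↥((S : Subgroup G) ⊓ nrm H')) (by omega)
        H' h1 h2 (by omega)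
    by_cases hP : P₀ = (S : Subgroup G)
    · have hc := loc H hZH hH 1 (S : Subgroup G)
        (by rw [cnj_one]; exact sylow_isSylowIn S (hP ▸ inf_le_right))
      rw [cnj_one] at hc
      rw [hP]
      refine hc.trans (sup_le_sup ?_ ?_) <;>
        exact inf_le_inf_left _ (Subgroup.commutator_mono (inf_le_inf_right _ le_top)
          (inf_le_inf_right _ le_top))
    obtain ⟨g, hgH, hgf, hgP⟩ := exists_fully S hH
    set P₁ := (S : Subgroup G) ⊓ nrm (cnj g H) with hP₁
    have hP₁p : IsPGroup p ↥P₁ := S.2.to_inf_left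
    have hc01 : Nat.card ↥P₀ ≤ Nat.card ↥P₁ := by
      rw [← card_cnj g P₀]; exact Subgroup.card_le_of_le hgP
    have hP0lt : Nat.card ↥P₀ < Nat.card ↥(S : Subgroup G) :=
      (Subgroup.card_le_of_le inf_le_left).lt_of_ne
        fun he => hP (Subgroup.eq_of_le_of_card_ge inf_le_left he.ge)
    have hone : P₁ ⊓ ⁅nrm (cnj g H), nrm (cnj g H)⁆ ≤ D := by
      refine (loc H hZH hH g P₁ (hgf.isSylowIn S.2)).trans (sup_le ?_ ?_)
      · by_cases hP1 : P₁ = (S : Subgroup G)
        · rw [hP1]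
          exact (inf_le_inf_left _ (Subgroup.commutator_mono (inf_le_inf_right _ le_top)
            (inf_le_inf_right _ le_top))).trans le_sup_left
        · have hle : P₁ ≤ (S : Subgroup G) ⊓ nrm (W P₁) := le_inf inf_le_left (le_nrm_functor hW hP₁p)
          have hlt := lt_inf_nrm S.2 (inf_le_left : P₁ ≤ _) hP1
          have h1 : Nat.card ↥P₁ < Nat.card ↥((S : Subgroup G) ⊓ nrm P₁) :=
            (Subgroup.card_le_of_le hlt.le).lt_of_ne
              fun he => hlt.ne (Subgroup.eq_of_le_of_card_ge hlt.le he.ge)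
          have h2 : Nat.card ↥((S : Subgroup G) ⊓ nrm P₁) ≤ Nat.card ↥((S : Subgroup G) ⊓ nrm (W P₁)) :=
            Subgroup.card_le_of_le (inf_le_inf_left _ (nrm_le_nrm_functor hW hP₁p))
          exact le_trans (inf_le_inf hle (Subgroup.commutator_mono inf_le_right inf_le_right))
            (big (W P₁) ((zc_le_inf_nrm S hgH).trans (hWZ _ hP₁p))
              ((functor_le hW hP₁p).trans inf_le_left) (by omega))
      · have hc := centralizer_le_of_inf_nrm hVmono S hS hgH
        exact (inf_le_inf inf_le_left (Subgroup.commutator_mono (inf_le_inf le_top hc)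
          (inf_le_inf le_top hc))).trans le_sup_right
    rintro y ⟨hyP, hy'⟩
    have hz : g * y * g⁻¹ ∈ D := hone ⟨hgP (conj_mem_cnj.2 hyP), by
      have : g * y * g⁻¹ ∈ cnj g ⁅nrm H, nrm H⁆ := conj_mem_cnj.2 hy'
      rw [show cnj g ⁅nrm H, nrm H⁆ = ⁅cnj g (nrm H), cnj g (nrm H)⁆ from
        Subgroup.map_commutator _ _ _, cnj_nrm] at this
      exact this⟩
    have reachD : ∀ {A : Set G} {z : G},
        Reach {T | (T ≤ (S : Subgroup G) ∧ Fully p (S : Subgroup G) T) ∧ Nat.card ↥P₀ ≤ Nat.card ↥T} A z →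
        ∀ a ∈ A, a⁻¹ * (z * a * z⁻¹) ∈ D := by
      intro A z h
      induction h with
      | one A => intro a _; simp
      | @cons A T x z hT hA hx _ ih' =>
        intro a ha
        have h1 := stepD hT.1.1 hT.1.2 (big _ (zc_le_sup_centralizer S hT.1.1)
          (sup_le hT.1.1 inf_le_left) (card_lt_sup_centralizer S hT.1.1 hP0lt hT.2)) x hx a (hA ha)
        have h2 := ih' _ ⟨a, ha, rfl⟩
        convert D.mul_mem h1 h2 using 1
        group
    have hfoc : y⁻¹ * (g * y * g⁻¹) ∈ D :=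
      reachD (reach_large S (fun z hz => (hz : z ∈ P₀).1) (fun z hz => (hgP hz).1)
        (Nat.card_coe_set_eq (P₀ : Set G)).le) y hyP
    convert D.mul_mem hz (D.inv_mem hfoc) using 1
    group

end Cfsg.Agent.ConjFunctor
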