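import Cfsg.Agent.ConjFunctor.Sections
import Mathlib.Algebra.Polynomial.AlgebraMap
import Mathlib.RingTheory.Polynomial.Basic
import Mathlib.FieldTheory.Finite.Basic

/-!
Chief factors inside normal `p`-subgroups, and the norm of an element acting on one of them with
bounded degree.
-/

set_option autoImplicit false

open scoped commutatorElement IsMulCommutative

namespace Cfsg.Agent.ConjFunctor

variable {G : Type*} [Group G] {p : ℕ}

theorem map_iterCommutator {H : Type*} [Group H] (f : G →* H) (U X : Subgroup G) (n : ℕ) :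
    (iterCommutator U X n).map f = iterCommutator (U.map f) (X.map f) n := by
  induction n with
  | zero => rfl
  | succ n ih =>
    show Subgroup.map f ⁅iterCommutator U X n, X⁆ = ⁅iterCommutator (U.map f) (X.map f) n, X.map f⁆
    rw [Subgroup.map_commutator, ih]

theorem iterCommutator_succ (U X : Subgroup G) (n : ℕ) :
    iterCommutator U X (n + 1) = ⁅iterCommutator U X n, X⁆ := rfl

theorem iterCommutator_mono {U U' X X' : Subgroup G} (hU : U ≤ U') (hX : X ≤ X') (n : ℕ) :
    iterCommutator U X n ≤ iterCommutator U' X' n := by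
  induction n with
  | zero => exact hU
  | succ n ih => exact Subgroup.commutator_mono ih hX

theorem iterCommutator_le_self {U X : Subgroup G} (hX : X ≤ nrm U) (n : ℕ) :
    iterCommutator U X n ≤ U := by
  induction n with
  | zero => exact le_rfl
  | succ n ih =>
    exact (Subgroup.commutator_mono ih le_rfl).trans (Subgroup.le_normalizer_iff_commutator_le_left.1 hX)

theorem iterCommutator_antitone {U X : Subgroup G} (hX : X ≤ nrm U) {m n : ℕ} (h : m ≤ n) :
    iterCommutator U X n ≤ iterCommutator U X m := by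
  obtain ⟨k, rfl⟩ := Nat.exists_eq_add_of_le h
  clear h
  induction m with
  | zero => rw [Nat.zero_add]; exact iterCommutator_le_self hX k
  | succ m ih =>
    rw [Nat.add_right_comm]
    exact Subgroup.commutator_mono ih le_rfl

/-! ### Conjugation on an abelian normal subgroup as additive endomorphisms -/

section ConjEnd

variable (U : Subgroup G) [U.Normal] [IsMulCommutative ↥U]

/-- Conjugation by elements of `G` on the abelian normal subgroup `U`, written additively. -/
noncomputable def conjEnd : G →* AddMonoid.End (Additive ↥U) where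
  toFun g := MonoidHom.toAdditive (MulAut.conjNormal g : MulAut ↥U).toMonoidHom
  map_one' := by
    ext a
    show (1 : G) * (Additive.toMul a : ↥U) * 1⁻¹ = _
    simp
  map_mul' g h := by
    ext a
    show (g * h) * (Additive.toMul a : ↥U) * (g * h)⁻¹ =
      g * (h * (Additive.toMul a : ↥U) * h⁻¹) * g⁻¹
    simp [mul_assoc]

theorem conjEnd_apply (g : G) (a : Additive ↥U) :
    ((Additive.toMul (conjEnd U g a) : ↥U) : G) = g * (Additive.toMul a : ↥U) * g⁻¹ := rfl

theorem conjEnd_sub_one_pow_mem (u : G) (n : ℕ) (a : Additive ↥U) :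
    ((Additive.toMul (((conjEnd U u - 1) ^ n) a) : ↥U) : G) ∈
      iterCommutator U (Subgroup.zpowers u) n := by
  induction n with
  | zero => simp [iterCommutator]
  | succ n ih =>
    rw [pow_succ']
    set b := ((conjEnd U u - 1) ^ n) a with hb
    have e : ((Additive.toMul ((conjEnd U u - 1) b) : ↥U) : G) = ⁅u, (Additive.toMul b : ↥U).1⁆ := by
      show ((Additive.toMul (conjEnd U u b - b) : ↥U) : G) = _
      rw [toMul_sub, Subgroup.coe_div, conjEnd_apply, div_eq_mul_inv, commutatorElement_def]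
    show ((Additive.toMul ((conjEnd U u - 1) b) : ↥U) : G) ∈ _
    rw [e, iterCommutator_succ, Subgroup.commutator_comm]
    exact Subgroup.commutator_mem_commutator (Subgroup.mem_zpowers u) ih

theorem conjEnd_sub_one_pow_eq_zero {u : G} {n : ℕ}
    (h : iterCommutator U (Subgroup.zpowers u) n = ⊥) : (conjEnd U u - 1) ^ n = 0 := by
  ext a
  have := conjEnd_sub_one_pow_mem U u n a
  rw [h, Subgroup.mem_bot] at this
  simpa using this

theorem natCast_end_eq_zero (hexp : ∀ a ∈ U, a ^ p = 1) :
    (p : AddMonoid.End (Additive ↥U)) = 0 := by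
  ext a
  show ((Additive.toMul ((p : AddMonoid.End (Additive ↥U)) a) : ↥U) : G) = _
  rw [AddMonoid.End.natCast_apply, toMul_nsmul, SubgroupClass.coe_pow]
  simpa using hexp _ (Additive.toMul a : ↥U).2

end ConjEnd

open Polynomial in
/-- In a ring of characteristic `p`, `1 + a + ⋯ + a^(p-1) = (a - 1)^(p-1)`. -/
theorem geom_sum_eq_sub_one_pow [hp : Fact p.Prime] {R : Type*} [Ring R] (hR : (p : R) = 0) (a : R) :
    ∑ i ∈ Finset.range p, a ^ i = (a - 1) ^ (p - 1) := by
  have hz : (∑ i ∈ Finset.range p, (X : (ZMod p)[X]) ^ i) = (X - 1) ^ (p - 1) := by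
    have h0 : (X : (ZMod p)[X]) - 1 ≠ 0 := X_sub_C_ne_zero (1 : ZMod p) |> (by simpa using ·)
    apply mul_right_cancel₀ h0
    rw [geom_sum_mul, ← pow_succ, Nat.sub_add_cancel hp.out.one_le, sub_pow_char, one_pow]
  have h1 : ((∑ i ∈ Finset.range p, (X : ℤ[X]) ^ i) - (X - 1) ^ (p - 1)).map
      (Int.castRingHom (ZMod p)) = 0 := by
    simp [Polynomial.map_sum, hz]
  have h2 : C (p : ℤ) ∣ ((∑ i ∈ Finset.range p, (X : ℤ[X]) ^ i) - (X - 1) ^ (p - 1)) := by
    rw [C_dvd_iff_dvd_coeff]
    intro i
    rw [← ZMod.intCast_zmod_eq_zero_iff_dvd]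
    have h5 := congrArg (fun f : (ZMod p)[X] => f.coeff i) h1
    simp only [coeff_map, coeff_zero, eq_intCast] at h5
    exact h5
  obtain ⟨q, hq⟩ := h2
  have h3 := congrArg (fun f : ℤ[X] => Polynomial.aeval a f) hq
  simp only [map_sub, map_sum, map_pow, aeval_X, map_one, map_mul, aeval_C] at h3
  rw [map_natCast, hR, zero_mul] at h3
  exact sub_eq_zero.1 h3

/-- The norm of an element acting with degree `< p` on an elementary abelian normal subgroup. -/
theorem prod_conj_eq_one [Fact p.Prime] {U : Subgroup G} [U.Normal] (hab : IsMulCommutative ↥U)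
    (hexp : ∀ a ∈ U, a ^ p = 1) {u : G}
    (h : iterCommutator U (Subgroup.zpowers u) (p - 1) = ⊥) {y : G} (hy : y ∈ U) :
    ((List.range p).map fun i => u ^ i * y * (u ^ i)⁻¹).prod = 1 := by
  have h1 : ∑ i ∈ Finset.range p, conjEnd U u ^ i = 0 :=
    (geom_sum_eq_sub_one_pow (natCast_end_eq_zero U hexp) _).trans (conjEnd_sub_one_pow_eq_zero U h)
  let ev : AddMonoid.End (Additive ↥U) →+ Additive ↥U :=
    AddMonoidHom.mk' (fun f => f (Additive.ofMul (⟨y, hy⟩ : ↥U))) (fun _ _ => rfl)
  have h2 := congrArg ev h1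
  rw [map_sum, map_zero] at h2
  have h3 : ((List.range p).map fun i => Additive.toMul (ev (conjEnd U u ^ i))).prod = 1 := by
    have h5 := congrArg Additive.toMul h2
    rw [toMul_sum, toMul_zero] at h5
    rw [← h5, Finset.prod_eq_multiset_prod, Finset.range_val, ← Multiset.coe_range,
      Multiset.map_coe, Multiset.prod_coe]
  have h4 := congrArg (fun a : ↥U => (a : G)) h3
  simp only [Subgroup.val_list_prod, List.map_map, OneMemClass.coe_one] at h4
  rw [← h4]
  refine congrArg List.prod (List.map_congr_left fun i _ => ?_)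
  show u ^ i * y * (u ^ i)⁻¹ =
    ((Additive.toMul ((conjEnd U u ^ i) (Additive.ofMul (⟨y, hy⟩ : ↥U))) : ↥U) : G)
  rw [← map_pow]
  exact (conjEnd_apply U (u ^ i) (Additive.ofMul (⟨y, hy⟩ : ↥U))).symm

/-! ### Chief factors inside `p`-subgroups -/

namespace ChiefFactor

variable {U V : Subgroup G}

theorem le (h : IsChiefFactor U V) : V ≤ U := h.1.le

theorem map_minimal [V.Normal] (h : IsChiefFactor U V) (N : Subgroup (G ⧸ V)) (hN : N.Normal)
    (hle : N ≤ U.map (QuotientGroup.mk' V)) : N = ⊥ ∨ N = U.map (QuotientGroup.mk' V) := by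
  have hs := QuotientGroup.mk'_surjective V
  have h1 : V ≤ N.comap (QuotientGroup.mk' V) := fun v hv => by
    show QuotientGroup.mk' V v ∈ N
    rw [QuotientGroup.mk'_apply, (QuotientGroup.eq_one_iff v).2 hv]
    exact N.one_mem
  have h2 : N.comap (QuotientGroup.mk' V) ≤ U := by
    refine (Subgroup.comap_mono hle).trans ?_
    rw [Subgroup.comap_map_eq, QuotientGroup.ker_mk', sup_of_le_left h.1.le]
  rcases h.2.2.2 _ (hN.comap _) h1 h2 with h3 | h3
  · refine Or.inl ?_
    rw [← Subgroup.map_comap_eq_self_of_surjective hs N, h3, QuotientGroup.map_mk'_self]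
  · refine Or.inr ?_
    rw [← h3, Subgroup.map_comap_eq_self_of_surjective hs N]

theorem map_ne_bot [V.Normal] (h : IsChiefFactor U V) : U.map (QuotientGroup.mk' V) ≠ ⊥ := by
  rw [Ne, Subgroup.map_eq_bot_iff, QuotientGroup.ker_mk']
  exact fun hle => h.1.not_ge hle

variable [Finite G] [hp : Fact p.Prime]

theorem commutator_map_eq_bot [V.Normal] (h : IsChiefFactor U V) (hU : IsPGroup p ↥U) :
    ⁅U.map (QuotientGroup.mk' V), U.map (QuotientGroup.mk' V)⁆ = ⊥ := by
  set W := U.map (QuotientGroup.mk' V) with hW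
  haveI : U.Normal := h.2.1
  haveI : W.Normal := Subgroup.Normal.map inferInstance _ (QuotientGroup.mk'_surjective V)
  refine ((map_minimal h ⁅W, W⁆ inferInstance (Subgroup.commutator_le_self W))).resolve_right
    fun he => ?_
  have hWp : IsPGroup p ↥W := hU.map _
  haveI : Nontrivial ↥W := (Subgroup.nontrivial_iff_ne_bot W).2 (map_ne_bot h)
  haveI : Group.IsNilpotent ↥W := hWp.isNilpotent
  have hne : commutator ↥W ≠ ⊤ := by
    intro ht
    have := Group.IsSolvable.commutator_lt_top_of_nontrivial (G := ↥W)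
    exact this.ne ht
  apply hne
  rw [← Subgroup.map_subtype_inj, Subgroup.map_subtype_commutator, he, ← MonoidHom.range_eq_map,
    Subgroup.range_subtype]

theorem isMulCommutative_map [V.Normal] (h : IsChiefFactor U V) (hU : IsPGroup p ↥U) :
    IsMulCommutative ↥(U.map (QuotientGroup.mk' V)) :=
  Subgroup.commutator_self_eq_bot_iff.1 (commutator_map_eq_bot h hU)

theorem commutator_le (h : IsChiefFactor U V) (hU : IsPGroup p ↥U) : ⁅U, U⁆ ≤ V := by
  haveI := h.2.2.1
  have := commutator_map_eq_bot h hU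
  rwa [← Subgroup.map_commutator, Subgroup.map_eq_bot_iff, QuotientGroup.ker_mk'] at this

theorem pow_map_eq_one [V.Normal] (h : IsChiefFactor U V) (hU : IsPGroup p ↥U) {a : G ⧸ V}
    (ha : a ∈ U.map (QuotientGroup.mk' V)) : a ^ p = 1 := by
  set W := U.map (QuotientGroup.mk' V) with hW
  haveI : U.Normal := h.2.1
  haveI : W.Normal := Subgroup.Normal.map inferInstance _ (QuotientGroup.mk'_surjective V)
  haveI := isMulCommutative_map h hU
  let Ω : Subgroup (G ⧸ V) := (powMonoidHom p : ↥W →* ↥W).ker.map W.subtype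
  have hΩ : Ω.Normal := by
    constructor
    rintro _ ⟨x, hx, rfl⟩ g
    refine ⟨⟨g * x * g⁻¹, (inferInstance : W.Normal).conj_mem _ x.2 g⟩, ?_, rfl⟩
    have hx' : (x : G ⧸ V) ^ p = 1 := congrArg Subtype.val hx
    show powMonoidHom p _ = 1
    refine Subtype.ext ?_
    simp [conj_pow, hx']
  have hne : Ω ≠ ⊥ := by
    haveI : Nontrivial ↥W := (Subgroup.nontrivial_iff_ne_bot W).2 (map_ne_bot h)
    have hdvd : p ∣ Nat.card ↥W := by
      rcases (hU.map (QuotientGroup.mk' V)).card_eq_or_dvd with h1 | h1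
      · exact absurd h1 (Finite.one_lt_card (α := ↥W)).ne'
      · exact h1
    obtain ⟨x, hx⟩ := exists_prime_orderOf_dvd_card' p hdvd
    intro hb
    have : (x : G ⧸ V) ∈ Ω := ⟨x, MonoidHom.mem_ker.2 (by simp [← hx, pow_orderOf_eq_one]), rfl⟩
    rw [hb, Subgroup.mem_bot, OneMemClass.coe_eq_one] at this
    rw [this, orderOf_one] at hx
    exact hp.out.ne_one hx.symm
  have := (map_minimal h Ω hΩ (Subgroup.map_subtype_le _)).resolve_left hne
  have ha' : a ∈ Ω := this.symm ▸ ha
  obtain ⟨x, hx, rfl⟩ := ha'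
  exact congrArg Subtype.val hx

theorem pow_mem (h : IsChiefFactor U V) (hU : IsPGroup p ↥U) {a : G} (ha : a ∈ U) : a ^ p ∈ V := by
  haveI := h.2.2.1
  have := pow_map_eq_one h hU (Subgroup.mem_map_of_mem (QuotientGroup.mk' V) ha)
  rwa [← map_pow, QuotientGroup.mk'_apply, QuotientGroup.eq_one_iff] at this

/-- Norm of an element acting with degree `< p` on a chief factor. -/
theorem prod_conj_mem (h : IsChiefFactor U V) (hU : IsPGroup p ↥U) {u : G}
    (hu : iterCommutator U (Subgroup.zpowers u) (p - 1) ≤ V) {y : G} (hy : y ∈ U) :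
    ((List.range p).map fun i => u ^ i * y * (u ^ i)⁻¹).prod ∈ V := by
  haveI := h.2.2.1
  haveI : (U.map (QuotientGroup.mk' V)).Normal :=
    Subgroup.Normal.map h.2.1 _ (QuotientGroup.mk'_surjective V)
  have hb : iterCommutator (U.map (QuotientGroup.mk' V))
      (Subgroup.zpowers (QuotientGroup.mk' V u)) (p - 1) = ⊥ := by
    rw [← MonoidHom.map_zpowers, ← map_iterCommutator, Subgroup.map_eq_bot_iff,
      QuotientGroup.ker_mk']
    exact hu
  have := prod_conj_eq_one (p := p) (isMulCommutative_map h hU) (fun a ha => pow_map_eq_one h hU ha)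
    hb (Subgroup.mem_map_of_mem _ hy)
  rw [← QuotientGroup.eq_one_iff (N := V), ← QuotientGroup.mk'_apply, map_list_prod, List.map_map]
  rw [← this]
  refine congrArg List.prod (List.map_congr_left fun i _ => ?_)
  simp only [Function.comp_apply, map_mul, map_pow, map_inv]

/-- A normal subgroup generated, modulo elements acting trivially, by a `p`-subgroup acts trivially. -/
theorem commutator_le_of_le_sup (h : IsChiefFactor U V) (hU : IsPGroup p ↥U) {D C P : Subgroup G}
    [D.Normal] (hP : IsPGroup p ↥P) (hPD : P ≤ D) (hC : ⁅U, C⁆ ≤ V) (hD : D ≤ C ⊔ P) :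
    ⁅U, D⁆ ≤ V := by
  haveI := h.2.2.1
  set f := QuotientGroup.mk' V with hf
  set W := U.map f with hW
  haveI : W.Normal := Subgroup.Normal.map h.2.1 _ (QuotientGroup.mk'_surjective V)
  set F := W ⊓ Subgroup.centralizer ((D.map f : Subgroup (G ⧸ V)) : Set (G ⧸ V)) with hF
  haveI : (D.map f).Normal := Subgroup.Normal.map inferInstance _ (QuotientGroup.mk'_surjective V)
  haveI : (Subgroup.centralizer ((D.map f : Subgroup (G ⧸ V)) : Set (G ⧸ V))).Normal :=
    Subgroup.normal_centralizer
  have hCW : C.map f ≤ Subgroup.centralizer (W : Set (G ⧸ V)) := by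
    rw [← Subgroup.commutator_eq_bot_iff_le_centralizer, Subgroup.commutator_comm,
      ← Subgroup.map_commutator, Subgroup.map_eq_bot_iff, QuotientGroup.ker_mk']
    exact hC
  have hne : F ≠ ⊥ := by
    have hWp : IsPGroup p ↥W := hU.map f
    letI : MulAction ↥(P.map f) ↥W := MulAction.compHom _
      ((MulAut.conjNormal (H := W)).comp (P.map f).subtype)
    have hdvd : p ∣ Nat.card ↥W := by
      haveI : Nontrivial ↥W := (Subgroup.nontrivial_iff_ne_bot W).2 (map_ne_bot h)
      exact (hWp.card_eq_or_dvd).resolve_left (Finite.one_lt_card (α := ↥W)).ne'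
    have h1 : (1 : ↥W) ∈ MulAction.fixedPoints ↥(P.map f) ↥W := fun x => by
      show (MulAut.conjNormal (x : G ⧸ V) : MulAut ↥W) 1 = 1
      exact map_one _
    obtain ⟨w, hw, hne⟩ :=
      (hP.map f).exists_fixed_point_of_prime_dvd_card_of_fixed_point ↥W hdvd h1
    intro hb
    have hmem : (w : G ⧸ V) ∈ F := by
      refine ⟨w.2, ?_⟩
      show (w : G ⧸ V) ∈ Subgroup.centralizer _
      rw [Subgroup.mem_centralizer_iff]
      intro d hd
      have hd' : d ∈ C.map f ⊔ P.map f := by
        rw [← Subgroup.map_sup]; exact Subgroup.map_mono hD hd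
      have : C.map f ⊔ P.map f ≤ Subgroup.centralizer {(w : G ⧸ V)} := by
        refine sup_le (hCW.trans (Subgroup.centralizer_le (by simp))) fun x hx => ?_
        refine Subgroup.mem_centralizer_singleton_iff.2 ?_
        have := congrArg Subtype.val (hw ⟨x, hx⟩)
        change x * (w : G ⧸ V) * x⁻¹ = w at this
        exact mul_inv_eq_iff_eq_mul.1 this
      exact Subgroup.mem_centralizer_singleton_iff.1 (this hd')
    rw [hb, Subgroup.mem_bot, OneMemClass.coe_eq_one] at hmem
    exact hne hmem.symm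
  have := (map_minimal h F inferInstance inf_le_left).resolve_left hne
  have h2 : W ≤ Subgroup.centralizer ((D.map f : Subgroup (G ⧸ V)) : Set (G ⧸ V)) :=
    inf_eq_left.1 this
  rw [← Subgroup.commutator_eq_bot_iff_le_centralizer, ← Subgroup.map_commutator,
    Subgroup.map_eq_bot_iff, QuotientGroup.ker_mk'] at h2
  exact h2

/-- Normal `p`-subgroups centralize chief factors inside normal `p`-subgroups. -/
theorem commutator_le_of_normal_pgroup (h : IsChiefFactor U V) (hU : IsPGroup p ↥U)
    {D : Subgroup G} [D.Normal] (hD : IsPGroup p ↥D) : ⁅U, D⁆ ≤ V :=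
  commutator_le_of_le_sup h hU hD le_rfl (C := ⊥)
    (by rw [Subgroup.commutator_bot_right]; exact bot_le) le_sup_right

end ChiefFactor

/-- A chief factor below a normal subgroup. -/
theorem exists_chiefFactor [Finite G] {U : Subgroup G} (hU : U.Normal) (hne : U ≠ ⊥) :
    ∃ V, IsChiefFactor U V := by
  obtain ⟨V, ⟨hV1, hV2⟩, hmax⟩ :=
    (Set.toFinite {V : Subgroup G | V.Normal ∧ V < U}).exists_maximal ⟨⊥, inferInstance, bot_lt_iff_ne_bot.2 hne⟩
  refine ⟨V, hV2, hU, hV1, fun N hN h1 h2 => ?_⟩
  by_contra hcon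
  simp only [not_or] at hcon
  exact hcon.1 (le_antisymm (hmax ⟨hN, lt_of_le_of_ne h2 hcon.2⟩ h1) h1)

end Cfsg.Agent.ConjFunctor
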