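import Cfsg.Agent.ConjFunctor.WellPlaced
import Mathlib.GroupTheory.Focal

/-!
Control of strong fusion and of transfer by sets of conjugacy functors, and the passage from local
control to global control.
-/

set_option autoImplicit false

open scoped commutatorElement

namespace Cfsg.Agent.ConjFunctor

variable {G : Type*} [Group G] {p : ℕ}

/-! ### Fusion realised in given subgroups -/

/-- The map `a ↦ g a g⁻¹` on `A` is a composite of conjugations by elements of members of `𝒩`,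
all intermediate sets lying in `T`. -/
inductive Fus (𝒩 : Set (Subgroup G)) (T : Set G) : Set G → G → Prop
  | refl {A : Set G} {g : G} : (∀ a ∈ A, g * a * g⁻¹ = a) → Fus 𝒩 T A g
  | step {A : Set G} {M : Subgroup G} {x g : G} : M ∈ 𝒩 → x ∈ M → A ⊆ T → img x A ⊆ T →
      Fus 𝒩 T (img x A) g → Fus 𝒩 T A (g * x)

namespace Fus

variable {𝒩 : Set (Subgroup G)} {T : Set G}

theorem congr {A : Set G} {g g' : G} (h : Fus 𝒩 T A g)
    (he : ∀ a ∈ A, g * a * g⁻¹ = g' * a * g'⁻¹) : Fus 𝒩 T A g' := by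
  induction h generalizing g' with
  | refl h => exact .refl fun a ha => (he a ha).symm.trans (h a ha)
  | @step A M x g hM hx hA hxA _ ih =>
    rw [← inv_mul_cancel_right g' x]
    refine .step hM hx hA hxA (ih ?_)
    rintro _ ⟨a, ha, rfl⟩
    simpa [mul_assoc] using he a ha

theorem single {A : Set G} {M : Subgroup G} {x : G} (hM : M ∈ 𝒩) (hx : x ∈ M) (hA : A ⊆ T)
    (hxA : img x A ⊆ T) : Fus 𝒩 T A x := by
  simpa using Fus.step hM hx hA hxA (Fus.refl (g := 1) (by simp))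

theorem trans {A : Set G} {g h : G} (h₁ : Fus 𝒩 T A g) (h₂ : Fus 𝒩 T (img g A) h) :
    Fus 𝒩 T A (h * g) := by
  induction h₁ with
  | @refl A g h' =>
    have : img g A = A := by
      rw [img_congr (g' := (1 : G)) (fun a ha => by simp [h' a ha]), img_one]
    rw [this] at h₂
    refine h₂.congr fun a ha => ?_
    calc h * a * h⁻¹ = h * (g * a * g⁻¹) * h⁻¹ := by rw [h' a ha]
      _ = _ := by group
  | step hM hx hA hxA _ ih =>
    rw [← mul_assoc]
    exact .step hM hx hA hxA (ih (by simpa [img_img] using h₂))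

theorem inv {A : Set G} {g : G} (h : Fus 𝒩 T A g) : Fus 𝒩 T (img g A) g⁻¹ := by
  induction h with
  | @refl A g h' =>
    refine .refl ?_
    rintro _ ⟨a, ha, rfl⟩
    calc g⁻¹ * (g * a * g⁻¹) * g⁻¹⁻¹ = a := by group
      _ = _ := (h' a ha).symm
  | @step A M x g hM hx hA hxA _ ih =>
    rw [← img_img, mul_inv_rev]
    refine ih.trans ?_
    rw [img_inv_img]
    exact single hM (M.inv_mem hx) hxA (by rwa [img_inv_img])

theorem mono {A B : Set G} {g : G} (h : Fus 𝒩 T A g) (hB : B ⊆ A) : Fus 𝒩 T B g := by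
  induction h generalizing B with
  | refl h => exact .refl fun a ha => h a (hB ha)
  | step hM hx hA hxA _ ih =>
    exact .step hM hx (hB.trans hA) ((img_mono hB).trans hxA) (ih (img_mono hB))

/-- Replace each step by a chain for another set of subgroups. -/
theorem bind {𝒩' : Set (Subgroup G)} {T' : Set G} {A : Set G} {g : G} (h : Fus 𝒩 T A g)
    (hb : ∀ M ∈ 𝒩, ∀ x ∈ M, ∀ B : Set G, B ⊆ T → img x B ⊆ T → Fus 𝒩' T' B x) :
    Fus 𝒩' T' A g := by
  induction h with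
  | refl h => exact .refl h
  | step hM hx hA hxA _ ih => exact (hb _ hM _ hx _ hA hxA).trans ih

theorem map {H : Type*} [Group H] (f : G →* H) {A : Set G} {g : G} (h : Fus 𝒩 T A g) :
    Fus (Subgroup.map f '' 𝒩) (f '' T) (f '' A) (f g) := by
  have key : ∀ (x : G) (B : Set G), f '' img x B = img (f x) (f '' B) := fun x B => by
    simp only [img, Set.image_image, map_mul, map_inv]
  induction h with
  | @refl A g h =>
    refine .refl ?_
    rintro _ ⟨a, ha, rfl⟩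
    rw [← map_inv, ← map_mul, ← map_mul, h a ha]
  | @step A M x g hM hx hA hxA _ ih =>
    rw [map_mul]
    refine .step (Set.mem_image_of_mem _ hM) (Subgroup.mem_map_of_mem _ hx) (Set.image_mono hA)
      ?_ ?_
    · rw [← key]; exact Set.image_mono hxA
    · rwa [← key]

theorem of_reach {𝓕 : Set (Subgroup G)} {A : Set G} {g : G} (h : Reach 𝓕 A g)
    (hs : ∀ U ∈ 𝓕, ∀ x ∈ nrm U, ∀ B : Set G, B ⊆ (U : Set G) → Fus 𝒩 T B x) :
    Fus 𝒩 T A g := by
  induction h with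
  | one A => exact .refl (by simp)
  | cons hT hA hx _ ih => exact (hs _ hT _ hx _ hA).trans ih

theorem exists_single {M : Subgroup G} {A : Set G} {g : G} (h : Fus {M} T A g) :
    ∃ x ∈ M, ∀ a ∈ A, x * a * x⁻¹ = g * a * g⁻¹ := by
  induction h with
  | refl h => exact ⟨1, M.one_mem, fun a ha => by simp [h a ha]⟩
  | @step A N x g hN hx _ _ _ ih =>
    obtain ⟨y, hy, he⟩ := ih
    obtain rfl : N = M := hN
    refine ⟨y * x, N.mul_mem hy hx, fun a ha => ?_⟩
    have := he _ ⟨a, ha, rfl⟩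
    calc y * x * a * (y * x)⁻¹ = y * (x * a * x⁻¹) * y⁻¹ := by group
      _ = g * (x * a * x⁻¹) * g⁻¹ := this
      _ = _ := by group

end Fus

/-- All `H`-fusion in `T` is realised by chains in members of `𝒩`. -/
def Controls (𝒩 : Set (Subgroup G)) (T H : Subgroup G) : Prop :=
  ∀ (A : Set G) (h : G), h ∈ H → A ⊆ (T : Set G) → img h A ⊆ (T : Set G) →
    Fus 𝒩 (T : Set G) A h

/-- The subgroups `N_H(W T)`, `W ∈ 𝓦`. -/
def locN (𝓦 : Set (Subgroup G → Subgroup G)) (T H : Subgroup G) : Set (Subgroup G) :=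
  (fun W => H ⊓ nrm (W T)) '' 𝓦

/-- The subgroup generated by the `T ∩ N_H(W T)'`, `W ∈ 𝓦`. -/
def sig (𝓦 : Set (Subgroup G → Subgroup G)) (T H : Subgroup G) : Subgroup G :=
  ⨆ W ∈ 𝓦, T ⊓ ⁅H ⊓ nrm (W T), H ⊓ nrm (W T)⁆

theorem sig_le {𝓦 : Set (Subgroup G → Subgroup G)} {T H : Subgroup G} :
    sig 𝓦 T H ≤ T ⊓ ⁅H, H⁆ :=
  iSup₂_le fun _ _ => inf_le_inf_left _ (Subgroup.commutator_mono inf_le_left inf_le_left)

theorem le_sig {𝓦 : Set (Subgroup G → Subgroup G)} {T H : Subgroup G} {W : Subgroup G → Subgroup G}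
    (hW : W ∈ 𝓦) : T ⊓ ⁅H ⊓ nrm (W T), H ⊓ nrm (W T)⁆ ≤ sig 𝓦 T H :=
  le_biSup (fun W : Subgroup G → Subgroup G => T ⊓ ⁅H ⊓ nrm (W T), H ⊓ nrm (W T)⁆) hW

theorem familyControlsStrongFusionIn_iff {𝓦 : Set (Subgroup G → Subgroup G)} {H : Subgroup G} :
    FamilyControlsStrongFusionIn p 𝓦 H ↔
      ∃ T, IsSylowIn p T H ∧ Controls (locN 𝓦 T H) T H := by
  constructor
  · rintro ⟨T, h1, h2, h3, h⟩
    refine ⟨T, ⟨h1, h2, h3⟩, fun A g hg hA hgA => ?_⟩
    obtain ⟨n, c, hc0, hs, hc, hlast⟩ := h A g hg hA hgA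
    suffices key : ∀ i : Fin (n + 1), Fus (locN 𝓦 T H) (T : Set G) A (c i) from
      (key (Fin.last n)).congr hlast
    intro i
    induction i using Fin.induction with
    | zero => rw [hc0]; exact .refl (by simp)
    | succ i ih =>
      obtain ⟨W, hW, hm⟩ := hs i
      rw [← inv_mul_cancel_right (c i.succ) (c i.castSucc)]
      refine ih.trans (Fus.single ⟨W, hW, rfl⟩ hm (hc i.castSucc) ?_)
      rw [img_img, inv_mul_cancel_right]
      exact hc i.succ
  · rintro ⟨T, ⟨h1, h2, h3⟩, h⟩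
    refine ⟨T, h1, h2, h3, fun A g hg hA hgA => ?_⟩
    suffices key : ∀ (B : Set G) (k : G), Fus (locN 𝓦 T H) (T : Set G) B k → B ⊆ (T : Set G) →
        ∃ (n : ℕ) (c : Fin (n + 1) → G), c 0 = 1 ∧
          (∀ i : Fin n, ∃ W ∈ 𝓦, c i.succ * (c i.castSucc)⁻¹ ∈ H ⊓ nrm (W T)) ∧
          (∀ i : Fin (n + 1), (fun a => c i * a * (c i)⁻¹) '' B ⊆ (T : Set G)) ∧
          ∀ a ∈ B, c (Fin.last n) * a * (c (Fin.last n))⁻¹ = k * a * k⁻¹ from
      key A g (h A g hg hA hgA) hA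
    intro B k hk
    induction hk with
    | @refl B k hk =>
      intro hB
      refine ⟨0, fun _ => 1, rfl, fun i => i.elim0, fun i => ?_, fun a ha => by simp [hk a ha]⟩
      simpa using hB
    | @step B M x k hM hx hB' hxB _ ih =>
      intro _
      obtain ⟨W, hW, rfl⟩ := hM
      obtain ⟨n, c, hc0, hs, hc, hlast⟩ := ih hxB
      refine ⟨n + 1, Fin.cons 1 fun i => c i * x, rfl, ?_, ?_, ?_⟩
      · refine Fin.cases ⟨W, hW, ?_⟩ fun i => ?_
        · simpa [hc0] using hx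
        · obtain ⟨W', hW', hm⟩ := hs i
          refine ⟨W', hW', ?_⟩
          rw [Fin.cons_succ, ← Fin.succ_castSucc, Fin.cons_succ]
          simpa [mul_assoc] using hm
      · refine Fin.cases ?_ fun i => ?_
        · simpa using hB'
        · rintro _ ⟨a, ha, rfl⟩
          have := hc i ⟨_, ⟨a, ha, rfl⟩, rfl⟩
          simpa [mul_assoc] using this
      · intro a ha
        have := hlast _ ⟨a, ha, rfl⟩
        rw [← Fin.succ_last, Fin.cons_succ]
        simpa [mul_assoc] using this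

theorem familyControlsTransferIn_iff {𝓦 : Set (Subgroup G → Subgroup G)} {H : Subgroup G} :
    FamilyControlsTransferIn p 𝓦 H ↔
      ∃ T, IsSylowIn p T H ∧ T ⊓ ⁅H, H⁆ ≤ sig 𝓦 T H :=
  ⟨fun ⟨T, h1, h2, h3, h⟩ => ⟨T, ⟨h1, h2, h3⟩, h.le⟩,
    fun ⟨T, ⟨h1, h2, h3⟩, h⟩ => ⟨T, h1, h2, h3, le_antisymm h sig_le⟩⟩

theorem controlsTransferIn_iff_family {W : Subgroup G → Subgroup G} {H : Subgroup G} :
    ControlsTransferIn p W H ↔ FamilyControlsTransferIn p {W} H := by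
  constructor
  · rintro ⟨T, h1, h2, h3, h⟩
    exact ⟨T, h1, h2, h3, h.trans (iSup_singleton (f := fun W : Subgroup G → Subgroup G =>
      T ⊓ ⁅H ⊓ nrm (W T), H ⊓ nrm (W T)⁆)).symm⟩
  · rintro ⟨T, h1, h2, h3, h⟩
    exact ⟨T, h1, h2, h3, h.trans (iSup_singleton (f := fun W : Subgroup G → Subgroup G =>
      T ⊓ ⁅H ⊓ nrm (W T), H ⊓ nrm (W T)⁆))⟩

theorem controlsStrongFusionIn_iff_family {W : Subgroup G → Subgroup G} {H : Subgroup G} :
    ControlsStrongFusionIn p W H ↔ FamilyControlsStrongFusionIn p {W} H := by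
  rw [familyControlsStrongFusionIn_iff]
  constructor
  · rintro ⟨T, h1, h2, h3, h⟩
    refine ⟨T, ⟨h1, h2, h3⟩, fun A g hg hA hgA => ?_⟩
    obtain ⟨x, hx, he⟩ := h A g hg hA hgA
    refine Fus.congr ?_ he
    refine Fus.single (M := H ⊓ nrm (W T)) ⟨W, rfl, rfl⟩ hx hA ?_
    rwa [img_congr he]
  · rintro ⟨T, ⟨h1, h2, h3⟩, h⟩
    refine ⟨T, h1, h2, h3, fun A g hg hA hgA => ?_⟩
    have := h A g hg hA hgA
    rw [locN, Set.image_singleton] at this
    exact this.exists_single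

/-- The pointwise form of control of strong fusion by a single functor. -/
theorem Controls.exists_single {W : Subgroup G → Subgroup G} {T H : Subgroup G}
    (h : Controls (locN {W} T H) T H) {A : Set G} {g : G} (hg : g ∈ H) (hA : A ⊆ (T : Set G))
    (hgA : img g A ⊆ (T : Set G)) :
    ∃ x ∈ H ⊓ nrm (W T), ∀ a ∈ A, x * a * x⁻¹ = g * a * g⁻¹ := by
  have := h A g hg hA hgA
  rw [locN, Set.image_singleton] at this
  exact this.exists_single

/-! ### Independence of the Sylow subgroup -/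

section Change

variable {𝓦 : Set (Subgroup G → Subgroup G)} (h𝓦 : ∀ W ∈ 𝓦, IsConjugacyFunctor p W)
include h𝓦

theorem map_locN {T H : Subgroup G} (hT : IsPGroup p ↥T) {x : G} (hx : x ∈ H) :
    Subgroup.map (MulAut.conj x).toMonoidHom '' locN 𝓦 T H = locN 𝓦 (cnj x T) H := by
  rw [locN, locN, Set.image_image]
  refine Set.image_congr fun W hW => ?_
  show cnj x (H ⊓ nrm (W T)) = H ⊓ nrm (W (cnj x T))
  rw [cnj_inf, cnj_nrm, ← functor_cnj (h𝓦 W hW) hT, cnj_of_mem hx]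

theorem cnj_sig {T H : Subgroup G} (hT : IsPGroup p ↥T) {x : G} (hx : x ∈ H) :
    cnj x (sig 𝓦 T H) = sig 𝓦 (cnj x T) H := by
  simp only [sig, cnj, Subgroup.map_iSup]
  refine iSup_congr fun W => iSup_congr fun hW => ?_
  show cnj x (T ⊓ ⁅H ⊓ nrm (W T), H ⊓ nrm (W T)⁆) = cnj x T ⊓ _
  rw [cnj_inf]
  simp only [cnj, Subgroup.map_commutator]
  show cnj x T ⊓ ⁅cnj x (H ⊓ nrm (W T)), cnj x (H ⊓ nrm (W T))⁆ = _
  rw [cnj_inf, cnj_nrm, ← functor_cnj (h𝓦 W hW) hT, cnj_of_mem hx]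

variable [Finite G] [Fact p.Prime]

theorem FamilyControlsStrongFusionIn.controls {H T : Subgroup G}
    (h : FamilyControlsStrongFusionIn p 𝓦 H) (hT : IsSylowIn p T H) :
    Controls (locN 𝓦 T H) T H := by
  obtain ⟨T₀, hT₀, h₀⟩ := familyControlsStrongFusionIn_iff.1 h
  obtain ⟨x, hx, rfl⟩ := hT.exists_cnj_eq hT₀
  intro A g hg hA hgA
  have hA' : img x⁻¹ A ⊆ (T₀ : Set G) := by
    rw [← img_inv_img x (T₀ : Set G), ← coe_cnj]; exact img_mono hA
  have hg' : img (x⁻¹ * g * x) (img x⁻¹ A) ⊆ (T₀ : Set G) := by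
    rw [img_img, mul_inv_cancel_right, ← img_img, ← img_inv_img x (T₀ : Set G), ← coe_cnj]
    exact img_mono hgA
  have := (h₀ _ _ (H.mul_mem (H.mul_mem (H.inv_mem hx) hg) hx) hA' hg').map (MulAut.conj x).toMonoidHom
  rw [map_locN h𝓦 hT₀.isPGroup hx] at this
  have e1 : (MulAut.conj x).toMonoidHom '' img x⁻¹ A = A := by
    show img x (img x⁻¹ A) = A
    rw [img_img, mul_inv_cancel, img_one]
  have e2 : (MulAut.conj x).toMonoidHom (x⁻¹ * g * x) = g := by
    show x * (x⁻¹ * g * x) * x⁻¹ = g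
    group
  rw [e1, e2] at this
  exact this

theorem FamilyControlsTransferIn.le_sig {H T : Subgroup G}
    (h : FamilyControlsTransferIn p 𝓦 H) (hT : IsSylowIn p T H) :
    T ⊓ ⁅H, H⁆ ≤ sig 𝓦 T H := by
  obtain ⟨T₀, hT₀, h₀⟩ := familyControlsTransferIn_iff.1 h
  obtain ⟨x, hx, rfl⟩ := hT.exists_cnj_eq hT₀
  rw [← cnj_sig h𝓦 hT₀.isPGroup hx]
  have : ⁅H, H⁆ = cnj x ⁅H, H⁆ := by
    simp only [cnj, Subgroup.map_commutator]
    show _ = ⁅cnj x H, cnj x H⁆
    rw [cnj_of_mem hx]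
  rw [this, ← cnj_inf]
  exact cnj_le_cnj.2 h₀

end Change

/-! ### From local to global -/

variable [Finite G] [Fact p.Prime]

/-- Local control of strong fusion gives global control. The set `𝒯` meets every class of
subgroups of `S` in a fully normalized member, and contains a suitable conjugate of each
`W (N_S(T))`. -/
theorem controls_of_local (S : Sylow p G) {𝓦 : Set (Subgroup G → Subgroup G)}
    (h𝓦 : ∀ W ∈ 𝓦, IsConjugacyFunctor p W) {𝒯 : Set (Subgroup G)}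
    (hle : ∀ T ∈ 𝒯, T ≤ (S : Subgroup G)) (hfull : ∀ T ∈ 𝒯, Fully p (S : Subgroup G) T)
    (hcrit : ∀ T : Subgroup G, T ≤ (S : Subgroup G) →
      ∃ U ∈ 𝒯, (∃ g, cnj g T = U) ∧ Fully p (S : Subgroup G) U)
    (hnext : ∀ T ∈ 𝒯, T ≠ ⊥ → ∀ W ∈ 𝓦, ∃ g, cnj g (W ((S : Subgroup G) ⊓ nrm T)) ∈ 𝒯 ∧
      cnj g ((S : Subgroup G) ⊓ nrm (W ((S : Subgroup G) ⊓ nrm T))) ≤ (S : Subgroup G))
    (hloc : ∀ T ∈ 𝒯, T ≠ ⊥ → FamilyControlsStrongFusionIn p 𝓦 (nrm T)) :
    Controls (locN 𝓦 (S : Subgroup G) ⊤) (S : Subgroup G) ⊤ := by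
  set 𝒩 := locN 𝓦 (S : Subgroup G) ⊤ with h𝒩
  have hreach := reach_of_criterion S hle hcrit
  suffices key : ∀ (k : ℕ) (T : Subgroup G), T ∈ 𝒯 → T ≠ ⊥ →
      Nat.card ↥(S : Subgroup G) ≤ Nat.card ↥((S : Subgroup G) ⊓ nrm T) + k →
      ∀ (x : G) (A : Set G), x ∈ nrm T → A ⊆ (((S : Subgroup G) ⊓ nrm T : Subgroup G) : Set G) →
        img x A ⊆ (((S : Subgroup G) ⊓ nrm T : Subgroup G) : Set G) →
        Fus 𝒩 ((S : Subgroup G) : Set G) A x by
    intro A g _ hA hgA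
    refine Fus.of_reach (hreach A g hA hgA) fun U hU x hx B hB => ?_
    by_cases hU0 : U = ⊥
    · refine .refl fun b hb => ?_
      have := hB hb
      rw [hU0, SetLike.mem_coe, Subgroup.mem_bot] at this
      simp [this]
    · have hUle : U ≤ (S : Subgroup G) ⊓ nrm U := le_inf (hle U hU) Subgroup.le_normalizer
      exact key _ U hU hU0 le_add_self x B hx (hB.trans hUle)
        ((img_subset_of_mem_nrm hx hB).trans hUle)
  intro k
  induction k using Nat.strong_induction_on with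
  | _ k ih =>
    intro T hT hT0 hk x A hx hA hxA
    set P₀ := (S : Subgroup G) ⊓ nrm T with hP₀
    have hP₀p : IsPGroup p ↥P₀ := S.2.to_inf_left
    have hc := FamilyControlsStrongFusionIn.controls h𝓦 (hloc T hT hT0) ((hfull T hT).isSylowIn S.2)
      A x hx hA hxA
    refine hc.bind ?_
    rintro M ⟨W, hW, rfl⟩ y hy B hB hyB
    change y ∈ nrm T ⊓ nrm (W P₀) at hy
    change B ⊆ (P₀ : Set G) at hB
    change img y B ⊆ (P₀ : Set G) at hyB
    by_cases hP : P₀ = (S : Subgroup G)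
    · rw [hP] at hy hB hyB
      exact Fus.single ⟨W, hW, rfl⟩ ⟨Subgroup.mem_top y, hy.2⟩ hB hyB
    · set U := W P₀ with hU
      obtain ⟨g, hg𝒯, hgS⟩ := hnext T hT hT0 W hW
      change cnj g U ∈ 𝒯 at hg𝒯
      change cnj g ((S : Subgroup G) ⊓ nrm U) ≤ (S : Subgroup G) at hgS
      have hsub : (((S : Subgroup G) ⊓ nrm U : Subgroup G) : Set G) ⊆ ((S : Subgroup G) : Set G) :=
        fun z hz => hz.1
      have hgS' : img g (((S : Subgroup G) ⊓ nrm U : Subgroup G) : Set G) ⊆ ((S : Subgroup G) : Set G) :=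
        hgS
      have hP₀ne : P₀ ≠ ⊥ :=
        ne_bot_of_le_ne_bot hT0 (le_inf (hle T hT) Subgroup.le_normalizer)
      have hU0 : cnj g U ≠ ⊥ := fun h => functor_ne_bot (h𝓦 W hW) hP₀p hP₀ne (cnj_eq_bot.1 h)
      have hlt := lt_inf_nrm S.2 (inf_le_left : P₀ ≤ _) hP
      have h1 : Nat.card ↥P₀ < Nat.card ↥((S : Subgroup G) ⊓ nrm P₀) :=
        (Subgroup.card_le_of_le hlt.le).lt_of_ne
          fun he => hlt.ne (Subgroup.eq_of_le_of_card_ge hlt.le he.ge)
      have h2 : Nat.card ↥((S : Subgroup G) ⊓ nrm P₀) ≤ Nat.card ↥((S : Subgroup G) ⊓ nrm U) :=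
        Subgroup.card_le_of_le (inf_le_inf_left _ (nrm_le_nrm_functor (h𝓦 W hW) hP₀p))
      have hgN : cnj g ((S : Subgroup G) ⊓ nrm U) ≤ (S : Subgroup G) ⊓ nrm (cnj g U) := by
        refine le_inf hgS ?_
        rw [← cnj_nrm]; exact cnj_le_cnj.2 inf_le_right
      have h3 : Nat.card ↥((S : Subgroup G) ⊓ nrm U) ≤
          Nat.card ↥((S : Subgroup G) ⊓ nrm (cnj g U)) := by
        rw [← card_cnj g ((S : Subgroup G) ⊓ nrm U)]; exact Subgroup.card_le_of_le hgN
      have hBU : B ⊆ (((S : Subgroup G) ⊓ nrm U : Subgroup G) : Set G) :=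
        hB.trans (le_inf inf_le_left (le_nrm_functor (h𝓦 W hW) hP₀p))
      have hyBU : img y B ⊆ (((S : Subgroup G) ⊓ nrm U : Subgroup G) : Set G) :=
        hyB.trans (le_inf inf_le_left (le_nrm_functor (h𝓦 W hW) hP₀p))
      -- the element `g` is realised
      have hgF : Fus 𝒩 ((S : Subgroup G) : Set G) (((S : Subgroup G) ⊓ nrm U : Subgroup G) : Set G) g := by
        refine Fus.of_reach ((hreach _ g hsub hgS').filter
          (Ψ := {V | V ∈ 𝒯 ∧ Nat.card ↥P₀ < Nat.card ↥V})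
          (fun C => Nat.card ↥P₀ < Set.ncard C)
          (fun C z hC => ?_) (fun C V hV hCV hC => ⟨hV, ?_⟩) ?_) ?_
        · show _ < ((MulAut.conj z) '' C).ncard
          rwa [Set.ncard_image_of_injective _ (MulAut.conj z).injective]
        · exact hC.trans_le ((Set.ncard_le_ncard hCV).trans_eq (Nat.card_coe_set_eq _).symm)
        · rw [← Nat.card_coe_set_eq]; exact h1.trans_le h2
        · rintro V ⟨hV, hVc⟩ z hz C hC
          have hV0 : V ≠ ⊥ := by
            rintro rfl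
            rw [Subgroup.card_bot] at hVc
            exact absurd hVc (not_lt.2 Nat.card_pos)
          have hVle : V ≤ (S : Subgroup G) ⊓ nrm V := le_inf (hle V hV) Subgroup.le_normalizer
          have h4 : Nat.card ↥V ≤ Nat.card ↥((S : Subgroup G) ⊓ nrm V) :=
            Subgroup.card_le_of_le hVle
          have h5 : Nat.card ↥((S : Subgroup G) ⊓ nrm V) ≤ Nat.card ↥(S : Subgroup G) :=
            Subgroup.card_le_of_le inf_le_left
          exact ih (Nat.card ↥(S : Subgroup G) - Nat.card ↥((S : Subgroup G) ⊓ nrm V)) (by omega)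
            V hV hV0 (by omega) z C hz (hC.trans hVle) ((img_subset_of_mem_nrm hz hC).trans hVle)
      have h5 : Nat.card ↥((S : Subgroup G) ⊓ nrm (cnj g U)) ≤ Nat.card ↥(S : Subgroup G) :=
        Subgroup.card_le_of_le inf_le_left
      have hz : g * y * g⁻¹ ∈ nrm (cnj g U) := by
        rw [← cnj_nrm]; exact conj_mem_cnj.2 hy.2
      have hmid := ih (Nat.card ↥(S : Subgroup G) - Nat.card ↥((S : Subgroup G) ⊓ nrm (cnj g U)))
        (by omega) _ hg𝒯 hU0 (by omega) (g * y * g⁻¹) (img g B) hz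
        ((img_mono hBU).trans hgN)
        (by rw [img_img, inv_mul_cancel_right, ← img_img]; exact (img_mono hyBU).trans hgN)
      have h6 := (hgF.mono hBU).trans hmid
      rw [inv_mul_cancel_right] at h6
      have h7 := (hgF.mono hyBU).inv
      rw [img_img] at h7
      simpa using h6.trans h7

/-- Local control of transfer gives global control. -/
theorem inf_commutator_le_of_local (S : Sylow p G) {𝓦 : Set (Subgroup G → Subgroup G)}
    (h𝓦 : ∀ W ∈ 𝓦, IsConjugacyFunctor p W) {𝒯 : Set (Subgroup G)}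
    (hle : ∀ T ∈ 𝒯, T ≤ (S : Subgroup G)) (hfull : ∀ T ∈ 𝒯, Fully p (S : Subgroup G) T)
    (hcrit : ∀ T : Subgroup G, T ≤ (S : Subgroup G) →
      ∃ U ∈ 𝒯, (∃ g, cnj g T = U) ∧ Fully p (S : Subgroup G) U)
    (hnext : ∀ T ∈ 𝒯, T ≠ ⊥ → ∀ W ∈ 𝓦, ∃ g, cnj g (W ((S : Subgroup G) ⊓ nrm T)) ∈ 𝒯 ∧
      cnj g ((S : Subgroup G) ⊓ nrm (W ((S : Subgroup G) ⊓ nrm T))) ≤ (S : Subgroup G))
    (hloc : ∀ T ∈ 𝒯, T ≠ ⊥ → FamilyControlsTransferIn p 𝓦 (nrm T)) :
    (S : Subgroup G) ⊓ ⁅(⊤ : Subgroup G), ⊤⁆ ≤ sig 𝓦 (S : Subgroup G) ⊤ := by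
  set D := sig 𝓦 (S : Subgroup G) ⊤ with hD
  have hreach := reach_of_criterion S hle hcrit
  -- a step inside the normalizer of a member
  have stepD : ∀ U ∈ 𝒯, (U ≠ ⊥ → ((S : Subgroup G) ⊓ nrm U) ⊓ ⁅nrm U, nrm U⁆ ≤ D) →
      ∀ x ∈ nrm U, ∀ a ∈ U, a⁻¹ * (x * a * x⁻¹) ∈ D := by
    intro U hU hUD x hx a ha
    by_cases hU0 : U = ⊥
    · subst hU0
      rw [Subgroup.mem_bot] at ha
      simp [ha]
    · refine hUD hU0 ⟨le_inf (hle U hU) Subgroup.le_normalizer
        (U.mul_mem (U.inv_mem ha) (conj_mem_of_nrm hx ha)), ?_⟩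
      have : a⁻¹ * (x * a * x⁻¹) = ⁅a⁻¹, x⁆ := by simp [commutatorElement_def, mul_assoc]
      rw [this]
      exact Subgroup.commutator_mem_commutator (inv_mem (Subgroup.le_normalizer ha)) hx
  have reachD : ∀ {𝓕 : Set (Subgroup G)}, 𝓕 ⊆ 𝒯 →
      (∀ U ∈ 𝓕, U ≠ ⊥ → ((S : Subgroup G) ⊓ nrm U) ⊓ ⁅nrm U, nrm U⁆ ≤ D) →
      ∀ {A : Set G} {g : G}, Reach 𝓕 A g → ∀ a ∈ A, a⁻¹ * (g * a * g⁻¹) ∈ D := by
    intro 𝓕 hsub h𝓕 A g h
    induction h with
    | one A => intro a _; simp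
    | @cons A T x g hT hA hx _ ih =>
      intro a ha
      have h1 := stepD T (hsub hT) (h𝓕 T hT) x hx a (hA ha)
      have h2 := ih _ ⟨a, ha, rfl⟩
      convert D.mul_mem h1 h2 using 1
      group
  suffices key : ∀ (k : ℕ) (T : Subgroup G), T ∈ 𝒯 → T ≠ ⊥ →
      Nat.card ↥(S : Subgroup G) ≤ Nat.card ↥((S : Subgroup G) ⊓ nrm T) + k →
      ((S : Subgroup G) ⊓ nrm T) ⊓ ⁅nrm T, nrm T⁆ ≤ D by
    have hfocal := Subgroup.commutator_inf_eq_focalSubgroup S
    rw [inf_comm, ← commutator_def, hfocal, Subgroup.focalSubgroup_def, Subgroup.closure_le]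
    rintro z ⟨hz, x, hxS, u, rfl⟩
    have hxi : x⁻¹ ∈ (S : Subgroup G) := inv_mem hxS
    have e : ⁅x, u⁆ = (x⁻¹)⁻¹ * (u * x⁻¹ * u⁻¹) := by simp [commutatorElement_def, mul_assoc]
    have himg : img u ({x⁻¹} : Set G) ⊆ ((S : Subgroup G) : Set G) := by
      rw [img, Set.image_singleton, Set.singleton_subset_iff]
      have := (S : Subgroup G).mul_mem hxi hz
      rw [e, inv_inv, inv_mul_cancel_left] at this
      exact this
    rw [e]
    exact reachD subset_rfl (fun U hU hU0 => key _ U hU hU0 le_add_self)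
      (hreach _ u (Set.singleton_subset_iff.2 hxi) himg) _ rfl
  intro k
  induction k using Nat.strong_induction_on with
  | _ k ih =>
    intro T hT hT0 hk
    set P₀ := (S : Subgroup G) ⊓ nrm T with hP₀
    have hP₀p : IsPGroup p ↥P₀ := S.2.to_inf_left
    refine (FamilyControlsTransferIn.le_sig h𝓦 (hloc T hT hT0) ((hfull T hT).isSylowIn S.2)).trans ?_
    refine iSup₂_le fun W hW => ?_
    show P₀ ⊓ ⁅nrm T ⊓ nrm (W P₀), nrm T ⊓ nrm (W P₀)⁆ ≤ D
    by_cases hP : P₀ = (S : Subgroup G)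
    · rw [hP]
      exact le_trans (inf_le_inf_left _ (Subgroup.commutator_mono
        (inf_le_inf_right _ le_top) (inf_le_inf_right _ le_top))) (le_sig hW)
    · set U := W P₀ with hU
      obtain ⟨g, hg𝒯, hgS⟩ := hnext T hT hT0 W hW
      change cnj g U ∈ 𝒯 at hg𝒯
      change cnj g ((S : Subgroup G) ⊓ nrm U) ≤ (S : Subgroup G) at hgS
      have hsub : (((S : Subgroup G) ⊓ nrm U : Subgroup G) : Set G) ⊆ ((S : Subgroup G) : Set G) :=
        fun z hz => hz.1
      have hgS' : img g (((S : Subgroup G) ⊓ nrm U : Subgroup G) : Set G) ⊆ ((S : Subgroup G) : Set G) :=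
        hgS
      have hP₀ne : P₀ ≠ ⊥ :=
        ne_bot_of_le_ne_bot hT0 (le_inf (hle T hT) Subgroup.le_normalizer)
      have hU0 : cnj g U ≠ ⊥ := fun h => functor_ne_bot (h𝓦 W hW) hP₀p hP₀ne (cnj_eq_bot.1 h)
      have hlt := lt_inf_nrm S.2 (inf_le_left : P₀ ≤ _) hP
      have h1 : Nat.card ↥P₀ < Nat.card ↥((S : Subgroup G) ⊓ nrm P₀) :=
        (Subgroup.card_le_of_le hlt.le).lt_of_ne
          fun he => hlt.ne (Subgroup.eq_of_le_of_card_ge hlt.le he.ge)
      have h2 : Nat.card ↥((S : Subgroup G) ⊓ nrm P₀) ≤ Nat.card ↥((S : Subgroup G) ⊓ nrm U) :=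
        Subgroup.card_le_of_le (inf_le_inf_left _ (nrm_le_nrm_functor (h𝓦 W hW) hP₀p))
      have hgN : cnj g ((S : Subgroup G) ⊓ nrm U) ≤ (S : Subgroup G) ⊓ nrm (cnj g U) := by
        refine le_inf hgS ?_
        rw [← cnj_nrm]; exact cnj_le_cnj.2 inf_le_right
      have h3 : Nat.card ↥((S : Subgroup G) ⊓ nrm U) ≤
          Nat.card ↥((S : Subgroup G) ⊓ nrm (cnj g U)) := by
        rw [← card_cnj g ((S : Subgroup G) ⊓ nrm U)]; exact Subgroup.card_le_of_le hgN
      have h5 : Nat.card ↥((S : Subgroup G) ⊓ nrm (cnj g U)) ≤ Nat.card ↥(S : Subgroup G) :=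
        Subgroup.card_le_of_le inf_le_left
      rintro y ⟨hyP, hy'⟩
      have hyU : y ∈ (S : Subgroup G) ⊓ nrm U :=
        ⟨hyP.1, le_nrm_functor (h𝓦 W hW) hP₀p hyP⟩
      have hz : g * y * g⁻¹ ∈ D := by
        refine ih (Nat.card ↥(S : Subgroup G) - Nat.card ↥((S : Subgroup G) ⊓ nrm (cnj g U)))
          (by omega) _ hg𝒯 hU0 (by omega) ⟨hgN (conj_mem_cnj.2 hyU), ?_⟩
        have : g * y * g⁻¹ ∈ cnj g ⁅nrm U, nrm U⁆ :=
          conj_mem_cnj.2 (Subgroup.commutator_mono inf_le_right inf_le_right hy')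
        rw [← cnj_nrm]
        simp only [cnj, Subgroup.map_commutator] at this ⊢
        exact this
      have hfoc : y⁻¹ * (g * y * g⁻¹) ∈ D := by
        refine reachD (𝓕 := {V | V ∈ 𝒯 ∧ Nat.card ↥P₀ < Nat.card ↥V}) (fun V hV => hV.1) ?_
          ((hreach _ g hsub hgS').filter (Ψ := {V | V ∈ 𝒯 ∧ Nat.card ↥P₀ < Nat.card ↥V})
          (fun C => Nat.card ↥P₀ < Set.ncard C) (fun C z hC => ?_)
          (fun C V hV hCV hC => ⟨hV, ?_⟩) ?_) y hyU
        · rintro V ⟨hV, hVc⟩ hV0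
          have h4 : Nat.card ↥V ≤ Nat.card ↥((S : Subgroup G) ⊓ nrm V) :=
            Subgroup.card_le_of_le (le_inf (hle V hV) Subgroup.le_normalizer)
          have h6 : Nat.card ↥((S : Subgroup G) ⊓ nrm V) ≤ Nat.card ↥(S : Subgroup G) :=
            Subgroup.card_le_of_le inf_le_left
          exact ih (Nat.card ↥(S : Subgroup G) - Nat.card ↥((S : Subgroup G) ⊓ nrm V)) (by omega)
            V hV hV0 (by omega)
        · show _ < ((MulAut.conj z) '' C).ncard
          rwa [Set.ncard_image_of_injective _ (MulAut.conj z).injective]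
        · exact hC.trans_le ((Set.ncard_le_ncard hCV).trans_eq (Nat.card_coe_set_eq _).symm)
        · rw [← Nat.card_coe_set_eq]; exact h1.trans_le h2
      convert D.mul_mem hz (D.inv_mem hfoc) using 1
      group

theorem familyControlsStrongFusionIn_of_fully (S : Sylow p G) {𝓦 : Set (Subgroup G → Subgroup G)}
    (h𝓦 : ∀ W ∈ 𝓦, IsConjugacyFunctor p W)
    (hloc : ∀ T : Subgroup G, T ≤ (S : Subgroup G) → T ≠ ⊥ → Fully p (S : Subgroup G) T →
      FamilyControlsStrongFusionIn p 𝓦 (nrm T)) :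
    FamilyControlsStrongFusionIn p 𝓦 ⊤ := by
  refine familyControlsStrongFusionIn_iff.2 ⟨_, isSylowIn_top S,
    controls_of_local S h𝓦 (𝒯 := fullyFamily p (S : Subgroup G)) (fun T h => h.1) (fun T h => h.2)
      (fun T hT => ?_) (fun T _ _ W hW => ?_) (fun T hT h0 => hloc T hT.1 h0 hT.2)⟩
  · obtain ⟨g, h1, h2, -⟩ := exists_fully S hT
    exact ⟨_, ⟨h1, h2⟩, ⟨g, rfl⟩, h2⟩
  · obtain ⟨g, h1, h2, h3⟩ := exists_fully S (T := W ((S : Subgroup G) ⊓ nrm T))
      ((functor_le (h𝓦 W hW) S.2.to_inf_left).trans inf_le_left)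
    exact ⟨g, ⟨h1, h2⟩, h3.trans inf_le_left⟩

theorem familyControlsTransferIn_of_fully (S : Sylow p G) {𝓦 : Set (Subgroup G → Subgroup G)}
    (h𝓦 : ∀ W ∈ 𝓦, IsConjugacyFunctor p W)
    (hloc : ∀ T : Subgroup G, T ≤ (S : Subgroup G) → T ≠ ⊥ → Fully p (S : Subgroup G) T →
      FamilyControlsTransferIn p 𝓦 (nrm T)) :
    FamilyControlsTransferIn p 𝓦 ⊤ := by
  refine familyControlsTransferIn_iff.2 ⟨_, isSylowIn_top S,
    inf_commutator_le_of_local S h𝓦 (𝒯 := fullyFamily p (S : Subgroup G)) (fun T h => h.1)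
      (fun T h => h.2) (fun T hT => ?_) (fun T _ _ W hW => ?_)
      (fun T hT h0 => hloc T hT.1 h0 hT.2)⟩
  · obtain ⟨g, h1, h2, -⟩ := exists_fully S hT
    exact ⟨_, ⟨h1, h2⟩, ⟨g, rfl⟩, h2⟩
  · obtain ⟨g, h1, h2, h3⟩ := exists_fully S (T := W ((S : Subgroup G) ⊓ nrm T))
      ((functor_le (h𝓦 W hW) S.2.to_inf_left).trans inf_le_left)
    exact ⟨g, ⟨h1, h2⟩, h3.trans inf_le_left⟩

theorem controlsStrongFusionIn_of_wellPlaced (S : Sylow p G) {W : Subgroup G → Subgroup G}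
    (hW : IsConjugacyFunctor p W)
    (hloc : ∀ T : Subgroup G, T ≠ ⊥ → IsWellPlaced p W (S : Subgroup G) T →
      ControlsStrongFusionIn p W (nrm T)) :
    ControlsStrongFusionIn p W ⊤ := by
  refine controlsStrongFusionIn_iff_family.2 (familyControlsStrongFusionIn_iff.2
    ⟨_, isSylowIn_top S, controls_of_local S (by rintro _ rfl; exact hW)
      (𝒯 := {T | IsWellPlaced p W (S : Subgroup G) T}) (fun T h => h.1)
      (fun T h => isWellPlaced_fully h) (fun T hT => ?_) ?_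
      (fun T hT h0 => controlsStrongFusionIn_iff_family.1 (hloc T h0 hT))⟩)
  · obtain ⟨g, hg, -⟩ := exists_wellPlaced S hW hT
    exact ⟨_, hg, ⟨g, rfl⟩, isWellPlaced_fully hg⟩
  · rintro T hT - _ rfl
    refine ⟨1, ?_, by rw [cnj_one]; exact inf_le_left⟩
    rw [cnj_one]; exact isWellPlaced_next hW S.2 hT

theorem controlsTransferIn_of_wellPlaced (S : Sylow p G) {W : Subgroup G → Subgroup G}
    (hW : IsConjugacyFunctor p W)
    (hloc : ∀ T : Subgroup G, T ≠ ⊥ → IsWellPlaced p W (S : Subgroup G) T →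
      ControlsTransferIn p W (nrm T)) :
    ControlsTransferIn p W ⊤ := by
  refine controlsTransferIn_iff_family.2 (familyControlsTransferIn_iff.2
    ⟨_, isSylowIn_top S, inf_commutator_le_of_local S (by rintro _ rfl; exact hW)
      (𝒯 := {T | IsWellPlaced p W (S : Subgroup G) T}) (fun T h => h.1)
      (fun T h => isWellPlaced_fully h) (fun T hT => ?_) ?_
      (fun T hT h0 => controlsTransferIn_iff_family.1 (hloc T h0 hT))⟩)
  · obtain ⟨g, hg, -⟩ := exists_wellPlaced S hW hT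
    exact ⟨_, hg, ⟨g, rfl⟩, isWellPlaced_fully hg⟩
  · rintro T hT - _ rfl
    refine ⟨1, ?_, by rw [cnj_one]; exact inf_le_left⟩
    rw [cnj_one]; exact isWellPlaced_next hW S.2 hT

end Cfsg.Agent.ConjFunctor
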