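import Cfsg.Agent.ConjFunctor.TransferReduction

/-!
Reduction of control of strong fusion by a set of functors to the constrained sections.
-/

set_option autoImplicit false
set_option linter.style.haveILetI false

namespace Cfsg.Agent.ConjFunctor

universe u

variable {p : ℕ} [Fact p.Prime]

section Grp

variable {G : Type u} [Group G] [Finite G] {𝓦 : Set (∀ (Q : Type u) [Group Q], Subgroup Q)}
  (h𝓦 : ∀ W ∈ 𝓦, IsCharPFunctor.{u} p W)
include h𝓦

/-- Fusion inside a subgroup containing `S` which controls its own fusion. -/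
theorem fus_of_subgroup (S : Sylow p G) {M : Subgroup G} (hSM : (S : Subgroup G) ≤ M)
    (hM : FamilyControlsStrongFusionIn p (indFam 𝓦 ↥M) ⊤) {A : Set G} {g : G} (hg : g ∈ M)
    (hA : A ⊆ (S : Subgroup G)) (hgA : img g A ⊆ (S : Subgroup G)) :
    Fus (locN (indFam 𝓦 G) (S : Subgroup G) ⊤) ((S : Subgroup G) : Set G) A g := by
  refine (FamilyControlsStrongFusionIn.controls (indFam_isConjugacyFunctor h𝓦)
    (familyControlsStrongFusionIn_subgroup h𝓦 hM) (sylow_isSylowIn S hSM) A g hg hA hgA).bind ?_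
  rintro _ ⟨W, hW, rfl⟩ x hx B hB hxB
  exact Fus.single ⟨W, hW, rfl⟩ ⟨Subgroup.mem_top x, hx.2⟩ hB hxB

/-- Control of strong fusion lifts over normal `p'`-subgroups. -/
theorem familyControlsStrongFusionIn_of_coprime_quotient (K : Subgroup G) [K.Normal]
    (hK : (Nat.card ↥K).Coprime p)
    (h : FamilyControlsStrongFusionIn p (indFam 𝓦 (G ⧸ K)) ⊤) :
    FamilyControlsStrongFusionIn p (indFam 𝓦 G) ⊤ := by
  set f := QuotientGroup.mk' K with hf
  obtain ⟨S⟩ : Nonempty (Sylow p G) := inferInstance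
  have hT := isSylowIn_top (S.mapSurjective (QuotientGroup.mk'_surjective K))
  rw [Sylow.coe_mapSurjective] at hT
  have hc := FamilyControlsStrongFusionIn.controls (indFam_isConjugacyFunctor h𝓦) h hT
  have hinj := injOn_mk_of_coprime S.2 K hK
  have hcm : ((S : Subgroup G).map f).comap f = (S : Subgroup G) ⊔ K := by
    rw [Subgroup.comap_map_eq, hf, QuotientGroup.ker_mk']
  suffices lift : ∀ (B : Set (G ⧸ K)) (y : G ⧸ K),
      Fus (locN (indFam 𝓦 (G ⧸ K)) ((S : Subgroup G).map f) ⊤)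
        (((S : Subgroup G).map f : Subgroup (G ⧸ K)) : Set (G ⧸ K)) B y →
      ∀ A : Set G, A ⊆ (S : Subgroup G) → f '' A = B →
        ∃ g, Fus (locN (indFam 𝓦 G) (S : Subgroup G) ⊤) ((S : Subgroup G) : Set G) A g ∧
          img g A ⊆ (S : Subgroup G) ∧ ∀ a ∈ A, f (g * a * g⁻¹) = y * f a * y⁻¹ by
    refine familyControlsStrongFusionIn_iff.2 ⟨_, isSylowIn_top S, fun A g _ hA hgA => ?_⟩
    obtain ⟨g', hg', hg'A, he⟩ := lift (f '' A) (f g)
      (hc _ _ (Subgroup.mem_top _) (Set.image_mono hA) (by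
        rintro _ ⟨_, ⟨a, ha, rfl⟩, rfl⟩
        exact ⟨g * a * g⁻¹, hgA ⟨a, ha, rfl⟩, by simp [hf]⟩)) A hA rfl
    refine hg'.congr fun a ha => hinj (hg'A ⟨a, ha, rfl⟩) (hgA ⟨a, ha, rfl⟩) ?_
    show f (g' * a * g'⁻¹) = f (g * a * g⁻¹)
    rw [he a ha, map_mul, map_mul, map_inv]
  intro B y hFus
  induction hFus with
  | @refl B y hy =>
    intro A hA hB
    exact ⟨1, .refl (by simp), by rwa [img_one], fun a ha => by
      rw [hy _ (hB ▸ ⟨a, ha, rfl⟩)]; simp⟩
  | @step B M x y hM hx hB hxB _ ih =>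
    intro A hA hAB
    obtain ⟨_, ⟨W, hW, rfl⟩, rfl⟩ := hM
    replace hx : x ∈ nrm (inducedFunctor W ((S : Subgroup G).map f)) := hx.2
    set U := inducedFunctor W (S : Subgroup G) with hU
    rw [inducedFunctor_map (h𝓦 W hW) f _ S.2 hinj,
      ← map_nrm_of_coprime (S.2.to_le (inducedFunctor_le W _)) K hK] at hx
    obtain ⟨n, hn, rfl⟩ := hx
    have hSN : (S : Subgroup G) ≤ nrm U :=
      le_nrm_functor (isConjugacyFunctor_inducedFunctor (h𝓦 W hW)) S.2
    set M := ((S : Subgroup G) ⊔ K) ⊓ nrm U with hM'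
    have hnA : img n A ⊆ (M : Set G) := by
      rintro _ ⟨a, ha, rfl⟩
      refine ⟨?_, (nrm U).mul_mem ((nrm U).mul_mem hn (hSN (hA ha))) ((nrm U).inv_mem hn)⟩
      rw [← hcm]
      refine hxB ⟨f a, hAB ▸ ⟨a, ha, rfl⟩, ?_⟩
      simp [hf]
    have hp : IsPGroup p ↥(Subgroup.closure (img n A)) := by
      rw [closure_img]
      exact isPGroup_cnj (S.2.to_le ((Subgroup.closure_le _).2 hA))
    obtain ⟨m, hm, hmS⟩ := (sylow_isSylowIn S
      (le_inf le_sup_left hSN : (S : Subgroup G) ≤ M)).exists_cnj_le hp ((Subgroup.closure_le _).2 hnA)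
    obtain ⟨s, hs, k, hk, rfl⟩ := Subgroup.mem_sup_of_normal_right.1 hm.1
    have hkN : k ∈ nrm U := by
      simpa using (nrm U).mul_mem ((nrm U).inv_mem (hSN hs)) hm.2
    have hkA : img (k * n) A ⊆ (S : Subgroup G) := by
      rintro _ ⟨a, ha, rfl⟩
      have h1 : (s * k) * (n * a * n⁻¹) * (s * k)⁻¹ ∈ (S : Subgroup G) :=
        hmS (conj_mem_cnj.2 (Subgroup.subset_closure ⟨a, ha, rfl⟩))
      have h2 := (S : Subgroup G).mul_mem ((S : Subgroup G).mul_mem ((S : Subgroup G).inv_mem hs) h1) hs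
      have e : s⁻¹ * (s * k * (n * a * n⁻¹) * (s * k)⁻¹) * s = k * n * a * (k * n)⁻¹ := by group
      rwa [e] at h2
    have hfkn : f (k * n) = f n := by
      rw [map_mul, show f k = 1 from (QuotientGroup.eq_one_iff k).2 hk, one_mul]
    obtain ⟨g, hg, hgA, hge⟩ := ih (img (k * n) A) hkA (by
      rw [← hAB]
      rw [← hfkn]; simp only [img, Set.image_image, map_mul, map_inv])
    refine ⟨g * (k * n), Fus.step ⟨_, ⟨W, hW, rfl⟩, rfl⟩
      ⟨Subgroup.mem_top _, (nrm U).mul_mem hkN hn⟩ hA hkA hg, by rwa [← img_img], fun a ha => ?_⟩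
    have := hge _ ⟨a, ha, rfl⟩
    rw [show g * (k * n) * a * (g * (k * n))⁻¹ = g * (k * n * a * (k * n)⁻¹) * g⁻¹ by group,
      this, map_mul f (k * n * a), map_mul f (k * n), map_inv, hfkn]
    simp only [hf]
    group

/-- The case `G = S C(Q)`, `Q = O_p(G)`: fusion is seen in the quotient by `Q` and in proper
subgroups containing `S`. -/
theorem controls_of_sup_eq_top (S : Sylow p G)
    (hSC : (S : Subgroup G) ⊔ Subgroup.centralizer ((pCore p G : Subgroup G) : Set G) = ⊤)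
    (hSQ : ¬ (S : Subgroup G) ≤ pCore p G)
    (hP : ∀ A : Set G, ∀ d ∈ (S : Subgroup G), A ⊆ (S : Subgroup G) →
      img d A ⊆ (S : Subgroup G) →
        Fus (locN (indFam 𝓦 G) (S : Subgroup G) ⊤) ((S : Subgroup G) : Set G) A d)
    (hsub : ∀ M : Subgroup G, M ≠ ⊤ → FamilyControlsStrongFusionIn p (indFam 𝓦 ↥M) ⊤)
    (hquot : FamilyControlsStrongFusionIn p (indFam 𝓦 (G ⧸ pCore p G)) ⊤) :
    Controls (locN (indFam 𝓦 G) (S : Subgroup G) ⊤) (S : Subgroup G) ⊤ := by
  set Q := pCore p G with hQdef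
  set C := Subgroup.centralizer (Q : Set G) with hC
  haveI : C.Normal := Subgroup.normal_centralizer
  set f := QuotientGroup.mk' Q with hf
  set 𝒩 := locN (indFam 𝓦 G) (S : Subgroup G) ⊤ with h𝒩
  have hker : f.ker = Q := QuotientGroup.ker_mk' _
  have hQS : Q ≤ (S : Subgroup G) := Thompson.pCore_le_sylow S
  have hcm : ((S : Subgroup G).map f).comap f = S := by
    rw [Subgroup.comap_map_eq, hker, sup_of_le_left hQS]
  have hT := isSylowIn_top (S.mapSurjective (QuotientGroup.mk'_surjective Q))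
  rw [Sylow.coe_mapSurjective] at hT
  have hc := FamilyControlsStrongFusionIn.controls (indFam_isConjugacyFunctor h𝓦) hquot hT
  -- lifting from the quotient
  have lift : ∀ (B : Set (G ⧸ Q)) (y : G ⧸ Q),
      Fus (locN (indFam 𝓦 (G ⧸ Q)) ((S : Subgroup G).map f) ⊤)
        (((S : Subgroup G).map f : Subgroup (G ⧸ Q)) : Set (G ⧸ Q)) B y →
      ∀ A : Set G, A ⊆ (S : Subgroup G) → f '' A = B →
        ∃ g, Fus 𝒩 ((S : Subgroup G) : Set G) A g ∧
          img g A ⊆ (S : Subgroup G) ∧ ∀ a ∈ A, f (g * a * g⁻¹) = y * f a * y⁻¹ := by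
    intro B y hFus
    induction hFus with
    | @refl B y hy =>
      intro A hA hB
      exact ⟨1, .refl (by simp), by rwa [img_one], fun a ha => by
        rw [hy _ (hB ▸ ⟨a, ha, rfl⟩)]; simp⟩
    | @step B M x y hM hx hB hxB _ ih =>
      intro A hA hAB
      obtain ⟨_, ⟨W, hW, rfl⟩, rfl⟩ := hM
      replace hx := hx.2
      set V := inducedFunctor W ((S : Subgroup G).map f) with hV
      set M := (nrm V).comap f with hMdef
      have hSM : (S : Subgroup G) ≤ M := fun s hs =>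
        le_nrm_functor (isConjugacyFunctor_inducedFunctor (h𝓦 W hW)) hT.isPGroup ⟨s, hs, rfl⟩
      have hMne : M ≠ ⊤ := by
        intro htop
        have h1 : nrm V = ⊤ := by
          rw [← Subgroup.map_comap_eq_self_of_surjective (QuotientGroup.mk'_surjective Q) (nrm V),
            ← hMdef, htop, Subgroup.map_top_of_surjective f (QuotientGroup.mk'_surjective Q)]
        haveI : V.Normal := Subgroup.normalizer_eq_top_iff.1 h1
        have h2 : V.comap f ≤ Q := Thompson.le_pCore inferInstance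
          (IsPGroup.comap_of_ker_isPGroup (hT.isPGroup.to_le (inducedFunctor_le W _)) f
            (by rw [hker]; exact Thompson.isPGroup_pCore))
        refine functor_ne_bot (isConjugacyFunctor_inducedFunctor (h𝓦 W hW)) hT.isPGroup ?_ ?_
        · rwa [Ne, Subgroup.map_eq_bot_iff, hker]
        · rw [← hV, eq_bot_iff]
          intro u hu
          obtain ⟨v, rfl⟩ := QuotientGroup.mk'_surjective Q u
          exact (QuotientGroup.eq_one_iff v).2 (h2 hu)
      obtain ⟨m, rfl⟩ := QuotientGroup.mk'_surjective Q x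
      have hmA : img m A ⊆ (S : Subgroup G) := by
        rintro _ ⟨a, ha, rfl⟩
        rw [← hcm]
        exact hxB ⟨f a, hAB ▸ ⟨a, ha, rfl⟩, by simp [hf]⟩
      obtain ⟨g, hg, hgA, hge⟩ := ih (img m A) hmA (by
        rw [← hAB]; simp only [img, Set.image_image, hf, map_mul, map_inv])
      refine ⟨g * m, (fus_of_subgroup h𝓦 S hSM (hsub M hMne) (show m ∈ M from hx) hA hmA).trans hg,
        by rwa [← img_img], fun a ha => ?_⟩
      have := hge _ ⟨a, ha, rfl⟩
      rw [show g * m * a * (g * m)⁻¹ = g * (m * a * m⁻¹) * g⁻¹ by group, this, map_mul f (m * a),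
        map_mul f m, map_inv]
      simp only [hf]
      group
  have hHC : ∀ h : G, ∃ i : ℕ, h ^ (p ^ i) ∈ C := by
    intro h
    have h1 : (QuotientGroup.mk' C) h ∈ ((S : Subgroup G)).map (QuotientGroup.mk' C) := by
      have h2 : (QuotientGroup.mk' C) h ∈ ((S : Subgroup G) ⊔ C).map (QuotientGroup.mk' C) :=
        Subgroup.mem_map_of_mem _ (hSC ▸ Subgroup.mem_top h)
      rwa [Subgroup.map_sup, (Subgroup.map_eq_bot_iff C).2 (QuotientGroup.ker_mk' C).ge,
        sup_bot_eq] at h2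
    obtain ⟨i, hi⟩ := (S.2.map (QuotientGroup.mk' C)) ⟨_, h1⟩
    refine ⟨i, (QuotientGroup.eq_one_iff _).1 ?_⟩
    have := congrArg Subtype.val hi
    simpa using this
  have hfix : ∀ x : G, img x (Q : Set G) = (Q : Set G) := by
    intro x; rw [← coe_cnj, cnj_normal]
  intro A₀ g₀ _ hA₀ hgA₀
  have hUA : A₀ ∪ (Q : Set G) ⊆ (S : Subgroup G) := Set.union_subset hA₀ hQS
  have hUA' : img g₀ (A₀ ∪ (Q : Set G)) ⊆ (S : Subgroup G) := by
    show _ '' _ ⊆ _
    rw [Set.image_union]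
    exact Set.union_subset hgA₀ (by rw [show _ '' _ = _ from hfix g₀]; exact hQS)
  have hr : Reach {T | T ∈ fullyFamily p (S : Subgroup G) ∧ Q ≤ T} A₀ g₀ :=
    ((reach_fully S _ g₀ hUA hUA').filter (fun B => (Q : Set G) ⊆ B)
      (fun B x hB => (hfix x).symm.subset.trans (img_mono hB))
      (Ψ := {T | T ∈ fullyFamily p (S : Subgroup G) ∧ Q ≤ T})
      (fun B T hT hBT hB => ⟨hT, hB.trans hBT⟩) Set.subset_union_right).mono Set.subset_union_left
  refine Fus.of_reach hr fun T hTmem x hx B hB => ?_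
  obtain ⟨⟨hTS, hTf⟩, hQT⟩ := hTmem
  refine Fus.mono ?_ hB
  obtain ⟨n, hn, hnA, hne⟩ := lift _ _ (hc (f '' (T : Set G)) (f x) (Subgroup.mem_top _)
    (Set.image_mono hTS) (by
      rintro _ ⟨_, ⟨a, ha, rfl⟩, rfl⟩
      exact ⟨x * a * x⁻¹, hTS (conj_mem_of_nrm hx ha), by simp [hf]⟩)) (T : Set G) hTS rfl
  set D := nrm T ⊓ (Subgroup.centralizer ((T.map f : Subgroup (G ⧸ Q)) : Set (G ⧸ Q))).comap f
    with hD
  have hcong : ∀ a ∈ T, f (n * a * n⁻¹) = f (x * a * x⁻¹) := fun a ha => by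
    rw [hne a ha]; simp [hf]
  have hnT : n ∈ nrm T := mem_nrm_of_forall fun a ha => by
    have h1 : (x * a * x⁻¹)⁻¹ * (n * a * n⁻¹) ∈ Q := QuotientGroup.eq.1 (hcong a ha).symm
    have := T.mul_mem (conj_mem_of_nrm hx ha) (hQT h1)
    rwa [mul_inv_cancel_left] at this
  have hhD : n⁻¹ * x ∈ D := by
    refine ⟨(nrm T).mul_mem ((nrm T).inv_mem hnT) hx, Subgroup.mem_centralizer_iff.2 ?_⟩
    rintro _ ⟨a, ha, rfl⟩
    have h1 := hcong a ha
    rw [map_mul, map_mul, map_mul, map_mul, map_inv, map_inv] at h1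
    rw [map_mul, map_inv]
    calc f a * ((f n)⁻¹ * f x) = (f n)⁻¹ * (f n * f a * (f n)⁻¹) * f x := by group
      _ = (f n)⁻¹ * (f x * f a * (f x)⁻¹) * f x := by rw [h1]
      _ = (f n)⁻¹ * f x * f a := by group
  have hDn : nrm T ≤ nrm D := by
    intro y hy
    refine mem_nrm_of_forall fun d hd => ⟨?_, Subgroup.mem_centralizer_iff.2 ?_⟩
    · exact (nrm T).mul_mem ((nrm T).mul_mem hy hd.1) ((nrm T).inv_mem hy)
    · rintro _ ⟨a, ha, rfl⟩
      have h1 := Subgroup.mem_centralizer_iff.1 hd.2 (f (y⁻¹ * a * y))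
        ⟨_, by simpa using conj_mem_of_nrm ((nrm T).inv_mem hy) ha, rfl⟩
      simp only [map_mul, map_inv] at h1 ⊢
      calc f a * (f y * f d * (f y)⁻¹) = f y * ((f y)⁻¹ * f a * f y * f d) * (f y)⁻¹ := by group
        _ = f y * (f d * ((f y)⁻¹ * f a * f y)) * (f y)⁻¹ := by rw [h1]
        _ = f y * f d * (f y)⁻¹ * f a := by group
  have hPD : IsSylowIn p (((S : Subgroup G) ⊓ nrm T) ⊓ D) D :=
    isSylowIn_inf_of_normal ((show Fully p (S : Subgroup G) T from hTf).isSylowIn S.2) inf_le_left hDn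
  -- `D / C(T)` is a `p`-group
  have hpow : ∀ d ∈ D, ∃ j : ℕ, d ^ (p ^ j) ∈ Subgroup.centralizer (T : Set G) := by
    intro d hd
    obtain ⟨i, hi⟩ := hHC d
    obtain ⟨l, hl⟩ := IsPGroup.iff_card.1 (Thompson.isPGroup_pCore : IsPGroup p ↥(pCore p G))
    refine ⟨i + l, Subgroup.mem_centralizer_iff.2 fun a ha => ?_⟩
    set z := d ^ (p ^ i) with hz'
    have hzD : z ∈ D := D.pow_mem hd _
    have hq : a⁻¹ * (z * a * z⁻¹) ∈ Q := by
      refine QuotientGroup.eq.1 ?_
      have h1 := Subgroup.mem_centralizer_iff.1 hzD.2 (f a) ⟨a, ha, rfl⟩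
      show f a = f (z * a * z⁻¹)
      rw [map_mul, map_mul, map_inv, ← h1, mul_inv_cancel_right]
    have hfixq : ∀ q ∈ Q, z * q * z⁻¹ = q := fun q hq' => by
      rw [← Subgroup.mem_centralizer_iff.1 hi q hq', mul_inv_cancel_right]
    have hiter : ∀ k : ℕ, z ^ k * a * (z ^ k)⁻¹ = a * (a⁻¹ * (z * a * z⁻¹)) ^ k := by
      intro k
      induction k with
      | zero => simp
      | succ k ihk =>
        calc z ^ (k + 1) * a * (z ^ (k + 1))⁻¹ = z * (z ^ k * a * (z ^ k)⁻¹) * z⁻¹ := by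
              rw [pow_succ']; group
          _ = (z * a * z⁻¹) * (z * (a⁻¹ * (z * a * z⁻¹)) ^ k * z⁻¹) := by rw [ihk]; group
          _ = a * (a⁻¹ * (z * a * z⁻¹)) ^ (k + 1) := by
              rw [hfixq _ (Q.pow_mem hq k), pow_succ', ← mul_assoc a, mul_inv_cancel_left]
    have h1 := hiter (Nat.card ↥Q)
    have h2 : (a⁻¹ * (z * a * z⁻¹)) ^ Nat.card ↥Q = 1 :=
      congrArg Subtype.val (pow_card_eq_one' (G := ↥Q) (x := ⟨_, hq⟩))
    rw [h2, mul_one] at h1
    rw [pow_add, pow_mul, ← hz', ← hl]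
    exact (mul_inv_eq_iff_eq_mul.1 h1).symm
  obtain ⟨PD, hPDeq⟩ := hPD.exists_sylow
  set CD := (Subgroup.centralizer (T : Set G)).subgroupOf D with hCD
  haveI : CD.Normal := by
    refine ⟨fun c hc d => Subgroup.mem_centralizer_iff.2 fun a ha => ?_⟩
    have h1 := Subgroup.mem_centralizer_iff.1 hc _
      (by simpa using conj_mem_of_nrm ((nrm T).inv_mem d.2.1) ha : (d : G)⁻¹ * a * d ∈ T)
    simp only [Subgroup.coe_subtype] at h1
    show a * ((d : G) * c * (d : G)⁻¹) = (d : G) * c * (d : G)⁻¹ * a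
    calc a * ((d : G) * c * (d : G)⁻¹) = d * (((d : G)⁻¹ * a * d) * c) * (d : G)⁻¹ := by group
      _ = d * (c * ((d : G)⁻¹ * a * d)) * (d : G)⁻¹ := by rw [h1]
      _ = _ := by group
  have hquotp : IsPGroup p (↥D ⧸ CD) := by
    intro q
    obtain ⟨d, rfl⟩ := QuotientGroup.mk'_surjective CD q
    obtain ⟨j, hj⟩ := hpow d d.2
    refine ⟨j, ?_⟩
    rw [← map_pow]
    exact (QuotientGroup.eq_one_iff _).2 (show ((d ^ p ^ j : ↥D) : G) ∈ _ by simpa using hj)
  have htop : ((PD.mapSurjective (QuotientGroup.mk'_surjective CD) : Sylow p (↥D ⧸ CD)) :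
      Subgroup (↥D ⧸ CD)) = ⊤ :=
    ((PD.mapSurjective (QuotientGroup.mk'_surjective CD)).is_maximal' (hquotp.to_subgroup ⊤)
      le_top).symm
  rw [Sylow.coe_mapSurjective] at htop
  obtain ⟨d, hd, hde⟩ : (QuotientGroup.mk' CD ⟨_, hhD⟩) ∈
      (PD : Subgroup ↥D).map (QuotientGroup.mk' CD) := htop ▸ Subgroup.mem_top _
  have hdST : (d : G) ∈ ((S : Subgroup G) ⊓ nrm T) ⊓ D := hPDeq ▸ ⟨d, hd, rfl⟩
  have hc' : (d : G)⁻¹ * (n⁻¹ * x) ∈ Subgroup.centralizer (T : Set G) :=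
    (QuotientGroup.eq (s := CD) (a := d) (b := ⟨n⁻¹ * x, hhD⟩)).1 hde
  have hdT : img (d : G) (T : Set G) = (T : Set G) := by
    rw [← coe_cnj, mem_nrm_iff_cnj.1 hdST.1.2]
  refine ((hP (T : Set G) d hdST.1.1 hTS (hdT.symm ▸ hTS)).trans (hdT.symm ▸ hn)).congr fun a ha => ?_
  have h1 := Subgroup.mem_centralizer_iff.1 hc' a ha
  calc n * (d : G) * a * (n * d)⁻¹
      = n * d * (a * ((d : G)⁻¹ * (n⁻¹ * x))) * ((d : G)⁻¹ * (n⁻¹ * x))⁻¹ * (n * d)⁻¹ := by group
    _ = x * a * x⁻¹ := by rw [h1]; group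

/-- The reduction step. -/
theorem fusion_step
    (hsub : ∀ M : Subgroup G, M ≠ ⊤ → FamilyControlsStrongFusionIn p (indFam 𝓦 ↥M) ⊤)
    (hquot : ∀ (N : Subgroup G) [N.Normal], N ≠ ⊥ →
      FamilyControlsStrongFusionIn p (indFam 𝓦 (G ⧸ N)) ⊤) :
    FamilyControlsStrongFusionIn p (indFam 𝓦 G) ⊤ ∨ Constr p G := by
  obtain ⟨S⟩ : Nonempty (Sylow p G) := inferInstance
  by_cases hQ : pCore p G = ⊥
  · refine Or.inl (familyControlsStrongFusionIn_of_fully S (indFam_isConjugacyFunctor h𝓦)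
      fun T hT hT0 _ => familyControlsStrongFusionIn_subgroup h𝓦 (hsub _ fun htop => hT0 ?_))
    haveI : T.Normal := Subgroup.normalizer_eq_top_iff.1 htop
    exact le_bot_iff.1 (hQ ▸ Thompson.le_pCore ‹_› (S.2.to_le hT))
  by_cases hK : pPrimeCore p G = ⊥
  swap
  · haveI : (pPrimeCore p G).Normal := Thompson.sSup_normal fun _ h => h.1
    exact Or.inl (familyControlsStrongFusionIn_of_coprime_quotient h𝓦 _
      Thompson.card_pPrimeCore_coprime (hquot _ hK))
  set Q := pCore p G with hQdef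
  set C := Subgroup.centralizer (Q : Set G) with hC
  haveI : C.Normal := Subgroup.normal_centralizer
  set P := (S : Subgroup G) ⊓ C with hPdef
  by_cases hcon : P ≤ Q
  · exact Or.inr (constr_of_inf_centralizer_le hK S hcon)
  refine Or.inl (familyControlsStrongFusionIn_iff.2 ⟨_, isSylowIn_top S, ?_⟩)
  have hPsyl : IsSylowIn p P C :=
    isSylowIn_inf_of_normal (isSylowIn_top S) le_top (by rw [nrm_eq_top])
  have hNP : nrm P ≠ ⊤ := by
    intro htop
    haveI : P.Normal := Subgroup.normalizer_eq_top_iff.1 htop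
    exact hcon (Thompson.le_pCore ‹_› hPsyl.isPGroup)
  have hSN : (S : Subgroup G) ≤ nrm P := by
    refine Subgroup.le_normalizer_iff.2 fun s hs x hx => ⟨?_, ?_⟩
    · exact (S : Subgroup G).mul_mem ((S : Subgroup G).mul_mem hs hx.1) ((S : Subgroup G).inv_mem hs)
    · exact (inferInstance : C.Normal).conj_mem x hx.2 s
  by_cases hSC : (S : Subgroup G) ⊔ C = ⊤
  · exact controls_of_sup_eq_top h𝓦 S hSC (fun h => hcon (inf_le_left.trans h))
      (fun A d hd hA hdA => fus_of_subgroup h𝓦 S hSN (hsub _ hNP) (hSN hd) hA hdA) hsub (hquot Q hQ)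
  intro A g _ hA hgA
  set M := (S : Subgroup G) ⊔ C with hM
  obtain ⟨c, hc, n, hn, rfl⟩ := exists_mul_of_frattini hPsyl (g := g)
    (by rw [nrm_eq_top]; exact Subgroup.mem_top _)
  have hnA : img n A ⊆ ((M ⊓ nrm P : Subgroup G) : Set G) := by
    rintro _ ⟨a, ha, rfl⟩
    refine ⟨?_, (nrm P).mul_mem ((nrm P).mul_mem hn (hSN (hA ha))) ((nrm P).inv_mem hn)⟩
    have h1 : c * (n * a * n⁻¹) * c⁻¹ ∈ M := by
      have := (le_sup_left : (S : Subgroup G) ≤ M) (hgA ⟨a, ha, rfl⟩)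
      simpa [mul_assoc] using this
    have hcM : c ∈ M := (le_sup_right : C ≤ M) hc
    simpa [mul_assoc] using M.mul_mem (M.mul_mem (M.inv_mem hcM) h1) hcM
  have hp : IsPGroup p ↥(Subgroup.closure (img n A)) := by
    rw [closure_img]
    exact isPGroup_cnj (S.2.to_le ((Subgroup.closure_le _).2 hA))
  obtain ⟨m, hm, hmS⟩ := (sylow_isSylowIn S (le_inf le_sup_left hSN :
    (S : Subgroup G) ≤ M ⊓ nrm P)).exists_cnj_le hp ((Subgroup.closure_le _).2 hnA)
  have hmid : img (m * n) A ⊆ (S : Subgroup G) := by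
    rw [← img_img]
    rintro _ ⟨b, hb, rfl⟩
    exact hmS (conj_mem_cnj.2 (Subgroup.subset_closure hb))
  have h1 := fus_of_subgroup h𝓦 S hSN (hsub _ hNP) ((nrm P).mul_mem hm.2 hn) hA hmid
  have h2 := fus_of_subgroup h𝓦 S (le_sup_left : (S : Subgroup G) ≤ M) (hsub _ hSC) (g := c * m⁻¹)
    (M.mul_mem ((le_sup_right : C ≤ M) hc) (M.inv_mem hm.1)) hmid
    (by rwa [img_img, ← mul_assoc, inv_mul_cancel_right])
  have h3 := h1.trans h2
  rwa [← mul_assoc, inv_mul_cancel_right] at h3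

end Grp

/-- Induction along sections: it is enough to treat constrained sections all of whose proper
subgroups and quotients are controlled. -/
theorem fusion_induction {G : Type u} [Group G] [Finite G]
    {𝓦 : Set (∀ (Q : Type u) [Group Q], Subgroup Q)} (h𝓦 : ∀ W ∈ 𝓦, IsCharPFunctor.{u} p W)
    (hloc : ∀ (H : Type u) [Group H] [Finite H], IsSec G H → Constr p H →
      (∀ M : Subgroup H, M ≠ ⊤ → FamilyControlsStrongFusionIn p (indFam 𝓦 ↥M) ⊤) →
      (∀ (N : Subgroup H) [N.Normal], N ≠ ⊥ →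
        FamilyControlsStrongFusionIn p (indFam 𝓦 (H ⧸ N)) ⊤) →
      FamilyControlsStrongFusionIn p (indFam 𝓦 H) ⊤)
    (H : Type u) [Group H] [Finite H] (hH : IsSec G H) :
    FamilyControlsStrongFusionIn p (indFam 𝓦 H) ⊤ := by
  suffices key : ∀ (n : ℕ) (H : Type u) [Group H] [Finite H], Nat.card H ≤ n → IsSec G H →
      FamilyControlsStrongFusionIn p (indFam 𝓦 H) ⊤ from key _ H le_rfl hH
  intro n
  induction n using Nat.strong_induction_on with
  | _ n ih =>
    intro H _ _ hn hH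
    have hsub : ∀ M : Subgroup H, M ≠ ⊤ → FamilyControlsStrongFusionIn p (indFam 𝓦 ↥M) ⊤ := by
      intro M hM
      refine ih (Nat.card ↥M) ?_ ↥M le_rfl (hH.trans (isSec_subgroup M))
      exact ((Subgroup.card_le_card_group M).lt_of_ne fun he =>
        hM (Subgroup.eq_top_of_card_eq M he)).trans_le hn
    have hquot : ∀ (N : Subgroup H) [N.Normal], N ≠ ⊥ →
        FamilyControlsStrongFusionIn p (indFam 𝓦 (H ⧸ N)) ⊤ := by
      intro N _ hN
      refine ih (Nat.card (H ⧸ N)) ?_ _ le_rfl (hH.trans (isSec_quotient N))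
      have h1 := Subgroup.card_eq_card_quotient_mul_card_subgroup N
      have h2 : 1 < Nat.card ↥N := (Subgroup.one_lt_card_iff_ne_bot N).2 hN
      have h3 : 0 < Nat.card (H ⧸ N) := Nat.card_pos
      calc Nat.card (H ⧸ N) < Nat.card (H ⧸ N) * Nat.card ↥N := lt_mul_of_one_lt_right h3 h2
        _ ≤ n := h1 ▸ hn
    exact (fusion_step h𝓦 hsub hquot).elim id fun hc => hloc H hH hc hsub hquot

/-- Control of strong fusion in all constrained sections gives control in all sections. -/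
theorem fusion_of_constrained {G : Type u} [Group G] [Finite G]
    {𝓦 : Set (∀ (Q : Type u) [Group Q], Subgroup Q)} (h𝓦 : ∀ W ∈ 𝓦, IsCharPFunctor.{u} p W)
    (hloc : ∀ (H : Type u) [Group H] [Finite H], IsSec G H → Constr p H →
      FamilyControlsStrongFusionIn p (indFam 𝓦 H) ⊤)
    (H : Type u) [Group H] [Finite H] (hH : IsSec G H) :
    FamilyControlsStrongFusionIn p (indFam 𝓦 H) ⊤ :=
  fusion_induction h𝓦 (fun H _ _ h1 h2 _ _ => hloc H h1 h2) H hH

/-- A factorisation `H = N(W₁ S) N(W₂ S)` gives control of strong fusion by the pair. -/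
theorem controls_of_factor {H : Type u} [Group H] [Finite H] (S : Sylow p H)
    {𝒩 : Set (Subgroup H)} {N₁ N₂ : Subgroup H} (h₁ : N₁ ∈ 𝒩) (h₂ : N₂ ∈ 𝒩)
    (hS₁ : (S : Subgroup H) ≤ N₁) (hS₂ : (S : Subgroup H) ≤ N₂)
    (hfac : ∀ g : H, ∃ a ∈ N₁, ∃ b ∈ N₂, g = a * b) :
    Controls 𝒩 (S : Subgroup H) ⊤ := by
  intro A g _ hA hgA
  obtain ⟨a, ha, b, hb, rfl⟩ := hfac g
  have hbA : img b A ⊆ ((N₁ ⊓ N₂ : Subgroup H) : Set H) := by
    rintro _ ⟨x, hx, rfl⟩
    refine ⟨?_, N₂.mul_mem (N₂.mul_mem hb (hS₂ (hA hx))) (N₂.inv_mem hb)⟩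
    have h := hS₁ (hgA ⟨x, hx, rfl⟩)
    simpa [mul_assoc] using N₁.mul_mem (N₁.mul_mem (N₁.inv_mem ha) h) ha
  have hp : IsPGroup p ↥(Subgroup.closure (img b A)) := by
    rw [closure_img]
    exact isPGroup_cnj (S.2.to_le ((Subgroup.closure_le _).2 hA))
  obtain ⟨m, hm, hmS⟩ := (sylow_isSylowIn S (le_inf hS₁ hS₂)).exists_cnj_le hp
    ((Subgroup.closure_le _).2 hbA)
  have hmid : img (m * b) A ⊆ (S : Subgroup H) := by
    rw [← img_img]
    rintro _ ⟨y, hy, rfl⟩
    exact hmS (conj_mem_cnj.2 (Subgroup.subset_closure hy))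
  have h3 := (Fus.single h₂ (N₂.mul_mem hm.2 hb) hA hmid).trans
    (Fus.single (T := ((S : Subgroup H) : Set H)) (A := img (m * b) A) (x := a * m⁻¹) h₁
      (N₁.mul_mem ha (N₁.inv_mem hm.1)) hmid (by rwa [img_img, ← mul_assoc, inv_mul_cancel_right]))
  rwa [← mul_assoc, inv_mul_cancel_right] at h3

end Cfsg.Agent.ConjFunctor
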