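import Cfsg.Agent.ConjFunctor.Sections
import Cfsg.Agent.Lib.PGroup.Basic

/-!
The K-sequence of a group: monotonicity, stabilization, self-centralizing members, functoriality
and the comparison with a subgroup containing all terms.
-/

set_option autoImplicit false

open scoped commutatorElement

namespace Cfsg.Agent.ConjFunctor.KInf

open Cfsg

universe u

variable {P : Type*} [Group P]

/-- The centre of `B`, inside `P`. -/
abbrev zc (B : Subgroup P) : Subgroup P := B ⊓ Subgroup.centralizer (B : Set P)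

theorem mem_zc {B : Subgroup P} {z : P} : z ∈ zc B ↔ z ∈ B ∧ ∀ b ∈ B, b * z = z * b :=
  ⟨fun h => ⟨h.1, Subgroup.mem_centralizer_iff.1 h.2⟩,
    fun h => ⟨h.1, Subgroup.mem_centralizer_iff.2 h.2⟩⟩

theorem classTwo_iff {C : Subgroup P} : C ∈ classTwoSubgroups P ↔ ⁅C, C⁆ ≤ zc C :=
  ⟨fun h => le_inf (Subgroup.commutator_le_self C) h, fun h => h.trans inf_le_right⟩

theorem upper_anti {Q Q' : Subgroup P} (h : Q ≤ Q') : kUpperStarFamily Q' ⊆ kUpperStarFamily Q :=
  fun _ hB => ⟨hB.1, (Subgroup.commutator_mono le_rfl h).trans hB.2⟩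

theorem lower_anti {Q Q' : Subgroup P} (h : Q ≤ Q') : kLowerStarFamily Q' ⊆ kLowerStarFamily Q :=
  fun _ hB => ⟨hB.1, h.trans hB.2.1, fun A hA hAQ => hB.2.2 A hA (hAQ.trans h)⟩

theorem upper_le_nrm {Q B : Subgroup P} (h : B ∈ kUpperStarFamily Q) : Q ≤ nrm B :=
  Subgroup.le_normalizer_iff_commutator_le_left.2 (h.2.trans inf_le_left)

theorem odd_succ (n : ℕ) :
    kSeqOdd P (n + 1) = sSup (kUpperStarFamily (kSeqEven P n)) := rfl

theorem odd_succ_le (n : ℕ) : kSeqOdd P (n + 1) ≤ kSeqOdd P n := by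
  induction n with
  | zero => exact le_top
  | succ n ih =>
    show sSup (kUpperStarFamily _) ≤ sSup (kUpperStarFamily _)
    exact sSup_le_sSup (upper_anti (sSup_le_sSup (lower_anti ih)))

theorem odd_antitone : Antitone (kSeqOdd P) := antitone_nat_of_succ_le odd_succ_le

theorem even_mono : Monotone (kSeqEven P) :=
  fun _ _ h => sSup_le_sSup (lower_anti (odd_antitone h))

variable (P) in
theorem exists_stable [Finite P] : ∃ n : ℕ, ∀ m : ℕ, n ≤ m →
    kSeqEven P m = kInfLower P ∧ kSeqOdd P m = kInfUpper P := by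
  obtain ⟨X, ⟨n, rfl⟩, hmin⟩ :=
    (Set.toFinite (Set.range (kSeqOdd P))).exists_minimal (Set.range_nonempty _)
  have hodd : ∀ m, n ≤ m → kSeqOdd P m = kSeqOdd P n := fun m hm =>
    le_antisymm (odd_antitone hm) (hmin ⟨m, rfl⟩ (odd_antitone hm))
  have heven : ∀ m, n ≤ m → kSeqEven P m = kSeqEven P n := fun m hm => by
    show sSup _ = sSup _
    rw [hodd m hm]
  refine ⟨n, fun m hm => ⟨?_, ?_⟩⟩
  · refine le_antisymm (le_iSup (kSeqEven P) m) (iSup_le fun k => ?_)
    rw [heven m hm, ← heven (max n k) (le_max_left _ _)]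
    exact even_mono (le_max_right _ _)
  · refine le_antisymm (le_iInf fun k => ?_) (iInf_le (kSeqOdd P) m)
    rw [hodd m hm, ← hodd (max n k) (le_max_left _ _)]
    exact odd_antitone (le_max_right _ _)

theorem le_kInfLower {n : ℕ} {B : Subgroup P} (h : B ∈ kLowerStarFamily (kSeqOdd P n)) :
    B ≤ kInfLower P :=
  (le_sSup h).trans (le_iSup (kSeqEven P) n)

theorem normal_abelian_mem_upper {A : Subgroup P} [hn : A.Normal] (hA : IsMulCommutative ↥A)
    (Q : Subgroup P) : A ∈ kUpperStarFamily Q := by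
  have hAA : A ≤ Subgroup.centralizer (A : Set P) := Subgroup.le_centralizer_iff_isMulCommutative.2 hA
  exact ⟨(Subgroup.commutator_le_self A).trans hAA,
    le_inf (Subgroup.commutator_le_left A Q) ((Subgroup.commutator_le_left A Q).trans hAA)⟩

theorem normal_abelian_mem_lower {A : Subgroup P} [hn : A.Normal] (hA : IsMulCommutative ↥A)
    (Q : Subgroup P) : A ∈ kLowerStarFamily Q := by
  have hAA : A ≤ Subgroup.centralizer (A : Set P) := Subgroup.le_centralizer_iff_isMulCommutative.2 hA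
  refine ⟨(Subgroup.commutator_le_self A).trans hAA, ?_, fun B _ _ _ _ _ => ?_⟩
  · show Q ≤ nrm A
    rw [nrm_eq_top]; exact le_top
  · exact le_inf (Subgroup.commutator_le_left A B) ((Subgroup.commutator_le_left A B).trans hAA)

theorem bot_mem_upper (Q : Subgroup P) : (⊥ : Subgroup P) ∈ kUpperStarFamily Q :=
  normal_abelian_mem_upper inferInstance Q

theorem bot_mem_lower (Q : Subgroup P) : (⊥ : Subgroup P) ∈ kLowerStarFamily Q :=
  normal_abelian_mem_lower inferInstance Q

/-! ### Maximal members contain their centralizers -/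

section Max

variable [Finite P] {p : ℕ} [Fact p.Prime] (hP : IsPGroup p P)
include hP

omit [Finite P] [Fact p.Prime] hP in
theorem classTwo_sup_zpowers {B : Subgroup P} (hB : B ∈ classTwoSubgroups P) {x : P}
    (hxC : x ∈ Subgroup.centralizer (B : Set P)) :
    B ⊔ Subgroup.zpowers x ∈ classTwoSubgroups P ∧
      (∀ y ∈ B ⊔ Subgroup.zpowers x, ∃ b ∈ B, ∃ k : ℤ, y = b * x ^ k) ∧
      zc B ≤ zc (B ⊔ Subgroup.zpowers x) := by
  have hxk : ∀ k : ℤ, x ^ k ∈ Subgroup.centralizer (B : Set P) := fun k => zpow_mem hxC k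
  have hdec : ∀ y ∈ B ⊔ Subgroup.zpowers x, ∃ b ∈ B, ∃ k : ℤ, y = b * x ^ k := by
    intro y hy
    have hle : B ⊔ Subgroup.zpowers x ≤
        { carrier := {y | ∃ b ∈ B, ∃ k : ℤ, y = b * x ^ k}
          one_mem' := ⟨1, B.one_mem, 0, by simp⟩
          mul_mem' := by
            rintro _ _ ⟨b, hb, k, rfl⟩ ⟨b', hb', k', rfl⟩
            refine ⟨b * b', B.mul_mem hb hb', k + k', ?_⟩
            rw [zpow_add, mul_assoc, ← mul_assoc (x ^ k),
              ← Subgroup.mem_centralizer_iff.1 (hxk k) b' hb']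
            simp [mul_assoc]
          inv_mem' := by
            rintro _ ⟨b, hb, k, rfl⟩
            refine ⟨b⁻¹, B.inv_mem hb, -k, ?_⟩
            rw [mul_inv_rev, ← zpow_neg]
            exact (Subgroup.mem_centralizer_iff.1 (hxk (-k)) b⁻¹ (B.inv_mem hb)).symm } := by
      refine sup_le (fun b hb => ⟨b, hb, 0, by simp⟩) ?_
      rw [Subgroup.zpowers_le]
      exact ⟨1, B.one_mem, 1, by simp⟩
    exact hle hy
  have hcom : ⁅B ⊔ Subgroup.zpowers x, B ⊔ Subgroup.zpowers x⁆ ≤ ⁅B, B⁆ := by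
    rw [Subgroup.commutator_le]
    intro y hy y' hy'
    obtain ⟨b, hb, k, rfl⟩ := hdec y hy
    obtain ⟨b', hb', k', rfl⟩ := hdec y' hy'
    have c1 : Commute (x ^ k) b' := (Subgroup.mem_centralizer_iff.1 (hxk k) b' hb').symm
    have c2 : Commute (x ^ k') b := (Subgroup.mem_centralizer_iff.1 (hxk k') b hb).symm
    have c3 : Commute (x ^ k) (x ^ k') := Commute.zpow_zpow_self x k k'
    have e : ⁅b * x ^ k, b' * x ^ k'⁆ = ⁅b, b'⁆ := by
      rw [commutatorElement_mul_left_eq_conj_mul, commutatorElement_mul_right_eq_mul_conj,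
        commutatorElement_mul_right_eq_mul_conj (a := b), c1.commutator_eq, c3.commutator_eq,
        c2.symm.commutator_eq]
      simp
    rw [e]
    exact Subgroup.commutator_mem_commutator hb hb'
  have hz : zc B ≤ zc (B ⊔ Subgroup.zpowers x) := by
    intro z hz
    refine mem_zc.2 ⟨Subgroup.mem_sup_left hz.1, fun y hy => ?_⟩
    obtain ⟨b, hb, k, rfl⟩ := hdec y hy
    have c1 : Commute b z := Subgroup.mem_centralizer_iff.1 hz.2 b hb
    have c2 : Commute (x ^ k) z := (Subgroup.mem_centralizer_iff.1 (hxk k) z hz.1).symm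
    exact c1.mul_left c2
  refine ⟨hcom.trans fun z hz' => ?_, hdec, hz⟩
  exact (hz ⟨Subgroup.commutator_le_self B hz', hB hz'⟩).2

omit [Fact p.Prime] in
theorem exists_central_mod {B : Subgroup P} [Fact p.Prime]
    (h : ¬ Subgroup.centralizer (B : Set P) ≤ B) :
    ∃ x ∈ Subgroup.centralizer (B : Set P), x ∉ B ∧ ∀ n ∈ nrm B, ∀ k : ℤ, ⁅x ^ k, n⁆ ∈ zc B := by
  set N := nrm B with hN
  set C := Subgroup.centralizer (B : Set P) with hC
  have hCN : C ≤ N := Subgroup.centralizer_le_normalizer _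
  haveI : (B.subgroupOf N).Normal := Subgroup.normal_in_normalizer
  haveI : (C.subgroupOf N).Normal := Subgroup.normal_subgroupOf_centralizer_normalizer _
  set f := QuotientGroup.mk' (B.subgroupOf N) with hf
  haveI : ((C.subgroupOf N).map f).Normal :=
    Subgroup.Normal.map inferInstance _ (QuotientGroup.mk'_surjective _)
  have hne : (C.subgroupOf N).map f ≠ ⊥ := by
    rw [Ne, Subgroup.map_eq_bot_iff, QuotientGroup.ker_mk']
    intro hle
    exact h fun c hc => hle (Subgroup.mem_subgroupOf.2 hc : (⟨c, hCN hc⟩ : ↥N) ∈ C.subgroupOf N)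
  have h1 := PGroup.inf_center_ne_bot ((hP.to_subgroup N).to_quotient (B.subgroupOf N)) hne
  obtain ⟨⟨y, ⟨x, hx, rfl⟩, hyc⟩, hy1'⟩ := Subgroup.ne_bot_iff_exists_ne_one.1 h1
  have hy1 : f x ≠ 1 := fun e => hy1' (Subtype.ext e)
  refine ⟨x, hx, fun hxB => hy1 ((QuotientGroup.eq_one_iff x).2 hxB), fun n hn k => ?_⟩
  have h2 : f ⁅x ^ k, (⟨n, hn⟩ : ↥N)⁆ = 1 := by
    rw [map_commutatorElement, map_zpow, commutatorElement_eq_one_iff_mul_comm]
    exact ((Subgroup.mem_center_iff.1 ((Subgroup.center _).zpow_mem hyc k)) _).symm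
  have hxk : (x : P) ^ k ∈ C := zpow_mem hx k
  refine ⟨Subgroup.mem_subgroupOf.1 ((QuotientGroup.eq_one_iff _).1 h2), ?_⟩
  have e : ⁅(x : P) ^ k, n⁆ = (x : P) ^ k * (n * ((x : P) ^ k)⁻¹ * n⁻¹) := by
    simp [commutatorElement_def, mul_assoc]
  rw [e]
  refine C.mul_mem hxk (Subgroup.mem_centralizer_iff.2 fun b hb => ?_)
  have hb' : n⁻¹ * b * n ∈ B := by simpa using conj_mem_of_nrm (Subgroup.inv_mem _ hn) hb
  have := Subgroup.mem_centralizer_iff.1 (C.inv_mem hxk) _ hb'
  calc b * (n * ((x : P) ^ k)⁻¹ * n⁻¹) = n * ((n⁻¹ * b * n) * ((x : P) ^ k)⁻¹) * n⁻¹ := by group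
    _ = n * (((x : P) ^ k)⁻¹ * (n⁻¹ * b * n)) * n⁻¹ := by rw [this]
    _ = _ := by group

theorem centralizer_le_of_maximal_classTwo {B : Subgroup P} (hB : B ∈ classTwoSubgroups P)
    (hmax : ∀ C ∈ classTwoSubgroups P, B ≤ C → C = B) : Subgroup.centralizer (B : Set P) ≤ B := by
  intro x hx
  rw [← hmax _ (classTwo_sup_zpowers hB hx).1 le_sup_left]
  exact Subgroup.mem_sup_right (Subgroup.mem_zpowers x)

theorem centralizer_le_of_maximal_upper {B Q : Subgroup P} (hB : B ∈ kUpperStarFamily Q)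
    (hmax : ∀ C ∈ kUpperStarFamily Q, B ≤ C → C = B) : Subgroup.centralizer (B : Set P) ≤ B := by
  by_contra h
  obtain ⟨x, hxC, hxB, hx⟩ := exists_central_mod hP h
  obtain ⟨h2, hdec, hz⟩ := classTwo_sup_zpowers hB.1 hxC
  refine hxB ?_
  have hmem : B ⊔ Subgroup.zpowers x ∈ kUpperStarFamily Q := by
    refine ⟨h2, ?_⟩
    rw [Subgroup.commutator_le]
    intro y hy q hq
    obtain ⟨b, hb, k, rfl⟩ := hdec y hy
    have hxq := hx q (upper_le_nrm hB hq) k
    have hcomm : Commute b ⁅x ^ k, q⁆ := Subgroup.mem_centralizer_iff.1 hxq.2 b hb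
    rw [commutatorElement_mul_left_eq_conj_mul, hcomm.eq, mul_inv_cancel_right]
    exact hz ((zc B).mul_mem hxq (hB.2 (Subgroup.commutator_mem_commutator hb hq)))
  rw [← hmax _ hmem le_sup_left]
  exact Subgroup.mem_sup_right (Subgroup.mem_zpowers x)

theorem centralizer_le_of_maximal_lower {B Q : Subgroup P} (hB : B ∈ kLowerStarFamily Q)
    (hmax : ∀ C ∈ kLowerStarFamily Q, B ≤ C → C = B) : Subgroup.centralizer (B : Set P) ≤ B := by
  by_contra h
  obtain ⟨x, hxC, hxB, hx⟩ := exists_central_mod hP h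
  obtain ⟨h2, hdec, hz⟩ := classTwo_sup_zpowers hB.1 hxC
  refine hxB ?_
  have hmem : B ⊔ Subgroup.zpowers x ∈ kLowerStarFamily Q := by
    refine ⟨h2, fun q hq => mem_nrm_of_forall fun y hy => ?_, fun A hA hAQ hBA hA1 hA2 => ?_⟩
    · obtain ⟨b, hb, k, rfl⟩ := hdec y hy
      have e : q * (b * x ^ k) * q⁻¹ = (q * b * q⁻¹) * ⁅x ^ k, q⁆⁻¹ * x ^ k := by
        simp [commutatorElement_def, mul_assoc]
      rw [e]
      refine Subgroup.mul_mem _ (Subgroup.mem_sup_left (B.mul_mem (conj_mem_of_nrm (hB.2.1 hq) hb)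
        (B.inv_mem (hx q (hB.2.1 hq) k).1))) (Subgroup.mem_sup_right (Subgroup.zpow_mem_zpowers x k))
    · have h1 := hB.2.2 A hA hAQ (le_sup_left.trans hBA)
        (le_bot_iff.1 ((Subgroup.commutator_mono le_sup_left le_rfl).trans hA1.le))
        (le_bot_iff.1 ((Subgroup.commutator_mono (Subgroup.commutator_mono hz le_rfl) le_rfl).trans
          hA2.le))
      rw [Subgroup.commutator_le]
      intro y hy a ha
      obtain ⟨b, hb, k, rfl⟩ := hdec y hy
      have hxq := hx a (hB.2.1 (hAQ ha)) k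
      have hcomm : Commute b ⁅x ^ k, a⁆ := Subgroup.mem_centralizer_iff.1 hxq.2 b hb
      rw [commutatorElement_mul_left_eq_conj_mul, hcomm.eq, mul_inv_cancel_right]
      exact hz ((zc B).mul_mem hxq (h1 (Subgroup.commutator_mem_commutator hb ha)))
  rw [← hmax _ hmem le_sup_left]
  exact Subgroup.mem_sup_right (Subgroup.mem_zpowers x)

theorem centralizer_kInf_le :
    Subgroup.centralizer (kInfLower P : Set P) ≤ kInfLower P ∧
      Subgroup.centralizer (kInfUpper P : Set P) ≤ kInfUpper P := by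
  obtain ⟨n, hn⟩ := exists_stable P
  constructor
  · obtain ⟨B, hB, hmax⟩ :=
      (Set.toFinite (kLowerStarFamily (kSeqOdd P n))).exists_maximal ⟨⊥, bot_mem_lower _⟩
    have := centralizer_le_of_maximal_lower hP hB fun C hC h => le_antisymm (hmax hC h) h
    exact ((Subgroup.centralizer_le (SetLike.coe_subset_coe.2 (le_kInfLower hB))).trans this).trans
      (le_kInfLower hB)
  · obtain ⟨B, hB, hmax⟩ :=
      (Set.toFinite (kUpperStarFamily (kSeqEven P n))).exists_maximal ⟨⊥, bot_mem_upper _⟩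
    have := centralizer_le_of_maximal_upper hP hB fun C hC h => le_antisymm (hmax hC h) h
    have hle : B ≤ kInfUpper P := by
      rw [← (hn (n + 1) n.le_succ).2, odd_succ]; exact le_sSup hB
    exact ((Subgroup.centralizer_le (SetLike.coe_subset_coe.2 hle)).trans this).trans hle

theorem center_le_kInf : Subgroup.center P ≤ kInfLower P ∧ Subgroup.center P ≤ kInfUpper P :=
  ⟨(Subgroup.center_le_centralizer _).trans (centralizer_kInf_le hP).1,
    (Subgroup.center_le_centralizer _).trans (centralizer_kInf_le hP).2⟩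

end Max

/-! ### Functoriality -/

section Map

variable {H : Type*} [Group H] (f : H →* P) (hf : Function.Injective f)
include hf

theorem map_zc (B : Subgroup H) : (zc B).map f = zc (B.map f) := by
  ext x
  constructor
  · rintro ⟨z, hz, rfl⟩
    refine mem_zc.2 ⟨Subgroup.mem_map_of_mem f hz.1, ?_⟩
    rintro _ ⟨b, hb, rfl⟩
    rw [← map_mul, ← map_mul, (mem_zc.1 hz).2 b hb]
  · intro hx
    obtain ⟨⟨z, hz, rfl⟩, hc⟩ := mem_zc.1 hx
    exact ⟨z, mem_zc.2 ⟨hz, fun b hb => hf (by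
      rw [map_mul, map_mul]; exact hc _ (Subgroup.mem_map_of_mem f hb))⟩, rfl⟩

theorem map_le_nrm_iff {X B : Subgroup H} : X.map f ≤ nrm (B.map f) ↔ X ≤ nrm B := by
  rw [Subgroup.le_normalizer_iff_commutator_le_left, Subgroup.le_normalizer_iff_commutator_le_left,
    ← Subgroup.map_commutator, Subgroup.map_le_map_iff_of_injective hf]

theorem map_mem_classTwo {B : Subgroup H} :
    B.map f ∈ classTwoSubgroups P ↔ B ∈ classTwoSubgroups H := by
  rw [classTwo_iff, classTwo_iff, ← map_zc f hf, ← Subgroup.map_commutator, Subgroup.map_le_map_iff_of_injective hf]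

theorem map_mem_upper {B X : Subgroup H} :
    B.map f ∈ kUpperStarFamily (X.map f) ↔ B ∈ kUpperStarFamily X := by
  refine and_congr (map_mem_classTwo f hf) ?_
  show ⁅B.map f, X.map f⁆ ≤ zc (B.map f) ↔ ⁅B, X⁆ ≤ zc B
  rw [← map_zc f hf, ← Subgroup.map_commutator, Subgroup.map_le_map_iff_of_injective hf]

theorem map_mem_lower {B X : Subgroup H} :
    B.map f ∈ kLowerStarFamily (X.map f) ↔ B ∈ kLowerStarFamily X := by
  refine and_congr (map_mem_classTwo f hf) (and_congr (map_le_nrm_iff f hf) ⟨fun h A hA hAX hn h1 h2 => ?_,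
    fun h A hA hAX hn h1 h2 => ?_⟩)
  · have := h (A.map f) ((map_mem_classTwo f hf).2 hA) (Subgroup.map_mono hAX)
      ((map_le_nrm_iff f hf).2 hn)
      (by rw [← Subgroup.map_commutator, ← Subgroup.map_commutator, h1, Subgroup.map_bot])
      (by
        show ⁅⁅zc (B.map f), A.map f⁆, A.map f⁆ = ⊥
        rw [← map_zc f hf, ← Subgroup.map_commutator, ← Subgroup.map_commutator, h2,
          Subgroup.map_bot])
    change ⁅B.map f, A.map f⁆ ≤ zc (B.map f) at this
    rwa [← map_zc f hf, ← Subgroup.map_commutator, Subgroup.map_le_map_iff_of_injective hf] at this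
  · obtain ⟨A, rfl⟩ : ∃ A₀ : Subgroup H, A₀.map f = A :=
      ⟨A.comap f, Subgroup.map_comap_eq_self (hAX.trans (Subgroup.map_le_range f X))⟩
    show ⁅B.map f, A.map f⁆ ≤ zc (B.map f)
    change ⁅⁅zc (B.map f), A.map f⁆, A.map f⁆ = ⊥ at h2
    rw [← map_zc f hf, ← Subgroup.map_commutator, ← Subgroup.map_commutator,
      Subgroup.map_eq_bot_iff_of_injective _ hf] at h2
    rw [← Subgroup.map_commutator, ← Subgroup.map_commutator,
      Subgroup.map_eq_bot_iff_of_injective _ hf] at h1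
    rw [← map_zc f hf, ← Subgroup.map_commutator, Subgroup.map_le_map_iff_of_injective hf]
    exact h A ((map_mem_classTwo f hf).1 hA) ((Subgroup.map_le_map_iff_of_injective hf).1 hAX)
      ((map_le_nrm_iff f hf).1 hn) h1 h2

theorem map_sSup_upper (X : Subgroup H) :
    (sSup (kUpperStarFamily X)).map f =
      sSup {B ∈ kUpperStarFamily (X.map f) | B ≤ f.range} := by
  refine le_antisymm ?_ (sSup_le ?_)
  · rw [Subgroup.map_le_iff_le_comap]
    refine sSup_le fun B hB => ?_
    rw [← Subgroup.map_le_iff_le_comap]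
    exact le_sSup (show B.map f ∈ {C ∈ kUpperStarFamily (X.map f) | C ≤ f.range} from
      ⟨(map_mem_upper f hf).2 hB, Subgroup.map_le_range f B⟩)
  · rintro B ⟨hB, hle⟩
    rw [← Subgroup.map_comap_eq_self hle] at hB ⊢
    exact Subgroup.map_mono (le_sSup ((map_mem_upper f hf).1 hB))

theorem map_sSup_lower (X : Subgroup H) :
    (sSup (kLowerStarFamily X)).map f =
      sSup {B ∈ kLowerStarFamily (X.map f) | B ≤ f.range} := by
  refine le_antisymm ?_ (sSup_le ?_)
  · rw [Subgroup.map_le_iff_le_comap]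
    refine sSup_le fun B hB => ?_
    rw [← Subgroup.map_le_iff_le_comap]
    exact le_sSup (show B.map f ∈ {C ∈ kLowerStarFamily (X.map f) | C ≤ f.range} from
      ⟨(map_mem_lower f hf).2 hB, Subgroup.map_le_range f B⟩)
  · rintro B ⟨hB, hle⟩
    rw [← Subgroup.map_comap_eq_self hle] at hB ⊢
    exact Subgroup.map_mono (le_sSup ((map_mem_lower f hf).1 hB))

/-- If the image of `f` contains all terms of the K-sequence of `P`, the two sequences have the same
limits. -/
theorem map_kSeq (hQ : ∀ n, kSeqEven P n ≤ f.range ∧ kSeqOdd P (n + 1) ≤ f.range) (n : ℕ) :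
    (kSeqOdd P (n + 1) ≤ (kSeqOdd H n).map f ∧ (kSeqOdd H n).map f ≤ kSeqOdd P n) ∧
      (kSeqEven P n ≤ (kSeqEven H n).map f ∧ (kSeqEven H n).map f ≤ kSeqEven P (n + 1)) := by
  have hl : ∀ m, (kSeqOdd H m).map f ≤ kSeqOdd P m → kSeqEven P m ≤ (kSeqEven H m).map f := by
    intro m hm
    show kSeqEven P m ≤ Subgroup.map f (sSup (kLowerStarFamily (kSeqOdd H m)))
    rw [map_sSup_lower f hf]
    exact sSup_le fun B hB => le_sSup ⟨lower_anti hm hB, (le_sSup hB).trans (hQ m).1⟩
  have hu : ∀ m, kSeqOdd P (m + 1) ≤ (kSeqOdd H m).map f →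
      (kSeqEven H m).map f ≤ kSeqEven P (m + 1) := by
    intro m hm
    show Subgroup.map f (sSup (kLowerStarFamily (kSeqOdd H m))) ≤ kSeqEven P (m + 1)
    rw [map_sSup_lower f hf]
    exact sSup_le fun B hB => le_sSup (lower_anti hm hB.1)
  induction n with
  | zero =>
    have h0 : (kSeqOdd H 0).map f = f.range := (MonoidHom.range_eq_map f).symm
    refine ⟨⟨h0 ▸ (hQ 0).2, le_top⟩, hl 0 le_top, hu 0 (h0 ▸ (hQ 0).2)⟩
  | succ n ih =>
    have h1 : (kSeqOdd H (n + 1)).map f ≤ kSeqOdd P (n + 1) := by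
      rw [odd_succ, odd_succ, map_sSup_upper f hf]
      exact sSup_le fun B hB => le_sSup (upper_anti ih.2.1 hB.1)
    have h2 : kSeqOdd P (n + 2) ≤ (kSeqOdd H (n + 1)).map f := by
      rw [odd_succ, odd_succ, map_sSup_upper f hf]
      exact sSup_le fun B hB => le_sSup ⟨upper_anti ih.2.2 hB, (le_sSup hB).trans (hQ (n + 1)).2⟩
    exact ⟨⟨h2, h1⟩, hl _ h1, hu _ h2⟩

theorem map_kInf (hQ : ∀ n, kSeqEven P n ≤ f.range ∧ kSeqOdd P (n + 1) ≤ f.range) :
    (kInfLower H).map f = kInfLower P ∧ (kInfUpper H).map f = kInfUpper P := by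
  constructor
  · show (⨆ n, kSeqEven H n).map f = ⨆ n, kSeqEven P n
    rw [Subgroup.map_iSup]
    exact le_antisymm (iSup_le fun n => le_iSup_of_le (n + 1) (map_kSeq f hf hQ n).2.2)
      (iSup_mono fun n => (map_kSeq f hf hQ n).2.1)
  · show (⨅ n, kSeqOdd H n).map f = ⨅ n, kSeqOdd P n
    rw [Subgroup.map_iInf f hf]
    exact le_antisymm (iInf_mono fun n => (map_kSeq f hf hQ n).1.2)
      (le_iInf fun n => iInf_le_of_le (n + 1) (map_kSeq f hf hQ n).1.1)

end Map

theorem isCharPFunctor (p : ℕ) [Fact p.Prime] :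
    IsCharPFunctor.{u} p kInfLower ∧ IsCharPFunctor.{u} p kInfUpper := by
  have hmap : ∀ (Q R : Type u) [Group Q] [Group R] (φ : Q ≃* R),
      (kInfLower Q).map φ.toMonoidHom = kInfLower R ∧ (kInfUpper Q).map φ.toMonoidHom = kInfUpper R :=
    fun Q R _ _ φ => map_kInf φ.toMonoidHom φ.injective fun n => by
      rw [MonoidHom.range_eq_top_of_surjective φ.toMonoidHom φ.surjective]; exact ⟨le_top, le_top⟩
  constructor
  · refine ⟨fun Q _ _ hQ _ h => ?_, fun Q R _ _ _ _ φ => (hmap Q R φ).1⟩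
    haveI := hQ.center_nontrivial
    exact (Subgroup.nontrivial_iff_ne_bot _).1 this (le_bot_iff.1 (h ▸ (center_le_kInf hQ).1))
  · refine ⟨fun Q _ _ hQ _ h => ?_, fun Q R _ _ _ _ φ => (hmap Q R φ).2⟩
    haveI := hQ.center_nontrivial
    exact (Subgroup.nontrivial_iff_ne_bot _).1 this (le_bot_iff.1 (h ▸ (center_le_kInf hQ).2))

end Cfsg.Agent.ConjFunctor.KInf
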