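import Cfsg.Agent.ConjFunctor.ChiefFactor

/-!
Elements of order prime to `p` stabilising a series, and minimal invariant subgroups of a chief
factor with respect to a subgroup that reaches the whole group by normalisers.
-/

set_option autoImplicit false

open scoped commutatorElement

namespace Cfsg.Agent.ConjFunctor

variable {G : Type*} [Group G] [Finite G] {p : ℕ} [hp : Fact p.Prime]

theorem exists_chiefFactor_above {U R : Subgroup G} (hU : U.Normal) (hR : R.Normal) (hlt : R < U) :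
    ∃ V, R ≤ V ∧ IsChiefFactor U V := by
  obtain ⟨V, ⟨hV1, hV2, hV3⟩, hmax⟩ :=
    (Set.toFinite {V : Subgroup G | V.Normal ∧ R ≤ V ∧ V < U}).exists_maximal ⟨R, hR, le_rfl, hlt⟩
  refine ⟨V, hV2, hV3, hU, hV1, fun N hN h1 h2 => ?_⟩
  by_contra hcon
  simp only [not_or] at hcon
  exact hcon.1 (le_antisymm (hmax ⟨hN, hV2.trans h1, lt_of_le_of_ne h2 hcon.2⟩ h1) h1)

/-- An element of order prime to `p` centralises a normal `p`-subgroup if it centralises a normal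
subgroup of it and all chief factors above. -/
theorem commute_of_chiefFactors {x : G} (hx : (orderOf x).Coprime p) {R : Subgroup G}
    (hR : R.Normal) (hRc : ∀ r ∈ R, Commute x r) {A : Subgroup G} (hA : A.Normal)
    (hAp : IsPGroup p ↥A) (hRA : R ≤ A)
    (h : ∀ U V : Subgroup G, IsChiefFactor U V → R ≤ V → U ≤ A →
      ⁅U, Subgroup.zpowers x⁆ ≤ V) : ∀ a ∈ A, Commute x a := by
  induction A using WellFoundedLT.induction with
  | _ A ih =>
    rcases eq_or_lt_of_le hRA with rfl | hlt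
    · exact hRc
    obtain ⟨V, hRV, hUV⟩ := exists_chiefFactor_above hA hR hlt
    have hV := ih V hUV.1 hUV.2.2.1 (hAp.to_le hUV.1.le) hRV
      fun U W h1 h2 h3 => h U W h1 h2 (h3.trans hUV.1.le)
    intro a ha
    have hv : ⁅x, a⁆ ∈ V := h A V hUV hRV le_rfl (by
      rw [Subgroup.commutator_comm]
      exact Subgroup.commutator_mem_commutator (Subgroup.mem_zpowers x) ha)
    set v := ⁅x, a⁆ with hvdef
    have hxa : x * a * x⁻¹ = v * a := by simp [hvdef, commutatorElement_def]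
    have hxv : Commute x v := hV v hv
    have key : ∀ k : ℕ, x ^ k * a * (x ^ k)⁻¹ = v ^ k * a := by
      intro k
      induction k with
      | zero => simp
      | succ k ihk =>
        calc x ^ (k + 1) * a * (x ^ (k + 1))⁻¹ = x * (x ^ k * a * (x ^ k)⁻¹) * x⁻¹ := by
              simp [pow_succ', mul_assoc]
          _ = x * v ^ k * (a * x⁻¹) := by rw [ihk]; simp [mul_assoc]
          _ = v ^ k * (x * a * x⁻¹) := by rw [(hxv.pow_right k).eq]; simp [mul_assoc]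
          _ = _ := by rw [hxa, pow_succ, mul_assoc]
    have h1 : v ^ orderOf x = 1 := by
      have h2 := key (orderOf x)
      rw [pow_orderOf_eq_one, one_mul, inv_one, mul_one] at h2
      simpa using h2.symm
    obtain ⟨k, hk⟩ := hAp ⟨v, hUV.1.le hv⟩
    have hk' : v ^ p ^ k = 1 := congrArg Subtype.val hk
    have hv1 : v = 1 := orderOf_eq_one_iff.1 (Nat.eq_one_of_dvd_coprimes (hx.pow_right k)
      (orderOf_dvd_of_pow_eq_one h1) (orderOf_dvd_of_pow_eq_one hk'))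
    exact commutatorElement_eq_one_iff_mul_comm.1 hv1

omit hp in
/-- If the elements of order prime to `p` of `H` lie in `K`, every element of `H` has a `p`-power
power in `K`. -/
theorem exists_pow_mem_of_forall_coprime [Fact p.Prime] {H K : Subgroup G}
    (h : ∀ x ∈ H, (orderOf x).Coprime p → x ∈ K) {x : G} (hx : x ∈ H) :
    ∃ k : ℕ, x ^ p ^ k ∈ K := by
  set n := orderOf x with hn
  have hn0 : n ≠ 0 := (orderOf_pos x).ne'
  refine ⟨n.factorization p, h _ (H.pow_mem hx _) ?_⟩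
  rw [orderOf_pow_of_dvd (pow_ne_zero _ (Fact.out (p := p.Prime)).ne_zero) (Nat.ordProj_dvd n p)]
  exact (Nat.coprime_ordCompl (Fact.out (p := p.Prime)) hn0).symm

omit hp in
theorem isPGroup_of_forall_coprime [Fact p.Prime] {H : Subgroup G}
    (h : ∀ x ∈ H, (orderOf x).Coprime p → x = 1) : IsPGroup p ↥H := fun x => by
  obtain ⟨k, hk⟩ := exists_pow_mem_of_forall_coprime (K := ⊥)
    (fun y hy hy' => Subgroup.mem_bot.2 (h y hy hy')) x.2
  exact ⟨k, Subtype.ext (Subgroup.mem_bot.1 hk)⟩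

/-- A proper subgroup above `C` of `D` grows under normalisers when `D/C` is a `p`-group. -/
theorem lt_inf_nrm_of_quotient {C D X : Subgroup G} [C.Normal] (hCX : C ≤ X) (hlt : X < D)
    (hD : ∀ x ∈ D, ∃ k : ℕ, x ^ p ^ k ∈ C) : X < D ⊓ nrm X := by
  set f := QuotientGroup.mk' C with hf
  have hDp : IsPGroup p ↥(D.map f) := by
    rintro ⟨_, y, hy, rfl⟩
    obtain ⟨k, hk⟩ := hD y hy
    refine ⟨k, Subtype.ext ?_⟩
    show f y ^ p ^ k = 1
    rw [← map_pow]
    exact (QuotientGroup.eq_one_iff _).2 hk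
  have hX : (X.map f).comap f = X := by
    rw [Subgroup.comap_map_eq, hf, QuotientGroup.ker_mk', sup_of_le_left hCX]
  have hne : X.map f ≠ D.map f := by
    intro he
    refine hlt.not_ge fun d hd => ?_
    rw [← hX, Subgroup.mem_comap, he]
    exact Subgroup.mem_map_of_mem f hd
  obtain ⟨_, ⟨⟨y, hy, rfl⟩, hyn⟩, hyX⟩ :=
    SetLike.exists_of_lt (lt_inf_nrm hDp (Subgroup.map_mono hlt.le) hne)
  refine lt_of_le_of_ne (le_inf hlt.le Subgroup.le_normalizer) fun he => hyX ?_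
  refine Subgroup.mem_map_of_mem f (he.symm ▸ ⟨hy, mem_nrm_of_forall fun z hz => ?_⟩)
  rw [← hX, Subgroup.mem_comap, map_mul, map_mul, map_inv]
  exact conj_mem_of_nrm hyn (Subgroup.mem_map_of_mem f hz)

/-- Every subgroup containing all minimal `X`-invariant subgroups strictly between `V` and `U`
contains `U`. -/
def MinimalSpan (V U X : Subgroup G) : Prop :=
  ∀ M : Subgroup G, (∀ Y : Subgroup G,
    Minimal (fun Z : Subgroup G => V < Z ∧ Z ≤ U ∧ X ≤ nrm Z) Y → Y ≤ M) → U ≤ M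

omit hp in
theorem minimalSpan_top {U V : Subgroup G} (h : IsChiefFactor U V) : MinimalSpan V U ⊤ := by
  intro M hM
  refine hM U ⟨⟨h.1, le_rfl, ?_⟩, fun Y hY hYU => ?_⟩
  · haveI := h.2.1
    rw [nrm_eq_top]
  · rcases h.2.2.2 Y (Subgroup.normalizer_eq_top_iff.1 (top_le_iff.1 hY.2.2)) hY.1.le hY.2.1
      with h1 | h1
    · exact absurd h1 hY.1.ne'
    · exact h1.ge

omit hp in
theorem minimalSpan_descend {U V X L : Subgroup G} (hV : V.Normal) (hXL : X ≤ L)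
    (hL : L ≤ nrm X) (h : MinimalSpan V U L) : MinimalSpan V U X := by
  intro M hM
  refine h M fun Y hY => ?_
  have hXY : X ≤ nrm Y := hXL.trans hY.1.2.2
  obtain ⟨Y₀, hY₀⟩ := (Set.toFinite {Z : Subgroup G | V < Z ∧ Z ≤ Y ∧ X ≤ nrm Z}).exists_minimal
    ⟨Y, hY.1.1, le_rfl, hXY⟩
  let 𝒴 := {Z : Subgroup G |
    Minimal (fun W : Subgroup G => V < W ∧ W ≤ U ∧ X ≤ nrm W) Z ∧ Z ≤ Y}
  have hY₀' : Y₀ ∈ 𝒴 :=
    ⟨⟨⟨hY₀.1.1, hY₀.1.2.1.trans hY.1.2.1, hY₀.1.2.2⟩,
      fun W hW hWY => hY₀.2 ⟨hW.1, hWY.trans hY₀.1.2.1, hW.2.2⟩ hWY⟩, hY₀.1.2.1⟩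
  have hT : L ≤ nrm (sSup 𝒴) := by
    intro g hg
    refine mem_nrm_of_forall fun y hy => ?_
    suffices hle : sSup 𝒴 ≤ cnj g⁻¹ (sSup 𝒴) by
      have := mem_cnj.1 (hle hy)
      rwa [inv_inv] at this
    refine sSup_le fun Z hZ => ?_
    rw [← cnj_le_iff]
    haveI := hV
    have hgX : ∀ a, a ∈ L → cnj a X = X := fun a ha => mem_nrm_iff_cnj.1 (hL ha)
    have hmove : ∀ a, a ∈ L → ∀ W : Subgroup G, V < W ∧ W ≤ Y ∧ X ≤ nrm W →
        V < cnj a W ∧ cnj a W ≤ Y ∧ X ≤ nrm (cnj a W) := by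
      rintro a ha W ⟨h1, h2, h3⟩
      refine ⟨?_, ?_, ?_⟩
      · refine lt_of_le_of_ne ?_ fun he => h1.ne ?_
        · rw [← cnj_normal a V]; exact cnj_le_cnj.2 h1.le
        · exact cnj_inj.1 ((cnj_normal a V).trans he)
      · rw [← mem_nrm_iff_cnj.1 (hY.1.2.2 ha)]; exact cnj_le_cnj.2 h2
      · rw [← cnj_nrm, ← hgX a ha]; exact cnj_le_cnj.2 h3
    refine le_sSup ⟨⟨?_, fun W hW hWZ => ?_⟩, (hmove g hg Z ⟨hZ.1.1.1, hZ.2, hZ.1.1.2.2⟩).2.1⟩
    · obtain ⟨h1, h2, h3⟩ := hmove g hg Z ⟨hZ.1.1.1, hZ.2, hZ.1.1.2.2⟩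
      exact ⟨h1, h2.trans hY.1.2.1, h3⟩
    · have hWY : W ≤ Y := hWZ.trans (hmove g hg Z ⟨hZ.1.1.1, hZ.2, hZ.1.1.2.2⟩).2.1
      obtain ⟨h1, h2, h3⟩ := hmove g⁻¹ (L.inv_mem hg) W ⟨hW.1, hWY, hW.2.2⟩
      have h4 : cnj g⁻¹ W ≤ Z := by
        rw [cnj_le_iff, inv_inv]; exact hWZ
      exact cnj_le_iff.2 (hZ.1.2 ⟨h1, h2.trans hY.1.2.1, h3⟩ h4)
  have h1 : V < sSup 𝒴 := hY₀.1.1.trans_le (le_sSup hY₀')
  have h2 : sSup 𝒴 ≤ Y := sSup_le fun Z hZ => hZ.2
  exact (hY.2 ⟨h1, h2.trans hY.1.2.1, hT⟩ h2).trans (sSup_le fun Z hZ => hM Z hZ.1)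

/-- Minimal invariant subgroups span for subgroups between `C` and `D` when `D/C` is a `p`-group. -/
theorem minimalSpan_of_quotient {U V C D : Subgroup G} [C.Normal] [hDn : D.Normal]
    (h : IsChiefFactor U V) (hD : ∀ x ∈ D, ∃ k : ℕ, x ^ p ^ k ∈ C) {X : Subgroup G}
    (hCX : C ≤ X) (hXD : X ≤ D) : MinimalSpan V U X := by
  induction X using WellFoundedGT.induction with
  | _ X ih =>
    rcases eq_or_lt_of_le hXD with rfl | hlt
    · exact minimalSpan_descend h.2.2.1 le_top (nrm_eq_top X).ge (minimalSpan_top h)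
    · have hlt' := lt_inf_nrm_of_quotient hCX hlt hD
      exact minimalSpan_descend h.2.2.1 hlt'.le inf_le_right
        (ih _ hlt' (hCX.trans hlt'.le) inf_le_left)

end Cfsg.Agent.ConjFunctor
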