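import Cfsg.Agent.ConjFunctor.KInf
import Cfsg.Agent.ConjFunctor.Series
import Cfsg.Agent.Lib.Thompson.Cores

/-!
An element acting quadratically on a chief factor inside a critical subgroup when the `K`-infinity
subgroups of a Sylow subgroup are not normal.
-/

set_option autoImplicit false

open scoped commutatorElement

namespace Cfsg.Agent.ConjFunctor.KInfEngel

open Cfsg KInf

universe u

section Stab

variable {G : Type*} [Group G]

/-- The elements that centralise `U` modulo `V`. -/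
def facCent (U V : Subgroup G) [V.Normal] : Subgroup G :=
  (Subgroup.centralizer ((U.map (QuotientGroup.mk' V) : Subgroup (G ⧸ V)) : Set (G ⧸ V))).comap
    (QuotientGroup.mk' V)

theorem le_facCent {U V X : Subgroup G} [V.Normal] : X ≤ facCent U V ↔ ⁅X, U⁆ ≤ V := by
  rw [facCent, ← Subgroup.map_le_iff_le_comap, ← Subgroup.commutator_eq_bot_iff_le_centralizer,
    ← Subgroup.map_commutator, Subgroup.map_eq_bot_iff, QuotientGroup.ker_mk']

theorem mem_facCent {U V : Subgroup G} [V.Normal] {x : G} :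
    x ∈ facCent U V ↔ ∀ u ∈ U, ⁅x, u⁆ ∈ V := by
  rw [← Subgroup.zpowers_le, le_facCent, Subgroup.commutator_le]
  refine ⟨fun h u hu => h x (Subgroup.mem_zpowers x) u hu, fun h y hy u hu => ?_⟩
  have hle : Subgroup.zpowers x ≤ facCent U V := Subgroup.zpowers_le.2 <| by
    refine Subgroup.mem_comap.2 (Subgroup.mem_centralizer_iff.2 ?_)
    rintro _ ⟨w, hw, rfl⟩
    rw [← commutatorElement_eq_one_iff_mul_comm, ← map_commutatorElement, QuotientGroup.mk'_apply,
      QuotientGroup.eq_one_iff, ← commutatorElement_inv]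
    exact V.inv_mem (h w hw)
  exact le_facCent.1 hle (Subgroup.commutator_mem_commutator hy hu)

/-- The largest subgroup acting trivially on all members of a family of factors. -/
def stab (P : Subgroup G → Subgroup G → Prop) : Subgroup G :=
  sSup {X : Subgroup G | ∀ U V, P U V → ⁅U, X⁆ ≤ V}

theorem le_stab {P : Subgroup G → Subgroup G → Prop} {X : Subgroup G}
    (h : ∀ U V, P U V → ⁅U, X⁆ ≤ V) : X ≤ stab P :=
  le_sSup h

theorem stab_spec {P : Subgroup G → Subgroup G → Prop} {U V : Subgroup G} [V.Normal] (h : P U V) :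
    ⁅U, stab P⁆ ≤ V := by
  rw [Subgroup.commutator_comm, ← le_facCent]
  refine sSup_le fun X hX => ?_
  rw [le_facCent, Subgroup.commutator_comm]
  exact hX U V h

theorem stab_normal [Finite G] {P : Subgroup G → Subgroup G → Prop}
    (hP : ∀ U V, P U V → U.Normal ∧ V.Normal) : (stab P).Normal := by
  refine Subgroup.normalizer_eq_top_iff.1 (top_le_iff.1 fun g _ => mem_nrm_of_forall fun x hx => ?_)
  refine le_stab (X := cnj g (stab P)) (fun U V h => ?_) (conj_mem_cnj.2 hx)
  obtain ⟨hU, hV⟩ := hP U V h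
  rw [← cnj_normal g U, ← Subgroup.map_commutator, ← cnj_normal g V]
  exact Subgroup.map_mono (stab_spec h)

end Stab

variable {G : Type u} [Group G] [Finite G] {p : ℕ} [hp : Fact p.Prime]

/-- The properties of a critical subgroup of `O_p(G)` that are used. -/
structure Crit (p : ℕ) (A : Subgroup G) : Prop where
  le : A ≤ pCore p G
  normal : A.Normal
  classTwo : ⁅A, A⁆ ≤ Subgroup.centralizer (A : Set G)
  comm : ⁅pCore p G, A⁆ ≤ zc A
  faithful : ∀ φ : MulAut ↥(pCore p G), (orderOf φ).Coprime p →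
    (∀ a : ↥(pCore p G), (a : G) ∈ A → φ a = a) → φ = 1

/-- The element asked for. -/
def Good (p : ℕ) (S : Subgroup G) (A : Subgroup G) (g : G) : Prop :=
  g ∈ S ∧ g ∉ pCore p G ∧ iterCommutator A (Subgroup.zpowers g) 3 ≤ zc A ∧
    ⁅⁅zc A, Subgroup.zpowers g⁆, Subgroup.zpowers g⁆ = ⊥ ∧
    (Subgroup.centralizer ((pCore p G : Subgroup G) : Set G) ≤ pCore p G →
      ∃ U V : Subgroup G, IsChiefFactor U V ∧ U ≤ A ∧
        ⁅⁅U, Subgroup.zpowers g⁆, Subgroup.zpowers g⁆ ≤ V ∧ ¬ ⁅U, Subgroup.zpowers g⁆ ≤ V)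

variable {A : Subgroup G} (hA : Crit p A) {S : Subgroup G}
include hA

omit hp in
theorem Crit.zc_normal : (zc A).Normal := by
  haveI := hA.normal
  haveI : (Subgroup.centralizer (A : Set G)).Normal := Subgroup.normal_centralizer
  exact Subgroup.normal_inf_normal _ _

omit hp in
theorem Crit.commutator_mem {a a' : G} (ha : a ∈ A) (ha' : a' ∈ A) : ⁅a, a'⁆ ∈ zc A :=
  ⟨Subgroup.commutator_le_self A (Subgroup.commutator_mem_commutator ha ha'),
    hA.classTwo (Subgroup.commutator_mem_commutator ha ha')⟩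

theorem Crit.isPGroup : IsPGroup p ↥A := Thompson.isPGroup_pCore.to_le hA.le

theorem Crit.pCore_acts {U V : Subgroup G} (h : IsChiefFactor U V) (hU : U ≤ A) :
    ⁅U, pCore p G⁆ ≤ V :=
  ChiefFactor.commutator_le_of_normal_pgroup h (hA.isPGroup.to_le hU) Thompson.isPGroup_pCore

theorem Crit.not_mem_of_moves {U V : Subgroup G} (h : IsChiefFactor U V) (hU : U ≤ A) {g : G}
    (hg : ¬ ⁅U, Subgroup.zpowers g⁆ ≤ V) : g ∉ pCore p G := fun hgQ =>
  hg ((Subgroup.commutator_mono le_rfl (Subgroup.zpowers_le.2 hgQ)).trans (hA.pCore_acts h hU))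

theorem Crit.exists_factor
    (hC : Subgroup.centralizer ((pCore p G : Subgroup G) : Set G) ≤ pCore p G) {g : G}
    (hg : g ∉ pCore p G) : ∃ U V : Subgroup G, IsChiefFactor U V ∧ U ≤ A ∧
      (U ≤ zc A ∨ zc A ≤ V) ∧ ¬ ⁅U, Subgroup.zpowers g⁆ ≤ V := by
  by_contra hcon
  push Not at hcon
  let P : Subgroup G → Subgroup G → Prop :=
    fun U V => IsChiefFactor U V ∧ U ≤ A ∧ (U ≤ zc A ∨ zc A ≤ V)
  haveI : (stab P).Normal := stab_normal fun U V h => ⟨h.1.2.1, h.1.2.2.1⟩
  have hD : IsPGroup p ↥(stab P) := by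
    refine isPGroup_of_forall_coprime fun x hx hxc => ?_
    have hmove : ∀ U V, P U V → ⁅U, Subgroup.zpowers x⁆ ≤ V := fun U V h => by
      haveI := h.1.2.2.1
      exact (Subgroup.commutator_mono le_rfl (Subgroup.zpowers_le.2 hx)).trans (stab_spec h)
    have h1 := commute_of_chiefFactors hxc (R := ⊥) inferInstance
      (fun r hr => by rw [Subgroup.mem_bot.1 hr]; exact Commute.one_right x) hA.zc_normal
      (hA.isPGroup.to_le inf_le_left) bot_le
      fun U V h _ hU => hmove U V ⟨h, hU.trans inf_le_left, Or.inl hU⟩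
    have h2 := commute_of_chiefFactors hxc hA.zc_normal h1 hA.normal hA.isPGroup inf_le_left
      fun U V h hV hU => hmove U V ⟨h, hU, Or.inr hV⟩
    have hφ : (MulAut.conjNormal x : MulAut ↥(pCore p G)) = 1 := by
      refine hA.faithful _ (hxc.coprime_dvd_left (orderOf_map_dvd _ x)) fun a ha => Subtype.ext ?_
      rw [MulAut.conjNormal_apply, (h2 a ha).eq, mul_inv_cancel_right]
    have hxC : x ∈ Subgroup.centralizer ((pCore p G : Subgroup G) : Set G) := by
      refine Subgroup.mem_centralizer_iff.2 fun q hq => ?_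
      have := congrArg (fun φ : MulAut ↥(pCore p G) => ((φ ⟨q, hq⟩ : ↥(pCore p G)) : G)) hφ
      simp only [MulAut.conjNormal_apply, MulAut.one_apply] at this
      exact (mul_inv_eq_iff_eq_mul.1 this).symm
    obtain ⟨k, hk⟩ := (Thompson.isPGroup_pCore (p := p) (G := G)) ⟨x, hC hxC⟩
    exact orderOf_eq_one_iff.1 (Nat.eq_one_of_dvd_coprimes (hxc.pow_right k) dvd_rfl
      (orderOf_dvd_of_pow_eq_one (congrArg Subtype.val hk)))
  exact hg (Thompson.le_pCore inferInstance hD
    (Subgroup.zpowers_le.1 (le_stab (P := P) fun U V h => hcon U V h.1 h.2.1 h.2.2)))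

theorem good_mk {g : G} (hgS : g ∈ S) (hgQ : g ∉ pCore p G)
    (h3 : iterCommutator A (Subgroup.zpowers g) 3 ≤ zc A)
    (hz : ⁅⁅zc A, Subgroup.zpowers g⁆, Subgroup.zpowers g⁆ = ⊥)
    (hq : ∀ U V : Subgroup G, IsChiefFactor U V → U ≤ A → zc A ≤ V →
      ⁅⁅U, Subgroup.zpowers g⁆, Subgroup.zpowers g⁆ ≤ V) : Good p S A g := by
  refine ⟨hgS, hgQ, h3, hz, fun hC => ?_⟩
  obtain ⟨U, V, h, hU, hUV, hg⟩ := hA.exists_factor hC hgQ
  refine ⟨U, V, h, hU, ?_, hg⟩
  rcases hUV with h1 | h1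
  · exact ((Subgroup.commutator_mono (Subgroup.commutator_mono h1 le_rfl) le_rfl).trans hz.le).trans
      bot_le
  · exact hq U V h hU h1

theorem good_quad {g : G} (hgS : g ∈ S) (hgQ : g ∉ pCore p G)
    (h2 : ⁅⁅A, Subgroup.zpowers g⁆, Subgroup.zpowers g⁆ ≤ zc A)
    (hz : ⁅⁅zc A, Subgroup.zpowers g⁆, Subgroup.zpowers g⁆ = ⊥) : Good p S A g := by
  refine good_mk hA hgS hgQ ?_ hz fun U V _ hU hV =>
    ((Subgroup.commutator_mono (Subgroup.commutator_mono hU le_rfl) le_rfl).trans h2).trans hV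
  haveI := hA.zc_normal
  exact (Subgroup.commutator_mono (show iterCommutator A (Subgroup.zpowers g) 2 ≤ zc A from h2)
    le_rfl).trans (Subgroup.commutator_le_left (zc A) _)

/-- The critical subgroup outside a lower family gives the element. -/
theorem good_of_not_mem_lower {O : Subgroup G} (hO : O ≤ S) (h : A ∉ kLowerStarFamily O) :
    ∃ g, Good p S A g := by
  haveI := hA.normal
  have h' : ¬ ∀ B ∈ classTwoSubgroups G, B ≤ O → A ≤ Subgroup.normalizer (B : Set G) →
      ⁅A, ⁅B, B⁆⁆ = ⊥ → ⁅⁅zc A, B⁆, B⁆ = ⊥ → ⁅A, B⁆ ≤ zc A := fun hall =>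
    h ⟨hA.classTwo, (nrm_eq_top A).ge.trans' le_top, hall⟩
  push Not at h'
  obtain ⟨B, hB, hBO, hAB, h1, h2, h3⟩ := h'
  have hBQ : ¬ B ≤ pCore p G := fun hle => h3 <| by
    rw [Subgroup.commutator_comm]
    exact (Subgroup.commutator_mono hle le_rfl).trans hA.comm
  obtain ⟨g, hgB, hgQ⟩ := SetLike.not_le_iff_exists.1 hBQ
  have hg : Subgroup.zpowers g ≤ B := Subgroup.zpowers_le.2 hgB
  refine ⟨g, good_quad hA (hO (hBO hgB)) hgQ ?_ (le_bot_iff.1
    ((Subgroup.commutator_mono (Subgroup.commutator_mono le_rfl hg) hg).trans h2.le))⟩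
  refine (Subgroup.commutator_mono (Subgroup.commutator_mono le_rfl hg) hg).trans (le_inf ?_ ?_)
  · exact (Subgroup.commutator_mono (Subgroup.commutator_le_left A B) le_rfl).trans
      (Subgroup.commutator_le_left A B)
  · refine (Subgroup.commutator_mono ?_ le_rfl).trans ((show ⁅B, B⁆ ≤ _ from ?_))
    · rw [Subgroup.commutator_comm]
      exact Subgroup.le_normalizer_iff_commutator_le_left.1 hAB
    · rw [← Subgroup.commutator_eq_bot_iff_le_centralizer, Subgroup.commutator_comm]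
      exact h1

/-- A member of an upper family outside `O_p(G)` gives the element. -/
theorem good_of_upper {E B : Subgroup G} (hAE : A ≤ E) (hB : B ∈ kUpperStarFamily E) (hBS : B ≤ S)
    (hBQ : ¬ B ≤ pCore p G) : ∃ g, Good p S A g := by
  obtain ⟨g, hgB, hgQ⟩ := SetLike.not_le_iff_exists.1 hBQ
  have hg : Subgroup.zpowers g ≤ B := Subgroup.zpowers_le.2 hgB
  have h2 : ⁅⁅A, Subgroup.zpowers g⁆, Subgroup.zpowers g⁆ = ⊥ := by
    refine le_bot_iff.1 ((Subgroup.commutator_mono (Subgroup.commutator_mono hAE hg) hg).trans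
      (le_of_eq (Subgroup.commutator_eq_bot_iff_le_centralizer.2 ?_)))
    rw [Subgroup.commutator_comm]
    exact hB.2.trans inf_le_right
  exact ⟨g, good_quad hA (hBS hgB) hgQ (h2.le.trans bot_le) (le_bot_iff.1
    ((Subgroup.commutator_mono (Subgroup.commutator_mono inf_le_left le_rfl) le_rfl).trans h2.le))⟩

/-- The elements `a` of `A` with `[a, A]` centralised by `B`. -/
def centPart (B : Subgroup G) : Subgroup G where
  carrier := {a | a ∈ A ∧ ∀ a' ∈ A, ∀ b ∈ B, Commute ⁅a, a'⁆ b}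
  one_mem' := ⟨A.one_mem, fun a' _ b _ => by simp⟩
  mul_mem' := by
    rintro a c ⟨ha, ha'⟩ ⟨hc, hc'⟩
    refine ⟨A.mul_mem ha hc, fun a' h' b hb => ?_⟩
    have hz : Commute a ⁅c, a'⁆ := Subgroup.mem_centralizer_iff.1 (hA.commutator_mem hc h').2 a ha
    rw [commutatorElement_mul_left_eq_conj_mul, hz.eq, mul_inv_cancel_right]
    exact (hc' a' h' b hb).mul_left (ha' a' h' b hb)
  inv_mem' := by
    rintro a ⟨ha, ha'⟩
    refine ⟨A.inv_mem ha, fun a' h' b hb => ?_⟩
    have hz : Commute a⁻¹ ⁅a, a'⁆ :=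
      (show Commute a ⁅a, a'⁆ from
        Subgroup.mem_centralizer_iff.1 (hA.commutator_mem ha h').2 a ha).inv_left
    have e : ⁅a⁻¹, a'⁆ = ⁅a, a'⁆⁻¹ := by
      have h1 : ⁅a⁻¹ * a, a'⁆ = 1 := by simp
      rw [commutatorElement_mul_left_eq_conj_mul, hz.eq, mul_inv_cancel_right] at h1
      exact eq_inv_of_mul_eq_one_right h1
    rw [e]
    exact (ha' a' h' b hb).inv_left

/-- A member of a lower family outside `O_p(G)` gives the element. -/
theorem good_of_lower {O B : Subgroup G} (hAO : A ≤ O) (hB : B ∈ kLowerStarFamily O) (hBS : B ≤ S)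
    (hBQ : ¬ B ≤ pCore p G) : ∃ g, Good p S A g := by
  haveI := hA.normal
  haveI := hA.zc_normal
  have hAB : A ≤ nrm B := hAO.trans hB.2.1
  have hABle : ⁅A, B⁆ ≤ B := by
    rw [Subgroup.commutator_comm]
    exact Subgroup.le_normalizer_iff_commutator_le_left.1 hAB
  by_cases hzQ : zc B ≤ pCore p G
  swap
  · obtain ⟨g, hgB, hgQ⟩ := SetLike.not_le_iff_exists.1 hzQ
    have hg : Subgroup.zpowers g ≤ B := Subgroup.zpowers_le.2 hgB.1
    have h2 : ⁅⁅A, Subgroup.zpowers g⁆, Subgroup.zpowers g⁆ = ⊥ := by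
      refine le_bot_iff.1 ((Subgroup.commutator_mono
        ((Subgroup.commutator_mono le_rfl hg).trans hABle) le_rfl).trans (le_of_eq ?_))
      rw [Subgroup.commutator_comm]
      exact Subgroup.commutator_eq_bot_iff_le_centralizer.2 (Subgroup.zpowers_le.2 hgB.2)
    exact ⟨g, good_quad hA (hBS hgB.1) hgQ (h2.le.trans bot_le) (le_bot_iff.1
      ((Subgroup.commutator_mono (Subgroup.commutator_mono inf_le_left le_rfl) le_rfl).trans h2.le))⟩
  have hZZ : ⁅zc A, zc A⁆ = ⊥ := Subgroup.commutator_eq_bot_iff_le_centralizer.2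
    (inf_le_right.trans (Subgroup.centralizer_le (SetLike.coe_subset_coe.2 inf_le_left)))
  have hzA : ⁅B, zc A⁆ ≤ zc B := by
    refine hB.2.2 (zc A) (hZZ.le.trans bot_le) (inf_le_left.trans hAO) ?_
      (by rw [hZZ, Subgroup.commutator_bot_right]) (le_bot_iff.1 ?_)
    · show B ≤ nrm (zc A)
      rw [nrm_eq_top]; exact le_top
    · exact (Subgroup.commutator_mono
        ((Subgroup.commutator_mono hzQ inf_le_left).trans hA.comm) le_rfl).trans hZZ.le
  have hzB : ⁅zc B, B⁆ = ⊥ := by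
    rw [Subgroup.commutator_comm]
    exact Subgroup.commutator_eq_bot_iff_le_centralizer.2
      (Subgroup.le_centralizer_iff.1 inf_le_right)
  have hzAB : ⁅⁅zc A, B⁆, B⁆ = ⊥ := le_bot_iff.1
    ((Subgroup.commutator_mono (by rw [Subgroup.commutator_comm]; exact hzA) le_rfl).trans hzB.le)
  have h3 : iterCommutator A B 3 = ⊥ := le_bot_iff.1
    ((Subgroup.commutator_mono (Subgroup.commutator_mono hABle le_rfl) le_rfl).trans
      (Subgroup.commutator_eq_bot_iff_le_centralizer.2 hB.1).le)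
  have hgood3 : ∀ g ∈ B, iterCommutator A (Subgroup.zpowers g) 3 ≤ zc A ∧
      ⁅⁅zc A, Subgroup.zpowers g⁆, Subgroup.zpowers g⁆ = ⊥ := fun g hg =>
    ⟨((iterCommutator_mono le_rfl (Subgroup.zpowers_le.2 hg) 3).trans h3.le).trans bot_le,
      le_bot_iff.1 ((Subgroup.commutator_mono (Subgroup.commutator_mono le_rfl
        (Subgroup.zpowers_le.2 hg)) (Subgroup.zpowers_le.2 hg)).trans hzAB.le)⟩
  let P : Subgroup G → Subgroup G → Prop := fun U V => IsChiefFactor U V ∧ U ≤ zc A
  by_cases hmove : ∀ U V, P U V → ⁅U, B⁆ ≤ V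
  swap
  · push Not at hmove
    obtain ⟨U, V, hP, hne⟩ := hmove
    haveI := hP.1.2.2.1
    obtain ⟨b, hb, hbne⟩ : ∃ b ∈ B, ¬ ⁅U, Subgroup.zpowers b⁆ ≤ V := by
      by_contra hall
      push Not at hall
      exact hne (Subgroup.commutator_le.2 fun u hu b hb =>
        hall b hb (Subgroup.commutator_mem_commutator hu (Subgroup.mem_zpowers b)))
    refine ⟨b, hBS hb, hA.not_mem_of_moves hP.1 (hP.2.trans inf_le_left) hbne, (hgood3 b hb).1,
      (hgood3 b hb).2, fun _ => ⟨U, V, hP.1, hP.2.trans inf_le_left, ?_, hbne⟩⟩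
    exact ((Subgroup.commutator_mono (Subgroup.commutator_mono hP.2 le_rfl) le_rfl).trans
      (hgood3 b hb).2.le).trans bot_le
  obtain ⟨g, hgB, hgQ⟩ := SetLike.not_le_iff_exists.1 hBQ
  refine ⟨g, good_mk hA (hBS hgB) hgQ (hgood3 g hgB).1 (hgood3 g hgB).2 fun U V h hU hV => ?_⟩
  haveI := h.2.1
  haveI := h.2.2.1
  haveI : (stab P).Normal := stab_normal fun U V h => ⟨h.1.2.1, h.1.2.2.1⟩
  set C0 := Subgroup.centralizer ((zc A : Subgroup G) : Set G) with hC0
  haveI : C0.Normal := Subgroup.normal_centralizer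
  have hD : ∀ x ∈ stab P, ∃ k : ℕ, x ^ p ^ k ∈ C0 := fun x hx => by
    refine exists_pow_mem_of_forall_coprime (fun y hy hyc => ?_) hx
    refine Subgroup.mem_centralizer_iff.2 fun z hz => ?_
    refine (commute_of_chiefFactors hyc (R := ⊥) inferInstance
      (fun r hr => by rw [Subgroup.mem_bot.1 hr]; exact Commute.one_right y) hA.zc_normal
      (hA.isPGroup.to_le inf_le_left) bot_le (fun U V h _ hU => ?_) z hz).eq.symm
    haveI := h.2.2.1
    exact (Subgroup.commutator_mono le_rfl (Subgroup.zpowers_le.2 hy)).trans (stab_spec ⟨h, hU⟩)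
  set X := C0 ⊔ B with hX
  have hXD : X ≤ stab P := by
    refine sup_le (le_stab fun U V h => ?_) (le_stab hmove)
    refine le_of_eq_of_le ?_ bot_le
    exact Subgroup.commutator_eq_bot_iff_le_centralizer.2
      (Subgroup.le_centralizer_iff.1 (Subgroup.centralizer_le (SetLike.coe_subset_coe.2 h.2)))
  set W := centPart hA B with hW
  have hXW : X ≤ nrm W := by
    intro x hx
    refine mem_nrm_of_forall fun a ha => ⟨hA.normal.conj_mem _ ha.1 x, fun a' ha' b hb => ?_⟩
    have hfix : ∀ c ∈ A, Commute x ⁅a, c⁆ := fun c hc => by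
      have hle : X ≤ Subgroup.centralizer {⁅a, c⁆} := by
        refine sup_le (Subgroup.centralizer_le ?_) fun b' hb' =>
          Subgroup.mem_centralizer_singleton_iff.2 (ha.2 c hc b' hb').symm.eq
        exact Set.singleton_subset_iff.2 (hA.commutator_mem ha.1 hc)
      exact Subgroup.mem_centralizer_singleton_iff.1 (hle hx)
    have hc : x⁻¹ * a' * x ∈ A := hA.normal.conj_mem' _ ha' x
    have e : ⁅x * a * x⁻¹, a'⁆ = x * ⁅a, x⁻¹ * a' * x⁆ * x⁻¹ := by
      simp [commutatorElement_def, mul_assoc]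
    rw [e, (hfix _ hc).eq, mul_inv_cancel_right]
    exact ha.2 _ hc b hb
  have hBX : B ≤ X := le_sup_right
  have hWA : W ≤ A := fun a ha => ha.1
  have hWB : ⁅B, W⁆ ≤ zc B := by
    refine hB.2.2 W ?_ (hWA.trans hAO) (hBX.trans hXW) ?_ (le_bot_iff.1 ?_)
    · refine (Subgroup.commutator_mono hWA hWA).trans
        (hA.classTwo.trans (Subgroup.centralizer_le (SetLike.coe_subset_coe.2 hWA)))
    · refine Subgroup.commutator_eq_bot_iff_le_centralizer.2 (Subgroup.le_centralizer_iff.1 ?_)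
      rw [Subgroup.commutator_le]
      exact fun a ha a' ha' => Subgroup.mem_centralizer_iff.2 fun b hb => (ha.2 a' ha'.1 b hb).symm
    · refine ((Subgroup.commutator_mono ((Subgroup.commutator_mono hzQ hWA).trans
        hA.comm) hWA).trans ?_)
      exact (Subgroup.commutator_eq_bot_iff_le_centralizer.2 inf_le_right).le
  have hW2 : ∀ a ∈ W, ∀ b ∈ B, ∀ c ∈ B, ⁅⁅a, b⁆, c⁆ = 1 := fun a ha b hb c hc => by
    refine Subgroup.mem_bot.1 (hzB ▸ Subgroup.commutator_mem_commutator ?_ hc)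
    exact (Subgroup.commutator_comm B W ▸ hWB) (Subgroup.commutator_mem_commutator ha hb)
  have hAW : ∀ a ∈ A, ∀ b ∈ B, ∀ c ∈ B, ⁅⁅a, b⁆, c⁆ ∈ W := fun a ha b hb c hc => by
    have hab : ⁅a, b⁆ ∈ A := Subgroup.commutator_le_left A B (Subgroup.commutator_mem_commutator ha hb)
    have habB : ⁅a, b⁆ ∈ B := hABle (Subgroup.commutator_mem_commutator ha hb)
    refine ⟨Subgroup.commutator_le_left A B (Subgroup.commutator_mem_commutator hab hc),
      fun a' ha' d hd => ?_⟩
    set w := ⁅⁅a, b⁆, c⁆ with hw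
    have hwA : w ∈ A := Subgroup.commutator_le_left A B (Subgroup.commutator_mem_commutator hab hc)
    have hwB : ∀ e ∈ B, Commute e w :=
      Subgroup.mem_centralizer_iff.1 (hB.1 (Subgroup.commutator_mem_commutator habB hc))
    have he : ⁅d, a'⁆ ∈ B := by
      have := hABle (Subgroup.commutator_mem_commutator ha' hd)
      rw [← commutatorElement_inv]; exact B.inv_mem this
    have heA : ⁅d, a'⁆ ∈ A := by
      rw [← commutatorElement_inv]
      exact A.inv_mem (Subgroup.commutator_le_left A B (Subgroup.commutator_mem_commutator ha' hd))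
    have h1 : ⁅w, ⁅d, a'⁆⁆ = 1 := commutatorElement_eq_one_iff_mul_comm.2 (hwB _ he).symm.eq
    have h2 : Commute ⁅d, a'⁆ ⁅w, a'⁆ :=
      Subgroup.mem_centralizer_iff.1 (hA.commutator_mem hwA ha').2 _ heA
    have h3 : d * ⁅w, a'⁆ * d⁻¹ = ⁅w, a'⁆ := by
      rw [conjugate_commutatorElement, (hwB d hd).eq, mul_inv_cancel_right,
        show d * a' * d⁻¹ = ⁅d, a'⁆ * a' by simp [commutatorElement_def],
        commutatorElement_mul_right_eq_mul_conj, h1, one_mul, h2.eq, mul_inv_cancel_right]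
    exact (mul_inv_eq_iff_eq_mul.1 h3).symm
  have hUU := ChiefFactor.commutator_le (p := p) h (hA.isPGroup.to_le hU)
  set K := facCent B V with hK
  have hVK : V ≤ K := le_facCent.2 (Subgroup.commutator_le_left V B)
  have hconj : ∀ y ∈ U, ∀ w ∈ U, w ∈ K → y * w * y⁻¹ ∈ K := fun y hy w hw hwK => by
    rw [show y * w * y⁻¹ = ⁅y, w⁆ * w by simp [commutatorElement_def]]
    exact K.mul_mem (hVK (hUU (Subgroup.commutator_mem_commutator hy hw))) hwK
  have hUB : ∀ u ∈ U, ∀ b : G, ⁅u, b⁆ ∈ U := fun u hu b =>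
    Subgroup.commutator_le_left U ⊤ (Subgroup.commutator_mem_commutator hu (Subgroup.mem_top b))
  let M : Subgroup G :=
    { carrier := {y | y ∈ U ∧ ∀ b ∈ B, ⁅y, b⁆ ∈ K}
      one_mem' := ⟨U.one_mem, fun b _ => by simp⟩
      mul_mem' := by
        rintro y z ⟨hy, hy'⟩ ⟨hz, hz'⟩
        refine ⟨U.mul_mem hy hz, fun b hb => ?_⟩
        rw [commutatorElement_mul_left_eq_conj_mul]
        exact K.mul_mem (hconj y hy _ (hUB z hz b) (hz' b hb)) (hy' b hb)
      inv_mem' := by
        rintro y ⟨hy, hy'⟩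
        refine ⟨U.inv_mem hy, fun b hb => ?_⟩
        rw [show ⁅y⁻¹, b⁆ = y⁻¹ * ⁅y, b⁆⁻¹ * y⁻¹⁻¹ by simp [commutatorElement_def, mul_assoc]]
        exact hconj _ (U.inv_mem hy) _ (U.inv_mem (hUB y hy b)) (K.inv_mem (hy' b hb)) }
  have hM : U ≤ M := by
    refine minimalSpan_of_quotient h hD (X := X) le_sup_left hXD M fun Y hY y hy => ?_
    refine ⟨hY.1.2.1 hy, fun b hb => mem_facCent.2 fun c hc => ?_⟩
    have hBY : B ≤ nrm Y := hBX.trans hY.1.2.2
    have hYc : ∀ z ∈ Y, ∀ e ∈ B, ⁅z, e⁆ ∈ Y := fun z hz e he =>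
      Subgroup.le_normalizer_iff_commutator_le_left.1 hBY (Subgroup.commutator_mem_commutator hz he)
    set w := ⁅⁅y, b⁆, c⁆ with hw
    have hwY : w ∈ Y := hYc _ (hYc y hy b hb) c hc
    set W0 := W ⊓ U ⊔ V with hW0
    have hwW0 : w ∈ W0 :=
      Subgroup.mem_sup_left ⟨hAW y (hU (hY.1.2.1 hy)) b hb c hc, hY.1.2.1 hwY⟩
    rcases eq_or_lt_of_le (le_inf hY.1.1.le le_sup_right : V ≤ Y ⊓ W0) with he | hlt
    · exact he.symm ▸ (⟨hwY, hwW0⟩ : w ∈ Y ⊓ W0)
    · have hinv : X ≤ nrm (Y ⊓ W0) := by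
        intro x hx
        refine mem_nrm_of_forall fun z hz => ⟨conj_mem_of_nrm (hY.1.2.2 hx) hz.1, ?_⟩
        obtain ⟨a, ha, v, hv, rfl⟩ := Subgroup.mem_sup_of_normal_right.1 hz.2
        rw [show x * (a * v) * x⁻¹ = x * a * x⁻¹ * (x * v * x⁻¹) by simp [mul_assoc]]
        exact Subgroup.mul_mem_sup
          ⟨conj_mem_of_nrm (hXW hx) ha.1, h.2.1.conj_mem _ ha.2 x⟩ (h.2.2.1.conj_mem _ hv x)
      have hYW : Y ≤ W0 :=
        (hY.2 ⟨hlt, inf_le_left.trans hY.1.2.1, hinv⟩ inf_le_left).trans inf_le_right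
      obtain ⟨a, ha, v, hv, rfl⟩ := Subgroup.mem_sup_of_normal_right.1 (hYW hy)
      rw [hw, ← QuotientGroup.eq_one_iff (N := V), ← QuotientGroup.mk'_apply, map_commutatorElement,
        map_commutatorElement, map_mul,
        show QuotientGroup.mk' V v = 1 from (QuotientGroup.eq_one_iff v).2 hv, mul_one,
        ← map_commutatorElement, ← map_commutatorElement, hW2 a ha.1 b hb c hc, map_one]
  have hg : Subgroup.zpowers g ≤ B := Subgroup.zpowers_le.2 hgB
  exact (Subgroup.commutator_mono (Subgroup.commutator_le.2 fun u hu b hb => (hM hu).2 b (hg hb))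
    hg).trans (le_facCent.1 le_rfl)

/-- The element exists if one of the `K`-infinity subgroups of a Sylow subgroup is not normal. -/
theorem exists_good (T : Sylow p G)
    (hK : ¬ (inducedFunctor kInfLower (T : Subgroup G)).Normal ∨
      ¬ (inducedFunctor kInfUpper (T : Subgroup G)).Normal) :
    ∃ g, Good p (T : Subgroup G) A g := by
  haveI := hA.normal
  set S := (T : Subgroup G) with hS
  have hf : Function.Injective S.subtype := S.subtype_injective
  have hQS : pCore p G ≤ S := Thompson.pCore_le_sylow T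
  have hAS : A ≤ S := hA.le.trans hQS
  have hmapA : (A.subgroupOf S).map S.subtype = A := Subgroup.map_subgroupOf_eq_of_le hAS
  by_contra hno
  have hlow : ∀ n, A.subgroupOf S ∈ kLowerStarFamily (kSeqOdd ↥S n) := fun n => by
    by_contra hn
    rw [← map_mem_lower S.subtype hf, hmapA] at hn
    exact hno (good_of_not_mem_lower hA (Subgroup.map_subtype_le _) hn)
  have heven : ∀ n, A.subgroupOf S ≤ kSeqOdd ↥S n →
      kSeqEven ↥S n ≤ (pCore p G).subgroupOf S := fun n hn => by
    refine sSup_le fun B hB => ?_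
    rw [Subgroup.subgroupOf, ← Subgroup.map_le_iff_le_comap]
    by_contra hBQ
    refine hno (good_of_lower hA ?_ ((map_mem_lower S.subtype hf).2 hB) (Subgroup.map_subtype_le _) hBQ)
    rw [← hmapA]
    exact Subgroup.map_mono hn
  have hodd : ∀ n, A.subgroupOf S ≤ kSeqOdd ↥S n := by
    intro n
    induction n with
    | zero => exact le_top
    | succ n ih =>
      refine le_sSup ?_
      rw [← map_mem_upper S.subtype hf, hmapA]
      refine ⟨hA.classTwo, ?_⟩
      rw [Subgroup.commutator_comm]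
      refine (Subgroup.commutator_mono ?_ le_rfl).trans hA.comm
      rw [Subgroup.map_le_iff_le_comap]
      exact heven n ih
  have hall : ∀ n, kSeqEven ↥S n ≤ (Subgroup.inclusion hQS).range ∧
      kSeqOdd ↥S (n + 1) ≤ (Subgroup.inclusion hQS).range := fun n => by
    rw [Subgroup.inclusion_range]
    refine ⟨heven n (hodd n), sSup_le fun B hB => ?_⟩
    rw [Subgroup.subgroupOf, ← Subgroup.map_le_iff_le_comap]
    by_contra hBQ
    refine hno (good_of_upper hA ?_ ((map_mem_upper S.subtype hf).2 hB) (Subgroup.map_subtype_le _) hBQ)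
    rw [← hmapA]
    exact Subgroup.map_mono (le_sSup (hlow n))
  obtain ⟨h1, h2⟩ := map_kInf (Subgroup.inclusion hQS) (Subgroup.inclusion_injective hQS) hall
  have hnormal : ∀ W : ∀ (X : Type u) [Group X], Subgroup X, IsCharPFunctor.{u} p W →
      (W ↥(pCore p G)).map (Subgroup.inclusion hQS) = W ↥S → (inducedFunctor W S).Normal := by
    intro W hW he
    have : inducedFunctor W S = inducedFunctor W (pCore p G) := by
      show (W ↥S).map S.subtype = (W ↥(pCore p G)).map (pCore p G).subtype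
      rw [← he, Subgroup.map_map]
      rfl
    rw [this]
    refine Subgroup.normalizer_eq_top_iff.1 (top_le_iff.1 ?_)
    exact (nrm_eq_top (pCore p G)).ge.trans
      (nrm_le_nrm_functor (isConjugacyFunctor_inducedFunctor hW) Thompson.isPGroup_pCore)
  rcases hK with h | h
  · exact h (hnormal _ (KInf.isCharPFunctor p).1 h1)
  · exact h (hnormal _ (KInf.isCharPFunctor p).2 h2)

end Cfsg.Agent.ConjFunctor.KInfEngel
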