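import Cfsg.Agent.ConjFunctor.ChiefFactor
import Cfsg.Agent.Lib.PGroup.Basic

/-!
Products over the cosets of a subgroup when a `p`-group generated by elements with vanishing norm
acts with a single fixed point.
-/

set_option autoImplicit false

namespace Cfsg.Agent.ConjFunctor

variable {G : Type*} [Group G] {p : ℕ}

/-- Conjugation invariance of the elements of bounded degree on chief factors below a normal
subgroup. -/
def EngelBelow (Q : Subgroup G) (n : ℕ) (u : G) : Prop :=
  ∀ U V : Subgroup G, IsChiefFactor U V → U ≤ Q → iterCommutator U (Subgroup.zpowers u) n ≤ V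

theorem EngelBelow.conj {Q : Subgroup G} {n : ℕ} {u : G} (h : EngelBelow Q n u) (g : G) :
    EngelBelow Q n (g * u * g⁻¹) := by
  intro U V hUV hUQ
  haveI := hUV.2.1
  haveI := hUV.2.2.1
  have h1 := Subgroup.map_mono (f := (MulAut.conj g).toMonoidHom) (h U V hUV hUQ)
  rw [map_iterCommutator, MonoidHom.map_zpowers] at h1
  change iterCommutator (cnj g U) (Subgroup.zpowers (g * u * g⁻¹)) n ≤ cnj g V at h1
  rwa [cnj_normal, cnj_normal] at h1

theorem EngelBelow.inv {Q : Subgroup G} {n : ℕ} {u : G} (h : EngelBelow Q n u) :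
    EngelBelow Q n u⁻¹ := by
  intro U V hUV hUQ
  rw [Subgroup.zpowers_inv]
  exact h U V hUV hUQ

theorem prod_eq_of_orbits [Finite G] [hp : Fact p.Prime] {Ω B : Type*} [MulAction G Ω] [Fintype Ω]
    [CommGroup B] {X V D : Subgroup G} (hD : IsPGroup p ↥D) (𝒰 : Set G)
    (hgen : Subgroup.closure 𝒰 = D) (hXn : D ≤ nrm X) (hVn : D ≤ nrm V) {z : G} (hz : z ∈ X)
    (θ : Ω → G → B) (hθmul : ∀ q, ∀ a ∈ X, ∀ b ∈ X, θ q (a * b) = θ q a * θ q b)
    (hθV : ∀ q, ∀ v ∈ V, θ q v = 1) (F : Ω → B)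
    (hF : ∀ q, ∀ d ∈ D, F (d • q) = θ q (d⁻¹ * z * d))
    (hu : ∀ u ∈ 𝒰, ∀ y ∈ X, ((List.range p).map fun i => (u ^ i)⁻¹ * y * u ^ i).prod ∈ V)
    (q₀ : Ω) (hfix₀ : ∀ d ∈ D, d • q₀ = q₀) (huniq : ∀ q, (∀ d ∈ D, d • q = q) → q = q₀) :
    ∏ q, F q = F q₀ := by
  classical
  suffices key : ∀ (k : ℕ) (s : Finset Ω), s.card ≤ k → (∀ d ∈ D, ∀ q ∈ s, d • q ∈ s) →
      q₀ ∉ s → ∏ q ∈ s, F q = 1 by
    rw [← Finset.mul_prod_erase Finset.univ F (Finset.mem_univ q₀),
      key _ _ le_rfl (fun d hd q hq => ?_) (Finset.notMem_erase _ _), mul_one]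
    refine Finset.mem_erase.2 ⟨fun he => ?_, Finset.mem_univ _⟩
    have : q = q₀ := by
      have h1 := congrArg (fun x => d⁻¹ • x) he
      simp only [inv_smul_smul] at h1
      rw [h1, hfix₀ _ (D.inv_mem hd)]
    exact (Finset.mem_erase.1 hq).1 this
  intro k
  induction k with
  | zero =>
    intro s hs _ _
    rw [Finset.card_eq_zero.1 (Nat.le_zero.1 hs), Finset.prod_empty]
  | succ k ih =>
    intro s hs hinv hq₀
    rcases s.eq_empty_or_nonempty with rfl | ⟨q, hq⟩
    · exact Finset.prod_empty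
    -- a subgroup of index `p` over the stabiliser
    have hst : (MulAction.stabilizer G q).subgroupOf D ≠ ⊤ := by
      rw [Ne, Subgroup.subgroupOf_eq_top]
      intro h
      exact hq₀ (huniq q (fun d hd => MulAction.mem_stabilizer_iff.1 (h hd)) ▸ hq)
    obtain ⟨D₀, hle, hn, hidx⟩ := PGroup.exists_le_index_eq_prime hD hst
    obtain ⟨u, hu𝒰, huD, hu₀⟩ : ∃ u ∈ 𝒰, ∃ h : u ∈ D, (⟨u, h⟩ : ↥D) ∉ D₀ := by
      by_contra hcon
      simp only [not_exists, not_and, not_not] at hcon
      have : D ≤ D₀.map D.subtype := by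
        conv_lhs => rw [← hgen]
        exact (Subgroup.closure_le _).2 fun u hu =>
          ⟨⟨u, hgen ▸ Subgroup.subset_closure hu⟩, hcon u hu _, rfl⟩
      have htop : D₀ = ⊤ := top_le_iff.1 fun x _ => by
        obtain ⟨y, hy, he⟩ := this x.2
        rwa [← Subtype.ext he]
      rw [htop, Subgroup.index_top] at hidx
      exact hp.out.ne_one hidx.symm
    set ū : ↥D ⧸ D₀ := QuotientGroup.mk ⟨u, huD⟩ with hū
    have hcard : Nat.card (↥D ⧸ D₀) = p := by rwa [← Subgroup.index_eq_card]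
    have hord : orderOf ū = p := by
      refine ((Nat.dvd_prime hp.out).1 (hcard ▸ orderOf_dvd_natCard ū)).resolve_left fun h1 => ?_
      exact hu₀ ((QuotientGroup.eq_one_iff _).1 (orderOf_eq_one_iff.1 h1))
    -- cosets of `D₀` are represented by the powers of `u`
    have hrep : ∀ d : ↥D, ∃ i < p, ((⟨u, huD⟩ : ↥D) ^ i)⁻¹ * d ∈ D₀ := by
      intro d
      have hmem : (QuotientGroup.mk d : ↥D ⧸ D₀) ∈ Subgroup.zpowers ū := by
        rw [zpowers_eq_top_of_prime_card hcard
          (fun h => hu₀ ((QuotientGroup.eq_one_iff _).1 h))]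
        exact Subgroup.mem_top _
      rw [mem_zpowers_iff_mem_range_orderOf, Finset.mem_image] at hmem
      obtain ⟨i, hi, he⟩ := hmem
      exact ⟨i, hord ▸ Finset.mem_range.1 hi, QuotientGroup.eq.1 he⟩
    set O₀ : Finset Ω := Finset.univ.filter fun w => ∃ b ∈ D₀, (b : G) • q = w with hO₀
    set O : Finset Ω := (Finset.range p ×ˢ O₀).image fun x => u ^ x.1 • x.2 with hO
    have hinj : Set.InjOn (fun x : ℕ × Ω => u ^ x.1 • x.2) (Finset.range p ×ˢ O₀ : Finset _) := by
      rintro ⟨i, w⟩ hiw ⟨j, w'⟩ hjw he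
      simp only [hO₀, Finset.coe_product, Set.mem_prod, Finset.mem_coe, Finset.mem_range,
        Finset.mem_filter, Finset.mem_univ, true_and] at hiw hjw
      obtain ⟨hi, b, hb, rfl⟩ := hiw
      obtain ⟨hj, b', hb', rfl⟩ := hjw
      simp only [smul_smul] at he
      have h1 : (u ^ j * b')⁻¹ * (u ^ i * b) ∈ MulAction.stabilizer G q := by
        rw [MulAction.mem_stabilizer_iff, mul_smul, he, inv_smul_smul]
      have h2 : ((⟨u, huD⟩ : ↥D) ^ j * b')⁻¹ * ((⟨u, huD⟩ : ↥D) ^ i * b) ∈ D₀ :=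
        hle (Subgroup.mem_subgroupOf.2 (by simpa using h1))
      have h3 := (QuotientGroup.eq.2 h2 : (QuotientGroup.mk _ : ↥D ⧸ D₀) = _)
      rw [QuotientGroup.mk_mul, QuotientGroup.mk_mul, (QuotientGroup.eq_one_iff b).2 hb,
        (QuotientGroup.eq_one_iff b').2 hb', mul_one, mul_one, QuotientGroup.mk_pow,
        QuotientGroup.mk_pow] at h3
      have hij : j = i := pow_injOn_Iio_orderOf (x := ū) (by simpa [hord] using hj)
        (by simpa [hord] using hi) h3
      subst hij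
      simp only [mul_smul] at he
      exact Prod.ext rfl (smul_left_cancel _ he)
    have hOs : O ⊆ s := by
      intro w hw
      simp only [hO, hO₀, Finset.mem_image, Finset.mem_product, Finset.mem_range,
        Finset.mem_filter, Finset.mem_univ, true_and] at hw
      obtain ⟨⟨i, w'⟩, ⟨-, b, -, rfl⟩, rfl⟩ := hw
      exact hinv _ (D.pow_mem huD i) _ (hinv _ b.2 _ hq)
    have hOinv : ∀ d ∈ D, ∀ w ∈ O, d • w ∈ O := by
      intro d hd w hw
      simp only [hO, hO₀, Finset.mem_image, Finset.mem_product, Finset.mem_range,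
        Finset.mem_filter, Finset.mem_univ, true_and] at hw ⊢
      obtain ⟨⟨i, w'⟩, ⟨-, b, hb, rfl⟩, rfl⟩ := hw
      obtain ⟨j, hj, hmem⟩ := hrep (⟨d, hd⟩ * ⟨u, huD⟩ ^ i * b)
      refine ⟨⟨j, _⟩, ⟨hj, _, hmem, rfl⟩, ?_⟩
      simp only [smul_smul, Subgroup.coe_mul, InvMemClass.coe_inv, SubgroupClass.coe_pow,
        mul_inv_cancel_left, mul_assoc]
    have hθ1 : θ q 1 = 1 := hθV q 1 V.one_mem
    have hsum : ∏ w ∈ O, F w = 1 := by
      rw [hO, Finset.prod_image hinj, Finset.prod_product_right]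
      refine Finset.prod_eq_one fun w hw => ?_
      simp only [hO₀, Finset.mem_filter, Finset.mem_univ, true_and] at hw
      obtain ⟨b, hb, rfl⟩ := hw
      have hterm : ∀ i : ℕ, (u ^ i)⁻¹ * z * u ^ i ∈ X := fun i => by
        simpa using conj_mem_of_nrm (hXn (D.inv_mem (D.pow_mem huD i))) hz
      have hconj : ∀ y ∈ X, (b : G)⁻¹ * y * b ∈ X := fun y hy => by
        simpa using conj_mem_of_nrm (hXn (D.inv_mem b.2)) hy
      have key : ∀ m : ℕ, ∏ i ∈ Finset.range m, F (u ^ i • ((b : G) • q)) =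
          θ q ((b : G)⁻¹ * ((List.range m).map fun i => (u ^ i)⁻¹ * z * u ^ i).prod * b) := by
        intro m
        induction m with
        | zero => simp [hθ1]
        | succ m ihm =>
          have hX1 : ((List.range m).map fun i => (u ^ i)⁻¹ * z * u ^ i).prod ∈ X :=
            X.list_prod_mem (by simpa using fun i (_ : i < m) => hterm i)
          rw [Finset.prod_range_succ, ihm, smul_smul, hF q _ (D.mul_mem (D.pow_mem huD m) b.2),
            ← hθmul q _ (hconj _ hX1) _ (by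
              have := hconj _ (hterm m); simpa [mul_inv_rev, mul_assoc] using this)]
          congr 1
          simp [List.range_succ, mul_assoc]
      rw [key p]
      refine hθV q _ ?_
      simpa using conj_mem_of_nrm (hVn (D.inv_mem b.2)) (hu u hu𝒰 z hz)
    rw [← Finset.prod_sdiff hOs, hsum, mul_one]
    have hqO : q ∈ O := by
      simp only [hO, hO₀, Finset.mem_image, Finset.mem_product, Finset.mem_range,
        Finset.mem_filter, Finset.mem_univ, true_and]
      exact ⟨⟨0, q⟩, ⟨hp.out.pos, 1, D₀.one_mem, by simp⟩, by simp⟩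
    refine ih _ ?_ (fun d hd w hw => ?_) (fun h => hq₀ (Finset.mem_sdiff.1 h).1)
    · have : (s \ O).card < s.card :=
        Finset.card_lt_card (Finset.sdiff_ssubset hOs ⟨q, hqO⟩)
      omega
    · obtain ⟨hws, hwO⟩ := Finset.mem_sdiff.1 hw
      refine Finset.mem_sdiff.2 ⟨hinv d hd w hws, fun h => hwO ?_⟩
      simpa using hOinv d⁻¹ (D.inv_mem hd) _ h

end Cfsg.Agent.ConjFunctor
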