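import Cfsg.Agent.ConjFunctor.TransferReduction
import Cfsg.Agent.ConjFunctor.Norm

/-!
The structure of a minimal failure of control of transfer.
-/

set_option autoImplicit false

open scoped commutatorElement

namespace Cfsg.Agent.ConjFunctor

universe u

variable {p : ℕ}

/-- The elements normalizing `R` and centralizing `Q` modulo `R`. -/
def centMod {G : Type*} [Group G] (Q R : Subgroup G) : Subgroup G where
  carrier := {g | g ∈ nrm R ∧ ∀ q ∈ Q, ⁅q, g⁆ ∈ R}
  one_mem' := ⟨Subgroup.one_mem _, fun q _ => by simp⟩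
  mul_mem' := by
    rintro a b ⟨ha, ha'⟩ ⟨hb, hb'⟩
    refine ⟨Subgroup.mul_mem _ ha hb, fun q hq => ?_⟩
    have e : ⁅q, a * b⁆ = ⁅q, a⁆ * (a * ⁅q, b⁆ * a⁻¹) := by
      simp [commutatorElement_def, mul_assoc]
    rw [e]
    exact R.mul_mem (ha' q hq) (conj_mem_of_nrm ha (hb' q hq))
  inv_mem' := by
    rintro a ⟨ha, ha'⟩
    refine ⟨Subgroup.inv_mem _ ha, fun q hq => ?_⟩
    have e : ⁅q, a⁻¹⁆ = a⁻¹ * ⁅q, a⁆⁻¹ * a⁻¹⁻¹ := by
      simp [commutatorElement_def, mul_assoc]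
    rw [e]
    exact conj_mem_of_nrm (Subgroup.inv_mem _ ha) (R.inv_mem (ha' q hq))

theorem centMod_le_nrm {G : Type*} [Group G] (Q R : Subgroup G) : centMod Q R ≤ nrm R :=
  fun _ h => h.1

theorem centMod_normal {G : Type*} [Group G] (Q R : Subgroup G) [Q.Normal] [R.Normal] :
    (centMod Q R).Normal := by
  refine ⟨fun n hn g => ⟨?_, fun q hq => ?_⟩⟩
  · rw [nrm_eq_top]; exact Subgroup.mem_top _
  · have e : ⁅q, g * n * g⁻¹⁆ = g * ⁅g⁻¹ * q * g, n⁆ * g⁻¹ := by
      simp [commutatorElement_def, mul_assoc]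
    rw [e]
    refine (inferInstance : R.Normal).conj_mem _ (hn.2 _ ?_) g
    simpa using (inferInstance : Q.Normal).conj_mem q hq g⁻¹

variable [Fact p.Prime] {G : Type u} [Group G] [Finite G]
  {𝓦 : Set (∀ (Q : Type u) [Group Q], Subgroup Q)}

/-- A group in which transfer is not controlled, all proper subgroups and quotients being
controlled. -/
theorem minimal_transfer_structure (h𝓦 : ∀ W ∈ 𝓦, IsCharPFunctor.{u} p W) (hne : 𝓦.Nonempty)
    (S : Sylow p G)
    (hsub : ∀ M : Subgroup G, M ≠ ⊤ → FamilyControlsTransferIn p (indFam 𝓦 ↥M) ⊤)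
    (hquot : ∀ (N : Subgroup G) [N.Normal], N ≠ ⊥ →
      FamilyControlsTransferIn p (indFam 𝓦 (G ⧸ N)) ⊤)
    (hG : ¬ FamilyControlsTransferIn p (indFam 𝓦 G) ⊤)
    (T M : Subgroup G) (hT : T = sig (indFam 𝓦 G) (S : Subgroup G) ⊤)
    (hM : M = nrm (T ⊓ pCore p G)) :
    Constr p G ∧ (M ≠ ⊤ ∧ ∀ H : Subgroup G, (S : Subgroup G) ≤ H → H ≠ ⊤ → H ≤ M) ∧
      (⁅pCore p G, M⁆ ≤ pCore p G ⊓ ⁅M, M⁆ ∧ pCore p G ⊓ ⁅M, M⁆ ≤ pCore p G ⊓ T) ∧
      ∀ u : G, u ∈ (S : Subgroup G) → u ∉ pCore p G → ∃ U V : Subgroup G,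
        IsChiefFactor U V ∧ U ≤ pCore p G ∧
          ¬ iterCommutator U (Subgroup.zpowers u) (p - 1) ≤ V := by
  have hW := indFam_isConjugacyFunctor (G := G) h𝓦
  have hctl : ¬ (S : Subgroup G) ⊓ ⁅(⊤ : Subgroup G), ⊤⁆ ≤ T := fun h =>
    hG (familyControlsTransferIn_iff.2 ⟨_, isSylowIn_top S, hT ▸ h⟩)
  have hnormal : ∀ W ∈ indFam 𝓦 G, nrm (W (S : Subgroup G)) ≠ ⊤ := by
    intro W hWm htop
    refine hctl (le_trans ?_ (hT.symm ▸ le_sig hWm))
    rw [htop, inf_idem]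
  have hWS : ∀ W ∈ indFam 𝓦 G, (S : Subgroup G) ≤ nrm (W (S : Subgroup G)) :=
    fun W hWm => le_nrm_functor (hW W hWm) S.2
  obtain ⟨W₀, hW₀⟩ : (indFam 𝓦 G).Nonempty := hne.image _
  have hc : Constr p G := (transfer_step h𝓦 S hsub hquot).resolve_left hG
  set Q := pCore p G with hQ
  have hQS : Q ≤ (S : Subgroup G) := Thompson.pCore_le_sylow S
  have hSQ : ¬ (S : Subgroup G) ≤ Q := by
    intro h
    have hSn : (S : Subgroup G).Normal := by rw [le_antisymm h hQS]; infer_instance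
    refine hnormal W₀ hW₀ (top_le_iff.1 ?_)
    rw [← nrm_eq_top (S : Subgroup G)]
    exact nrm_le_nrm_functor (hW W₀ hW₀) S.2
  have hQ0 : Q ≠ ⊥ := fun h0 => hSQ fun x _ => hc (by
    simp [Subgroup.mem_centralizer_iff, ← hQ, h0])
  have h1 := inf_commutator_le_sup_pCore h𝓦 S hSQ (fun M hM _ => hsub M hM) (hquot Q hQ0)
  rw [← hT] at h1
  have hTS : T ≤ (S : Subgroup G) := hT ▸ sig_le.trans inf_le_left
  have hSD : ⁅(S : Subgroup G), (S : Subgroup G)⁆ ≤ T := by
    refine le_trans ?_ (hT.symm ▸ le_sig hW₀)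
    rw [top_inf_eq]
    exact le_inf (Subgroup.commutator_le_self _)
      (Subgroup.commutator_mono (hWS W₀ hW₀) (hWS W₀ hW₀))
  set R := T ⊓ Q with hR
  -- proper subgroups over `S`
  have hHT : ∀ H : Subgroup G, (S : Subgroup G) ≤ H → H ≠ ⊤ →
      (S : Subgroup G) ⊓ ⁅H, H⁆ ≤ T := fun H hSH hH => hT ▸ inf_commutator_le_sig h𝓦 S hSH (hsub H hH)
  have hprop : ∀ H : Subgroup G, (S : Subgroup G) ≤ H → H ≠ ⊤ → H ≤ centMod Q R := by
    intro H hSH hH h hh
    have key : ∀ q ∈ Q, ⁅q, h⁆ ∈ R := by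
      intro q hq
      have hmem : ⁅q, h⁆ ∈ Q := Subgroup.commutator_le_left Q ⊤
        (Subgroup.commutator_mem_commutator hq (Subgroup.mem_top h))
      exact ⟨hHT H hSH hH ⟨hQS hmem, Subgroup.commutator_mem_commutator (hSH (hQS hq)) hh⟩, hmem⟩
    refine ⟨mem_nrm_of_forall fun r hr => ?_, key⟩
    have e : h * r * h⁻¹ = ⁅r, h⁆⁻¹ * r := by simp [commutatorElement_def, mul_assoc]
    rw [e]
    exact R.mul_mem (R.inv_mem (key r hr.2)) hr
  have hStop : (S : Subgroup G) ≠ ⊤ := by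
    intro h
    exact hSQ (Thompson.le_pCore (by rw [h]; infer_instance) S.2)
  have hSC : (S : Subgroup G) ≤ centMod Q R := hprop _ le_rfl hStop
  have hCtop : centMod Q R ≠ ⊤ := by
    intro htop
    refine hctl fun s hs => ?_
    obtain ⟨σ, hσ, z, hz, rfl⟩ := Subgroup.mem_sup_of_normal_right.1 (h1 hs)
    refine T.mul_mem hσ ?_
    have hz' : z ∈ commutator G := by
      have := (commutator G).mul_mem ((commutator G).inv_mem (sig_le (hT ▸ hσ)).2) hs.2
      simpa using this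
    refine mem_of_conj_congr S hTS hSD (fun t => hQS ?_) (fun t => ?_) hz'
    · simpa using (inferInstance : Q.Normal).conj_mem z hz t⁻¹
    · have h2 : ⁅z, t⁻¹⁆ ∈ R := (htop.symm ▸ Subgroup.mem_top t⁻¹ : t⁻¹ ∈ centMod Q R).2 z hz
      have e : t⁻¹ * z * t * z⁻¹ = ⁅z, t⁻¹⁆⁻¹ := by simp [commutatorElement_def, mul_assoc]
      rw [e]
      exact T.inv_mem h2.1
  have hMtop : M ≠ ⊤ := by
    intro htop
    haveI : R.Normal := Subgroup.normalizer_eq_top_iff.1 (hM.symm.trans htop)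
    haveI : (centMod Q R).Normal := centMod_normal Q R
    have hN : nrm (S : Subgroup G) ≠ ⊤ := fun h =>
      hSQ (Thompson.le_pCore (Subgroup.normalizer_eq_top_iff.1 h) S.2)
    refine hCtop (top_le_iff.1 ?_)
    rw [← Sylow.normalizer_sup_eq_top' S hSC]
    exact sup_le (hprop _ Subgroup.le_normalizer hN) le_rfl
  have hSM : (S : Subgroup G) ≤ M := hM ▸ hSC.trans (centMod_le_nrm _ _)
  have hMC : M ≤ centMod Q R := hprop M hSM hMtop
  have huniq : ∀ H : Subgroup G, (S : Subgroup G) ≤ H → H ≠ ⊤ → H ≤ M := fun H h h' =>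
    hM ▸ (hprop H h h').trans (centMod_le_nrm _ _)
  have hTM : T ≤ ⁅M, M⁆ := by
    rw [hT]
    refine iSup₂_le fun W hWm => ?_
    rw [top_inf_eq]
    exact inf_le_right.trans (Subgroup.commutator_mono (huniq _ (hWS W hWm) (hnormal W hWm))
      (huniq _ (hWS W hWm) (hnormal W hWm)))
  have hQM : Q ⊓ ⁅M, M⁆ ≤ R := fun x hx =>
    ⟨hHT M hSM hMtop ⟨hQS hx.1, hx.2⟩, hx.1⟩
  refine ⟨hc, ⟨hMtop, huniq⟩, ⟨le_inf (Subgroup.commutator_le_left _ _)
    (Subgroup.commutator_mono (hQS.trans hSM) le_rfl), fun x hx => ⟨hx.1, (hQM hx).1⟩⟩, ?_⟩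
  intro u₀ hu₀S hu₀Q
  by_contra hcon
  simp only [not_exists, not_and, not_not] at hcon
  set 𝒰 : Set G := {v | v ∈ (S : Subgroup G) ∧ v ∉ Q ∧ EngelBelow Q (p - 1) v} with h𝒰
  set D := Subgroup.closure 𝒰 with hD
  have hDS : D ≤ (S : Subgroup G) := (Subgroup.closure_le _).2 fun v hv => hv.1
  have hND : nrm D ≠ ⊤ := by
    intro h
    refine hu₀Q (Thompson.le_pCore (Subgroup.normalizer_eq_top_iff.1 h) (S.2.to_le hDS) ?_)
    exact Subgroup.subset_closure ⟨hu₀S, hu₀Q, hcon⟩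
  have hSND : (S : Subgroup G) ≤ nrm D := by
    rw [hD, Subgroup.le_normalizer_closure_iff]
    intro s hs v hv
    refine Subgroup.subset_closure ⟨(S : Subgroup G).mul_mem
      ((S : Subgroup G).mul_mem hs hv.1) ((S : Subgroup G).inv_mem hs), fun h => hv.2.1 ?_,
      hv.2.2.conj s⟩
    simpa [mul_assoc] using (inferInstance : Q.Normal).conj_mem _ h s⁻¹
  have hNDM : nrm D ≤ M := huniq _ hSND hND
  -- a chief factor on which the focal condition fails
  have hQG : ¬ Q ⊓ commutator G ≤ R := by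
    intro h
    refine hctl fun s hs => ?_
    obtain ⟨σ, hσ, z, hz, rfl⟩ := Subgroup.mem_sup_of_normal_right.1 (h1 hs)
    refine T.mul_mem hσ (h ⟨hz, ?_⟩).1
    have := (commutator G).mul_mem ((commutator G).inv_mem (sig_le (hT ▸ hσ)).2) hs.2
    simpa using this
  obtain ⟨X, ⟨hXn, hXle, hXR⟩, hmin⟩ := (Set.toFinite {X : Subgroup G | X.Normal ∧
    X ≤ Q ⊓ commutator G ∧ ¬ X ≤ R}).exists_minimal ⟨_, inferInstance, le_rfl, hQG⟩
  haveI := hXn
  have hX0 : X ≠ ⊥ := fun h => hXR (h ▸ bot_le)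
  obtain ⟨V, hXV⟩ := exists_chiefFactor hXn hX0
  haveI := hXV.2.2.1
  have hVR : V ≤ R := by
    by_contra h
    exact hXV.1.not_ge (hmin ⟨hXV.2.2.1, hXV.1.le.trans hXle, h⟩ hXV.1.le)
  obtain ⟨z, hzX, hzR⟩ := SetLike.not_le_iff_exists.1 hXR
  have hXQ : X ≤ Q := hXle.trans inf_le_left
  have hXp : IsPGroup p ↥X := Thompson.isPGroup_pCore.to_le hXQ
  classical
  haveI : Fintype (G ⧸ M) := Fintype.ofFinite _
  have hQconj : ∀ {a : G}, a ∈ Q → ∀ t : G, t⁻¹ * a * t ∈ M := fun ha t =>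
    hSM (hQS (by simpa using (inferInstance : Q.Normal).conj_mem _ ha t⁻¹))
  let θ : G ⧸ M → G → Abelianization ↥M := fun q a =>
    if h : q.out⁻¹ * a * q.out ∈ M then Abelianization.of ⟨_, h⟩ else 1
  have hθ : ∀ q, ∀ {a : G} (ha : a ∈ Q),
      θ q a = Abelianization.of (⟨q.out⁻¹ * a * q.out, hQconj ha _⟩ : ↥M) := fun q a ha =>
    dif_pos (hQconj ha _)
  have hzQ : z ∈ Q := hXQ hzX
  have hprod := prod_eq_of_orbits (p := p) (S.2.to_le hDS) 𝒰 rfl
    (by rw [nrm_eq_top]; exact le_top : D ≤ nrm X) (by rw [nrm_eq_top]; exact le_top : D ≤ nrm V)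
    hzX θ ?hmul ?hV (fun q => θ q z) ?hF ?hu (QuotientGroup.mk (1 : G)) ?hfix ?huniq
  case hmul =>
    intro q a ha b hb
    rw [hθ q (Q.mul_mem (hXQ ha) (hXQ hb)), hθ q (hXQ ha), hθ q (hXQ hb), ← map_mul]
    exact congrArg _ (Subtype.ext (by simp [mul_assoc]))
  case hV =>
    intro q v hv
    have hvQ : v ∈ Q := hXQ (hXV.1.le hv)
    rw [hθ q hvQ]
    refine (QuotientGroup.eq_one_iff _).2 ?_
    rw [← Subgroup.mem_map_iff_mem M.subtype_injective, Subgroup.map_subtype_commutator]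
    have : q.out⁻¹ * v * q.out ∈ V := by
      simpa using hXV.2.2.1.conj_mem v hv q.out⁻¹
    exact hTM (hVR this).1
  case hF =>
    intro q d hd
    have hdQ : d⁻¹ * z * d ∈ Q := by simpa using (inferInstance : Q.Normal).conj_mem z hzQ d⁻¹
    rw [hθ _ hzQ, hθ q hdQ]
    have hm : (d * q.out)⁻¹ * (d • q).out ∈ M := by
      rw [← QuotientGroup.eq]
      rw [QuotientGroup.out_eq']
      nth_rewrite 2 [← QuotientGroup.out_eq' q]
      rfl
    have : (⟨(d • q).out⁻¹ * z * (d • q).out, hQconj hzQ _⟩ : ↥M) = ⟨_, hm⟩⁻¹ *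
        ⟨q.out⁻¹ * (d⁻¹ * z * d) * q.out, hQconj hdQ _⟩ * ⟨_, hm⟩ := by
      refine Subtype.ext ?_
      simp [mul_assoc]
    rw [this, map_mul, map_mul, map_inv, mul_assoc, mul_comm _ (Abelianization.of _),
      inv_mul_cancel_left]
  case hu =>
    intro v hv y hy
    have := ChiefFactor.prod_conj_mem hXV hXp (hv.2.2.inv X V hXV hXQ) hy
    simpa [inv_pow] using this
  case hfix =>
    intro d hd
    show QuotientGroup.mk (d * 1) = QuotientGroup.mk (1 : G)
    exact QuotientGroup.eq.2 (by simpa using hSM (hDS hd))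
  case huniq =>
    intro q hq
    induction q using QuotientGroup.induction_on with
    | _ t =>
      have hD1 : cnj t⁻¹ D ≤ M := by
        rintro _ ⟨d, hd, rfl⟩
        have h5 := hq d⁻¹ (D.inv_mem hd)
        change QuotientGroup.mk (d⁻¹ * t) = QuotientGroup.mk t at h5
        have h6 := QuotientGroup.eq.1 h5
        simpa [mul_assoc] using h6
      obtain ⟨m, hm, hle⟩ := (sylow_isSylowIn S hSM).exists_cnj_le
        (isPGroup_cnj (S.2.to_le hDS)) hD1
      rw [cnj_cnj] at hle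
      have hle2 : cnj (m * t⁻¹) D ≤ D := by
        rw [hD, cnj, MonoidHom.map_closure, Subgroup.closure_le]
        rintro _ ⟨v, hv, rfl⟩
        refine Subgroup.subset_closure ⟨hle ⟨v, Subgroup.subset_closure hv, rfl⟩, fun h => hv.2.1 ?_,
          hv.2.2.conj _⟩
        have := (inferInstance : Q.Normal).conj_mem _ h (m * t⁻¹)⁻¹
        simpa [mul_assoc] using this
      have hmem : m * t⁻¹ ∈ M := hNDM (mem_nrm_iff_cnj.2
        (Subgroup.eq_of_le_of_card_ge hle2 (by rw [card_cnj])))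
      have ht : t⁻¹ ∈ M := (M.mul_mem_cancel_left hm).1 hmem
      exact QuotientGroup.eq.2 (by simpa using ht)
  rw [hθ _ hzQ] at hprod
  have htr := transfer_eq_prod_of_forall_mem (Abelianization.of (G := ↥M)) (hQconj hzQ)
  rw [MonoidHom.mem_ker.1 (Abelianization.commutator_subset_ker _ (hXle hzX).2)] at htr
  have hone : (Abelianization.of (⟨_, hQconj hzQ (QuotientGroup.mk (1 : G) : G ⧸ M).out⟩ : ↥M)) = 1 := by
    rw [← hprod, htr]
    exact Finset.prod_congr rfl fun q _ => hθ q hzQ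
  have hout : (QuotientGroup.mk (1 : G) : G ⧸ M).out ∈ M := by
    have := QuotientGroup.eq.1 (QuotientGroup.out_eq' (QuotientGroup.mk (1 : G) : G ⧸ M))
    simpa using this
  set m₀ : ↥M := ⟨_, hout⟩ with hm₀
  have hz1 : Abelianization.of (⟨z, hSM (hQS hzQ)⟩ : ↥M) = 1 := by
    have : (⟨_, hQconj hzQ (QuotientGroup.mk (1 : G) : G ⧸ M).out⟩ : ↥M) =
        m₀⁻¹ * ⟨z, hSM (hQS hzQ)⟩ * m₀ := Subtype.ext rfl
    rwa [this, map_mul, map_mul, map_inv, mul_assoc, mul_comm _ (Abelianization.of m₀),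
      inv_mul_cancel_left] at hone
  refine hzR (hQM ⟨hzQ, ?_⟩)
  rw [← Subgroup.map_subtype_commutator]
  exact ⟨_, (QuotientGroup.eq_one_iff _).1 hz1, rfl⟩

/-- Chief factors pass along isomorphisms. -/
theorem isChiefFactor_map_equiv {X Y : Type*} [Group X] [Group Y] (e : X ≃* Y) {U V : Subgroup X}
    (h : IsChiefFactor U V) : IsChiefFactor (U.map e.toMonoidHom) (V.map e.toMonoidHom) := by
  have hinj : Function.Injective e.toMonoidHom := e.injective
  have hsurj : Function.Surjective e.toMonoidHom := e.surjective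
  refine ⟨(Subgroup.map_lt_map_iff_of_injective hinj).2 h.1, h.2.1.map _ hsurj, h.2.2.1.map _ hsurj,
    fun N hN h1 h2 => ?_⟩
  have hN' : N = (N.comap e.toMonoidHom).map e.toMonoidHom :=
    (Subgroup.map_comap_eq_self_of_surjective hsurj N).symm
  rw [hN'] at h1 h2 ⊢
  rw [Subgroup.map_le_map_iff_of_injective hinj] at h1 h2
  rcases h.2.2.2 _ (hN.comap _) h1 h2 with h3 | h3
  · exact Or.inl (congrArg (Subgroup.map e.toMonoidHom) h3)
  · exact Or.inr (congrArg (Subgroup.map e.toMonoidHom) h3)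

/-- Transport of the degree condition below `O_p` along isomorphisms. -/
theorem engelBelow_map_equiv {p n : ℕ} {X Y : Type*} [Group X] [Group Y] (e : X ≃* Y) {g : X}
    (h : EngelBelow (pCore p X) n g) : EngelBelow (pCore p Y) n (e g) := by
  intro U V hUV hUQ
  have h1 := h _ _ (isChiefFactor_map_equiv e.symm hUV) (by
    rw [← Thompson.map_pCore_equiv e.symm]
    exact Subgroup.map_mono hUQ)
  have h2 := Subgroup.map_mono (f := e.toMonoidHom) h1
  rw [map_iterCommutator, MonoidHom.map_zpowers, Subgroup.map_map, Subgroup.map_map] at h2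
  have e1 : e.toMonoidHom.comp e.symm.toMonoidHom = MonoidHom.id Y := by ext; simp
  rwa [e1, Subgroup.map_id, Subgroup.map_id] at h2

end Cfsg.Agent.ConjFunctor
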