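import Cfsg.Agent.ConjFunctor.PComplementFunctor

/-!
The criteria for the lower `K`-infinity subgroup and for functors controlling fusion in stable
sections.
-/

set_option autoImplicit false

open scoped commutatorElement

namespace Cfsg.Agent.ConjFunctor

open Cfsg PComplement

universe u

variable {p : ℕ} [hp : Fact p.Prime]

/-- Control in stable sections gives the criterion. -/
theorem hasNormalPComplement_of_stable_control {W : ∀ (Q : Type u) [Group Q], Subgroup Q}
    (hW : IsCharPFunctor.{u} p W) (hp2 : p ≠ 2) {G : Type u} [Group G] [Finite G]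
    (hctl : ∀ (K R : Subgroup G) [(R.subgroupOf K).Normal],
      (∀ (K' R' : Subgroup (↥K ⧸ R.subgroupOf K)) [(R'.subgroupOf K').Normal],
        IsNormalizerPStable p (↥K' ⧸ R'.subgroupOf K')) →
      ∀ T : Sylow p (↥K ⧸ R.subgroupOf K),
        ControlsStrongFusion p (inducedFunctor W (T : Subgroup (↥K ⧸ R.subgroupOf K))))
    (S : Sylow p G) (hN : HasNormalPComplement p ↥(nrm (inducedFunctor W (S : Subgroup G)))) :
    HasNormalPComplement p G := by
  refine hasNormalPComplement_of_functor hW (fun X _ _ P V K hX hred hNX => ?_) S hN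
  obtain ⟨A, R, hR, ⟨e⟩⟩ := hX.exists_section
  obtain ⟨T, hT⟩ := exists_sylow_map_equiv e P
  have hst : ∀ (K' R' : Subgroup (↥A ⧸ R.subgroupOf A)) [(R'.subgroupOf K').Normal],
      IsNormalizerPStable p (↥K' ⧸ R'.subgroupOf K') := by
    intro K' R' _
    have he : IsSec X (↥A ⧸ R.subgroupOf A) :=
      ⟨⊤, e.symm.toMonoidHom.comp (⊤ : Subgroup X).subtype,
        fun y => ⟨⟨e y, Subgroup.mem_top _⟩, e.symm_apply_apply y⟩⟩
    obtain ⟨K'', R'', hR'', ⟨e'⟩⟩ := (he.trans (isSec_section K' R')).exists_section
    exact isNormalizerPStable_equiv e' (IsReduced.stable hred hp2 K'' R'')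
  have hmap : (inducedFunctor W (T : Subgroup (↥A ⧸ R.subgroupOf A))).map e.toMonoidHom =
      inducedFunctor W (P : Subgroup X) := by
    rw [← inducedFunctor_map hW e.toMonoidHom _ T.2 e.injective.injOn, hT]
  have hNT : HasNormalPComplement p ↥(nrm (inducedFunctor W (T : Subgroup (↥A ⧸ R.subgroupOf A)))) := by
    refine complement_of_injective_image e.symm.toMonoidHom ?_ hNX
    rw [← hmap, map_nrm_equiv e.symm, Subgroup.map_map]
    congr 2
    symm
    convert Subgroup.map_id _
    ext x
    simp
  exact hred.not_complement ((Transfer.hasNormalPComplement_congr e).1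
    (hasNormalPComplement_of_controlsStrongFusion (hctl A R hst T) hNT))

/-- The criterion for the lower `K`-infinity subgroup. -/
theorem hasNormalPComplement_of_kInf (hp2 : p ≠ 2) {G : Type u} [Group G] [Finite G] (S : Sylow p G)
    (hN : HasNormalPComplement p ↥(nrm (inducedFunctor kInfLower (S : Subgroup G)))) :
    HasNormalPComplement p G :=
  hasNormalPComplement_of_functor (KInf.isCharPFunctor p).1 (fun X _ _ P V K _ hred hNX =>
    hred.not_complement (hasNormalPComplement_of_controlsStrongFusion
      (kInf_controlsStrongFusion (fun L R _ => IsReduced.stable hred hp2 L R) X (isSec_refl X) P).1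
      hNX)) S hN

/-- A normaliser in which the elements of order prime to `p` centralise `K_∞(S)` has a complement. -/
theorem hasNormalPComplement_kInf_normalizer {G : Type u} [Group G] [Finite G] (S : Sylow p G)
    (h : ∀ g ∈ nrm (inducedFunctor kInfLower (S : Subgroup G)), (orderOf g).Coprime p →
      g ∈ Subgroup.centralizer ((inducedFunctor kInfLower (S : Subgroup G) : Subgroup G) : Set G)) :
    HasNormalPComplement p ↥(nrm (inducedFunctor kInfLower (S : Subgroup G))) := by
  set U := inducedFunctor kInfLower (S : Subgroup G) with hU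
  set N := nrm U with hN
  have hSN : (S : Subgroup G) ≤ N :=
    le_nrm_functor (isConjugacyFunctor_inducedFunctor (KInf.isCharPFunctor p).1) S.2
  set C := Subgroup.centralizer (U : Set G) with hC
  have hCN : C ≤ N := Subgroup.centralizer_le_normalizer _
  -- the complement of `C`
  have hR : IsSylowIn p ((S : Subgroup G) ⊓ C) C := by
    refine isSylowIn_inf_of_normal (sylow_isSylowIn S hSN) hCN fun n hn =>
      mem_nrm_of_forall fun c hc => Subgroup.mem_centralizer_iff.2 fun u hu => ?_
    have h1 := Subgroup.mem_centralizer_iff.1 hc (n⁻¹ * u * n)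
      (by simpa using conj_mem_of_nrm (N.inv_mem hn) hu)
    calc u * (n * c * n⁻¹) = n * ((n⁻¹ * u * n) * c) * n⁻¹ := by group
      _ = n * (c * (n⁻¹ * u * n)) * n⁻¹ := by rw [h1]
      _ = _ := by group
  have hRU : (S : Subgroup G) ⊓ C ≤ U := by
    intro x hx
    refine ⟨⟨x, hx.1⟩, (KInf.centralizer_kInf_le S.2).1 (Subgroup.mem_centralizer_iff.2 fun u hu => ?_),
      rfl⟩
    exact Subtype.ext (Subgroup.mem_centralizer_iff.1 hx.2 u ⟨u, hu, rfl⟩)
  obtain ⟨R, hReq⟩ := hR.exists_sylow
  have hCc : HasNormalPComplement p ↥C := by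
    refine Transfer.hasNormalPComplement_of_normalizer_centralizer R fun Q hQ _ g _ _ =>
      Subgroup.mem_centralizer_iff.2 fun q hq => Subtype.ext ?_
    exact Subgroup.mem_centralizer_iff.1 g.2 q (hRU (hReq ▸ Subgroup.mem_map_of_mem C.subtype (hQ hq)))
  have hle : pResidual p ↥N ≤ (pResidual p ↥C).map (Subgroup.inclusion hCN) := by
    rw [Transfer.pResidual_le_iff]
    intro g hg
    have hgC : (g : G) ∈ C := h g g.2 (by rwa [Subgroup.orderOf_coe])
    exact ⟨⟨g, hgC⟩, Transfer.mem_pResidual_of_coprime (by rwa [Subgroup.orderOf_mk,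
      Subgroup.orderOf_coe]), rfl⟩
  rw [Transfer.hasNormalPComplement_iff_not_dvd] at hCc ⊢
  intro hd
  refine hCc ((hd.trans (Subgroup.card_dvd_of_le hle)).trans (Subgroup.card_map_dvd _ _))

end Cfsg.Agent.ConjFunctor
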