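import Cfsg.Agent.ConjFunctor.ChiefFactor
import Mathlib.RingTheory.Nilpotent.Lemmas
import Mathlib.RingTheory.Ideal.Maps
import Mathlib.FieldTheory.Finite.Basic
import Mathlib.Algebra.CharP.Lemmas
import Mathlib.Algebra.Ring.Subring.Basic
import Mathlib.GroupTheory.OrderOfElement

/-!
A unipotent element of degree below `p` commutes with the abelian `p'`-groups it normalises.
-/

set_option autoImplicit false

namespace Cfsg.Agent.ConjFunctor

variable {R : Type*} [Ring R] {p : ℕ} [hp : Fact p.Prime]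

/-- Elements fixed by a positive `p`-power map. -/
theorem exists_pow_eq_self_of_mem_closure (hR : (p : R) = 0) {s : Set R}
    (hcomm : ∀ a ∈ s, ∀ b ∈ s, Commute a b) (hs : ∀ a ∈ s, ∃ f, 0 < f ∧ a ^ p ^ f = a) {x : R}
    (hx : x ∈ Subring.closure s) : ∃ f, 0 < f ∧ x ^ p ^ f = x := by
  rcases subsingleton_or_nontrivial R with hsub | hnt
  · exact ⟨1, one_pos, Subsingleton.elim _ _⟩
  haveI : CharP R p := by
    obtain ⟨c, hc⟩ := CharP.exists R
    rcases (Nat.dvd_prime hp.out).1 ((CharP.cast_eq_zero_iff R c p).1 hR) with h1 | h1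
    · subst h1; haveI := hc; exact (CharP.false_of_nontrivial_of_char_one (R := R)).elim
    · exact h1 ▸ hc
  have hiter : ∀ {a : R} {f : ℕ} (m : ℕ), a ^ p ^ f = a → a ^ p ^ (f * m) = a := by
    intro a f m h
    induction m with
    | zero => simp
    | succ m ih => rw [Nat.mul_succ, pow_add, pow_mul, ih, h]
  have hcom : ∀ a ∈ Subring.closure s, ∀ b ∈ Subring.closure s, Commute a b := by
    intro a ha b hb
    letI := Subring.closureCommRingOfComm (s := s) fun x hx y hy => hcomm x hx y hy
    exact congrArg Subtype.val (mul_comm (⟨a, ha⟩ : Subring.closure s) ⟨b, hb⟩)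
  induction hx using Subring.closure_induction with
  | mem x h => exact hs x h
  | zero => exact ⟨1, one_pos, zero_pow (pow_pos hp.out.pos 1).ne'⟩
  | one => exact ⟨1, one_pos, one_pow _⟩
  | add a b ha hb iha ihb =>
    obtain ⟨f, hf, hfa⟩ := iha
    obtain ⟨f', hf', hfb⟩ := ihb
    refine ⟨f * f', Nat.mul_pos hf hf', ?_⟩
    rw [add_pow_char_pow_of_commute (p := p) (h := hcom a ha b hb), hiter f' hfa, mul_comm f f', hiter f hfb]
  | neg a ha iha =>
    obtain ⟨f, hf, hfa⟩ := iha
    refine ⟨f, hf, ?_⟩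
    rcases hp.out.eq_two_or_odd' with h2 | hodd
    · have hn : ∀ b : R, -b = b := fun b => by
        rw [neg_eq_iff_add_eq_zero, ← two_mul]
        have : (2 : R) = 0 := by subst h2; simpa using hR
        rw [this, zero_mul]
      rw [hn a, hfa]
    · rw [(hodd.pow).neg_pow, hfa]
  | mul a b ha hb iha ihb =>
    obtain ⟨f, hf, hfa⟩ := iha
    obtain ⟨f', hf', hfb⟩ := ihb
    refine ⟨f * f', Nat.mul_pos hf hf', ?_⟩
    rw [(hcom a ha b hb).mul_pow, hiter f' hfa, mul_comm f f', hiter f hfb]

/-- A unipotent element of degree below `p` commutes with a commuting set of `p'`-elements that it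
normalises. -/
theorem commute_of_unipotent (hR : (p : R) = 0) (g : Rˣ) (hg : ∃ n, g ^ p ^ n = 1)
    (hg1 : ((g : R) - 1) ^ (p - 1) = 0) (H : Set Rˣ)
    (hcomm : ∀ a ∈ H, ∀ b ∈ H, Commute a b) (hconj : ∀ a ∈ H, g * a * g⁻¹ ∈ H)
    (hord : ∀ a ∈ H, ∃ m : ℕ, m.Coprime p ∧ a ^ m = 1) : ∀ a ∈ H, Commute g a := by
  set s : Set R := (fun a : Rˣ => (a : R)) '' H with hs
  set A := Subring.closure s with hA
  letI : CommRing ↥A := Subring.closureCommRingOfComm (s := s) (by
    rintro _ ⟨a, ha, rfl⟩ _ ⟨b, hb, rfl⟩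
    exact congrArg Units.val (hcomm a ha b hb))
  have hfix : ∀ x ∈ A, ∃ f, 0 < f ∧ x ^ p ^ f = x := fun x hx => by
    refine exists_pow_eq_self_of_mem_closure hR ?_ ?_ hx
    · rintro _ ⟨a, ha, rfl⟩ _ ⟨b, hb, rfl⟩
      exact congrArg Units.val (hcomm a ha b hb)
    · rintro _ ⟨a, ha, rfl⟩
      obtain ⟨m, hm, ham⟩ := hord a ha
      have hm0 : m ≠ 0 := by
        rintro rfl
        exact hp.out.one_lt.ne' ((Nat.coprime_zero_left p).1 hm)
      refine ⟨m.totient, Nat.totient_pos.2 (Nat.pos_of_ne_zero hm0), ?_⟩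
      have h1 : a ^ p ^ m.totient = a ^ 1 :=
        pow_eq_pow_iff_modEq.2 (((Nat.ModEq.pow_totient hm.symm)).of_dvd
          (orderOf_dvd_of_pow_eq_one ham))
      rw [pow_one] at h1
      show (a : R) ^ p ^ m.totient = a
      rw [← Units.val_pow_eq_pow_val, h1]
  -- conjugation by `g` on `A`
  set c : R →+* R :=
    { toFun := fun x => (g : R) * x * ↑g⁻¹
      map_one' := by simp
      map_mul' := fun x y => by simp [mul_assoc]
      map_zero' := by simp
      map_add' := fun x y => by rw [mul_add, add_mul] } with hc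
  have hcA : ∀ x ∈ A, c x ∈ A := by
    intro x hx
    have hle : A.map c ≤ A := by
      rw [hA, RingHom.map_closure]
      refine Subring.closure_le.2 ?_
      rintro _ ⟨_, ⟨a, ha, rfl⟩, rfl⟩
      exact Subring.subset_closure ⟨g * a * g⁻¹, hconj a ha, by simp [hc]⟩
    exact hle ⟨x, hx, rfl⟩
  let σ : ↥A →+* ↥A := c.restrict A A hcA
  have hσ : ∀ (i : ℕ) (x : ↥A), ((σ^[i] x : ↥A) : R) * (g : R) ^ i = (g : R) ^ i * (x : R) := by
    intro i
    induction i with
    | zero => intro x; simp
    | succ i ih =>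
      intro x
      rw [Function.iterate_succ_apply', pow_succ']
      show ((g : R) * (σ^[i] x : ↥A) * ↑g⁻¹) * ((g : R) * (g : R) ^ i) = _
      simp [mul_assoc, ih x]
  obtain ⟨n, hn⟩ := hg
  have hperiod : ∀ x : ↥A, σ^[p ^ n] x = x := fun x => by
    have h1 := hσ (p ^ n) x
    rw [← Units.val_pow_eq_pow_val, hn, Units.val_one, mul_one, one_mul] at h1
    exact Subtype.ext h1
  -- elimination in a relation of degree `p - 1`
  have hsum : ∑ i ∈ Finset.range p, (g : R) ^ i = 0 :=
    (geom_sum_eq_sub_one_pow hR _).trans hg1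
  have helim : ∀ (b : ℕ → ↥A) (k : ℕ), ∑ i ∈ Finset.range p,
      ((∏ j ∈ Finset.range k, (σ^[i] (b j) - σ^[j + 1] (b j)) : ↥A) : R) * (g : R) ^ i = 0 := by
    intro b k
    induction k with
    | zero => simpa using hsum
    | succ k ih =>
      have h1 := congrArg (fun t => t * ((b k : ↥A) : R) - ((σ^[k + 1] (b k) : ↥A) : R) * t) ih
      simp only [zero_mul, mul_zero, sub_zero] at h1
      rw [← h1, Finset.sum_mul, Finset.mul_sum, ← Finset.sum_sub_distrib]
      refine Finset.sum_congr rfl fun i _ => ?_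
      rw [Finset.prod_range_succ, mul_assoc, ← hσ i (b k), ← mul_assoc, ← mul_assoc, ← sub_mul]
      congr 1
      rw [mul_sub, AddSubgroupClass.coe_sub, Subring.coe_mul, Subring.coe_mul]
      congr 1
      exact congrArg Subtype.val (mul_comm (∏ j ∈ Finset.range k, (σ^[i] (b j) - σ^[j + 1] (b j)))
        (σ^[k + 1] (b k)))
  have hprod : ∀ b : ℕ → ↥A, ∏ j ∈ Finset.range (p - 1), (b j - σ^[j + 1] (b j)) = 0 := by
    intro b
    have h1 := helim b (p - 1)
    rw [Finset.sum_eq_single 0] at h1
    · simp only [pow_zero, mul_one, Function.iterate_zero_apply] at h1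
      exact Subtype.ext h1
    · intro i hi hi0
      have : (∏ j ∈ Finset.range (p - 1), (σ^[i] (b j) - σ^[j + 1] (b j)) : ↥A) = 0 := by
        have hip := Finset.mem_range.1 hi
        refine Finset.prod_eq_zero (Finset.mem_range.2 (show i - 1 < p - 1 by omega)) ?_
        rw [Nat.sub_add_cancel (Nat.one_le_iff_ne_zero.2 hi0), sub_self]
      rw [this]
      simp
    · intro h; exact absurd (Finset.mem_range.2 hp.out.pos) h
  have hkey : ∀ x : ↥A, σ x = x := by
    intro x
    have hnil : IsNilpotent (σ x - x) := by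
      rw [nilpotent_iff_mem_prime]
      intro P hP
      have hm : ∃ j < p - 1, ∀ y : ↥A, y - σ^[j + 1] y ∈ P := by
        by_contra hcon
        push Not at hcon
        choose! b hb using hcon
        have h2 : (∏ j ∈ Finset.range (p - 1), (b j - σ^[j + 1] (b j))) ∈ P := by
          rw [hprod b]; exact P.zero_mem
        obtain ⟨j, hj, hj'⟩ := (Ideal.IsPrime.prod_mem_iff (p := P)).1 h2
        exact hb j (Finset.mem_range.1 hj) hj'
      obtain ⟨j, hj, hjy⟩ := hm
      have hmul : ∀ (l : ℕ) (y : ↥A), y - σ^[(j + 1) * l] y ∈ P := by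
        intro l
        induction l with
        | zero => intro y; simp
        | succ l ih =>
          intro y
          have h2 := P.add_mem (ih y) (hjy (σ^[(j + 1) * l] y))
          rw [sub_add_sub_cancel, ← Function.iterate_add_apply] at h2
          rwa [show (j + 1) * (l + 1) = (j + 1) + (j + 1) * l by ring]
      have hcop : (j + 1).Coprime (p ^ n) :=
        ((hp.out.coprime_iff_not_dvd.2 (Nat.not_dvd_of_pos_of_lt j.succ_pos (by omega))).symm).pow_right n
      obtain ⟨t, q, ht⟩ : ∃ t q : ℕ, (j + 1) * t = q * p ^ n + 1 := by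
        rcases Nat.eq_zero_or_pos n with rfl | hn0
        · exact ⟨1, j, by simp⟩
        · obtain ⟨t, ht⟩ := Nat.exists_mul_mod_eq_one_of_coprime hcop
            (Nat.one_lt_pow hn0.ne' hp.out.one_lt)
          refine ⟨t, (j + 1) * t / p ^ n, ?_⟩
          have := Nat.div_add_mod ((j + 1) * t) (p ^ n)
          rw [ht.2, mul_comm] at this
          omega
      have hper : ∀ q : ℕ, σ^[q * p ^ n + 1] x = σ x := by
        intro q
        induction q with
        | zero => simp
        | succ q ih =>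
          rw [show (q + 1) * p ^ n + 1 = p ^ n + (q * p ^ n + 1) by ring, Function.iterate_add_apply,
            ih, hperiod]
      have h3 := P.neg_mem (hmul t x)
      rwa [ht, hper, neg_sub] at h3
    obtain ⟨k, hk⟩ := hnil
    obtain ⟨f, hf, hfx⟩ := hfix _ (σ x - x).2
    have h4 : ∀ m : ℕ, (σ x - x) ^ (p ^ f) ^ m = σ x - x := by
      intro m
      induction m with
      | zero => simp
      | succ m ih =>
        rw [pow_succ, pow_mul, ih]
        exact Subtype.ext (by rw [SubmonoidClass.coe_pow]; exact hfx)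
    have h5 := h4 k
    rw [pow_eq_zero_of_le (Nat.lt_pow_self (Nat.one_lt_pow hf.ne' hp.out.one_lt)).le hk] at h5
    exact sub_eq_zero.1 h5.symm
  intro a ha
  have h1 : (g : R) * (a : R) * ↑g⁻¹ = a :=
    congrArg Subtype.val (hkey ⟨a, Subring.subset_closure ⟨a, ha, rfl⟩⟩)
  refine Units.ext ?_
  rw [Units.val_mul, Units.val_mul]
  calc (g : R) * a = g * a * ↑g⁻¹ * g := by simp
    _ = a * g := by rw [h1]

end Cfsg.Agent.ConjFunctor
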