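import Cfsg.Agent.ConjFunctor.Control
import Cfsg.Agent.Lib.Thompson.Cores
import Cfsg.Prelude.Def_LocalEven

/-!
Sections of a finite group, and transport of induced functors and of the control properties along
homomorphisms.
-/

set_option autoImplicit false

open scoped commutatorElement

namespace Cfsg.Agent.ConjFunctor

universe u

variable {p : ℕ}

/-- `H` is a quotient of a subgroup of `G`. -/
def IsSec (G : Type u) [Group G] (H : Type u) [Group H] : Prop :=
  ∃ (K : Subgroup G) (f : ↥K →* H), Function.Surjective f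

/-- `C(O_p) ≤ O_p`. -/
def Constr (p : ℕ) (H : Type u) [Group H] : Prop :=
  Subgroup.centralizer ((pCore p H : Subgroup H) : Set H) ≤ pCore p H

section Sec

variable {G H : Type u} [Group G] [Group H]

theorem isSec_refl (G : Type u) [Group G] : IsSec G G :=
  ⟨⊤, (⊤ : Subgroup G).subtype, fun g => ⟨⟨g, Subgroup.mem_top g⟩, rfl⟩⟩

theorem isSec_subgroup (M : Subgroup G) : IsSec G ↥M :=
  ⟨M, MonoidHom.id _, fun x => ⟨x, rfl⟩⟩

theorem isSec_quotient (N : Subgroup G) [N.Normal] : IsSec G (G ⧸ N) :=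
  ⟨⊤, (QuotientGroup.mk' N).comp (⊤ : Subgroup G).subtype,
    fun q => by
      obtain ⟨g, rfl⟩ := QuotientGroup.mk'_surjective N q
      exact ⟨⟨g, Subgroup.mem_top g⟩, rfl⟩⟩

theorem isSec_section (K R : Subgroup G) [(R.subgroupOf K).Normal] :
    IsSec G (↥K ⧸ R.subgroupOf K) :=
  ⟨K, QuotientGroup.mk' _, QuotientGroup.mk'_surjective _⟩

theorem IsSec.exists_section (h : IsSec G H) :
    ∃ (K R : Subgroup G) (_ : (R.subgroupOf K).Normal),
      Nonempty ((↥K ⧸ R.subgroupOf K) ≃* H) := by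
  obtain ⟨K, f, hf⟩ := h
  have he : (f.ker.map K.subtype).subgroupOf K = f.ker :=
    Subgroup.comap_map_eq_self_of_injective K.subtype_injective _
  have hn : ((f.ker.map K.subtype).subgroupOf K).Normal := by rw [he]; infer_instance
  exact ⟨K, f.ker.map K.subtype, hn,
    ⟨(QuotientGroup.quotientMulEquivOfEq he).trans (QuotientGroup.quotientKerEquivOfSurjective f hf)⟩⟩

theorem IsSec.trans {L : Type u} [Group L] (h : IsSec G H) (h' : IsSec H L) : IsSec G L := by
  obtain ⟨K, f, hf⟩ := h
  obtain ⟨K', f', hf'⟩ := h'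
  let e := Subgroup.equivMapOfInjective (K'.comap f) K.subtype K.subtype_injective
  refine ⟨(K'.comap f).map K.subtype, f'.comp ((f.subgroupComap K').comp e.symm.toMonoidHom), ?_⟩
  intro y
  obtain ⟨k, rfl⟩ := hf' y
  obtain ⟨x, hx⟩ := f.subgroupComap_surjective_of_surjective K' hf k
  exact ⟨e x, by simp [hx]⟩

theorem IsSec.finite [Finite G] (h : IsSec G H) : Finite H := by
  obtain ⟨K, f, hf⟩ := h
  exact Finite.of_surjective f hf

theorem IsSec.card_le [Finite G] (h : IsSec G H) : Nat.card H ≤ Nat.card G := by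
  obtain ⟨K, f, hf⟩ := h
  exact (Nat.card_le_card_of_surjective f hf).trans (Subgroup.card_le_card_group K)

theorem Constr.of_equiv (h : Constr p G) (e : G ≃* H) : Constr p H := by
  have hc := Thompson.map_pCore_equiv (p := p) e
  intro x hx
  rw [← hc]
  refine ⟨e.symm x, h (Subgroup.mem_centralizer_iff.2 fun q hq => ?_), e.apply_symm_apply x⟩
  have := Subgroup.mem_centralizer_iff.1 hx (e q) (hc ▸ ⟨q, hq, rfl⟩)
  apply e.injective
  simpa using this

/-- A property of constrained sections given for the sections `K ⧸ R` holds for all sections. -/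
theorem IsSec.transport {P : ∀ (X : Type u) [Group X], Prop}
    (hP : ∀ {X Y : Type u} [Group X] [Group Y] [Finite X], (X ≃* Y) → P X → P Y) [Finite G]
    (hloc : ∀ (K R : Subgroup G) [(R.subgroupOf K).Normal],
      Constr p (↥K ⧸ R.subgroupOf K) → P (↥K ⧸ R.subgroupOf K))
    (h : IsSec G H) (hc : Constr p H) : P H := by
  obtain ⟨K, R, hn, ⟨e⟩⟩ := h.exists_section
  exact hP e (hloc K R (hc.of_equiv e.symm))

end Sec

/-- The conjugacy functors on `G` induced by a set of functors. -/
def indFam (𝓦 : Set (∀ (Q : Type u) [Group Q], Subgroup Q)) (G : Type u) [Group G] :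
    Set (Subgroup G → Subgroup G) :=
  (fun W => inducedFunctor (G := G) W) '' 𝓦

theorem indFam_isConjugacyFunctor {G : Type u} [Group G] [Finite G]
    {𝓦 : Set (∀ (Q : Type u) [Group Q], Subgroup Q)} (h𝓦 : ∀ W ∈ 𝓦, IsCharPFunctor.{u} p W) :
    ∀ W ∈ indFam 𝓦 G, IsConjugacyFunctor p W := by
  rintro _ ⟨W, hW, rfl⟩
  exact isConjugacyFunctor_inducedFunctor (h𝓦 W hW)

section Map

variable {G H : Type u} [Group G] [Group H] {𝓦 : Set (∀ (Q : Type u) [Group Q], Subgroup Q)}
  (h𝓦 : ∀ W ∈ 𝓦, IsCharPFunctor.{u} p W) (f : G →* H) (hf : Function.Injective f)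
include hf

theorem map_nrm_of_injective (X : Subgroup G) :
    (nrm X).map f = f.range ⊓ nrm (X.map f) := by
  rw [← Subgroup.map_comap_eq, Subgroup.comap_normalizer_eq_of_le_range (Subgroup.map_le_range f X),
    Subgroup.comap_map_eq_self_of_injective hf]

theorem isSylowIn_map {T K : Subgroup G} (h : IsSylowIn p T K) :
    IsSylowIn p (T.map f) (K.map f) :=
  ⟨Subgroup.map_mono h.1, h.2.1.map f, by
    rw [Subgroup.relIndex_map_map_of_injective T K hf]; exact h.2.2⟩

include h𝓦
variable [Finite G]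

theorem map_locN_ind {T : Subgroup G} (hT : IsPGroup p ↥T) :
    Subgroup.map f '' locN (indFam 𝓦 G) T ⊤ = locN (indFam 𝓦 H) (T.map f) f.range := by
  rw [locN, locN, indFam, indFam, Set.image_image, Set.image_image, Set.image_image]
  refine Set.image_congr fun W hW => ?_
  show (⊤ ⊓ nrm (inducedFunctor W T)).map f = f.range ⊓ nrm (inducedFunctor W (T.map f))
  rw [top_inf_eq, map_nrm_of_injective f hf, inducedFunctor_map (h𝓦 W hW) f T hT hf.injOn]

theorem map_sig_ind {T : Subgroup G} (hT : IsPGroup p ↥T) :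
    (sig (indFam 𝓦 G) T ⊤).map f = sig (indFam 𝓦 H) (T.map f) f.range := by
  simp only [sig, indFam, iSup_image, Subgroup.map_iSup]
  refine iSup_congr fun W => iSup_congr fun hW => ?_
  rw [Subgroup.map_inf _ _ _ hf, Subgroup.map_commutator, top_inf_eq, map_nrm_of_injective f hf,
    inducedFunctor_map (h𝓦 W hW) f T hT hf.injOn]

variable [Fact p.Prime]

theorem familyControlsTransferIn_map (h : FamilyControlsTransferIn p (indFam 𝓦 G) ⊤) :
    FamilyControlsTransferIn p (indFam 𝓦 H) f.range := by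
  obtain ⟨T, hT, hle⟩ := familyControlsTransferIn_iff.1 h
  refine familyControlsTransferIn_iff.2 ⟨T.map f, ?_, ?_⟩
  · simpa [MonoidHom.range_eq_map] using isSylowIn_map f hf hT
  · rw [← map_sig_ind h𝓦 f hf hT.isPGroup, MonoidHom.range_eq_map, ← Subgroup.map_commutator,
      ← Subgroup.map_inf _ _ _ hf]
    exact Subgroup.map_mono hle

theorem familyControlsStrongFusionIn_map (h : FamilyControlsStrongFusionIn p (indFam 𝓦 G) ⊤) :
    FamilyControlsStrongFusionIn p (indFam 𝓦 H) f.range := by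
  obtain ⟨T, hT, hc⟩ := familyControlsStrongFusionIn_iff.1 h
  refine familyControlsStrongFusionIn_iff.2 ⟨T.map f, ?_, ?_⟩
  · simpa [MonoidHom.range_eq_map] using isSylowIn_map f hf hT
  · rintro A _ ⟨g, rfl⟩ hA hgA
    have hA' : A ⊆ Set.range f := hA.trans (by
      rintro _ ⟨t, -, rfl⟩; exact ⟨t, rfl⟩)
    have e : f '' (f ⁻¹' A) = A := Set.image_preimage_eq_of_subset hA'
    have hB : f ⁻¹' A ⊆ (T : Set G) := by
      intro a ha
      obtain ⟨t, ht, he⟩ := hA ha
      exact hf he ▸ ht
    have hgB : img g (f ⁻¹' A) ⊆ (T : Set G) := by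
      rintro _ ⟨a, ha, rfl⟩
      obtain ⟨t, ht, he⟩ := hgA ⟨f a, ha, rfl⟩
      have : t = g * a * g⁻¹ := hf (by rw [map_mul, map_mul, map_inv]; exact he)
      show g * a * g⁻¹ ∈ T
      rwa [← this]
    have := (hc _ g (Subgroup.mem_top g) hB hgB).map f
    rwa [map_locN_ind h𝓦 f hf hT.isPGroup, e] at this

end Map

/-- Transport of `(W T)`-normalizers and Sylow subgroups along an isomorphism. -/
theorem exists_sylow_map_equiv {X Y : Type u} [Group X] [Group Y] (e : X ≃* Y) (T : Sylow p Y) :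
    ∃ T' : Sylow p X, (T' : Subgroup X).map e.toMonoidHom = (T : Subgroup Y) := by
  refine ⟨T.comapOfInjective e.toMonoidHom e.injective
    (by rw [MonoidHom.range_eq_top_of_surjective e.toMonoidHom e.surjective]; exact le_top), ?_⟩
  exact Subgroup.map_comap_eq_self_of_surjective (f := e.toMonoidHom) e.surjective _

theorem map_nrm_equiv {X Y : Type*} [Group X] [Group Y] (e : X ≃* Y) (U : Subgroup X) :
    (nrm U).map e.toMonoidHom = nrm (U.map e.toMonoidHom) := by
  refine le_antisymm (Subgroup.le_normalizer_map _) fun y hy => ⟨e.symm y, ?_, e.apply_symm_apply y⟩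
  rw [SetLike.mem_coe, mem_nrm_iff]
  intro x
  have := mem_nrm_iff.1 hy (e x)
  have e1 : e.symm (y * e x * y⁻¹) = e.symm y * x * (e.symm y)⁻¹ := by simp
  rwa [Subgroup.mem_map_equiv, Subgroup.mem_map_equiv, e.symm_apply_apply, e1] at this

variable {G H : Type u} [Group G] [Group H] [Finite G] [Fact p.Prime]
  {𝓦 : Set (∀ (Q : Type u) [Group Q], Subgroup Q)}

theorem familyControlsTransferIn_equiv (h𝓦 : ∀ W ∈ 𝓦, IsCharPFunctor.{u} p W) (e : G ≃* H)
    (h : FamilyControlsTransferIn p (indFam 𝓦 G) ⊤) :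
    FamilyControlsTransferIn p (indFam 𝓦 H) ⊤ := by
  have := familyControlsTransferIn_map h𝓦 e.toMonoidHom e.injective h
  rwa [MonoidHom.range_eq_top_of_surjective e.toMonoidHom e.surjective] at this

theorem familyControlsStrongFusionIn_equiv (h𝓦 : ∀ W ∈ 𝓦, IsCharPFunctor.{u} p W) (e : G ≃* H)
    (h : FamilyControlsStrongFusionIn p (indFam 𝓦 G) ⊤) :
    FamilyControlsStrongFusionIn p (indFam 𝓦 H) ⊤ := by
  have := familyControlsStrongFusionIn_map h𝓦 e.toMonoidHom e.injective h
  rwa [MonoidHom.range_eq_top_of_surjective e.toMonoidHom e.surjective] at this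

theorem familyControlsTransferIn_subgroup (h𝓦 : ∀ W ∈ 𝓦, IsCharPFunctor.{u} p W) {M : Subgroup G}
    (h : FamilyControlsTransferIn p (indFam 𝓦 ↥M) ⊤) :
    FamilyControlsTransferIn p (indFam 𝓦 G) M := by
  have := familyControlsTransferIn_map h𝓦 M.subtype M.subtype_injective h
  rwa [Subgroup.range_subtype] at this

theorem familyControlsStrongFusionIn_subgroup (h𝓦 : ∀ W ∈ 𝓦, IsCharPFunctor.{u} p W)
    {M : Subgroup G} (h : FamilyControlsStrongFusionIn p (indFam 𝓦 ↥M) ⊤) :
    FamilyControlsStrongFusionIn p (indFam 𝓦 G) M := by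
  have := familyControlsStrongFusionIn_map h𝓦 M.subtype M.subtype_injective h
  rwa [Subgroup.range_subtype] at this

/-- If a subgroup with Sylow subgroup `S` controls its own transfer, its focal part lies in the
global one. -/
theorem inf_commutator_le_sig (h𝓦 : ∀ W ∈ 𝓦, IsCharPFunctor.{u} p W) (S : Sylow p G)
    {M : Subgroup G} (hSM : (S : Subgroup G) ≤ M)
    (h : FamilyControlsTransferIn p (indFam 𝓦 ↥M) ⊤) :
    (S : Subgroup G) ⊓ ⁅M, M⁆ ≤ sig (indFam 𝓦 G) (S : Subgroup G) ⊤ := by
  refine (FamilyControlsTransferIn.le_sig (indFam_isConjugacyFunctor h𝓦)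
    (familyControlsTransferIn_subgroup h𝓦 h) (sylow_isSylowIn S hSM)).trans ?_
  refine iSup₂_mono fun W _ => ?_
  exact inf_le_inf_left _ (Subgroup.commutator_mono (inf_le_inf_right _ le_top)
    (inf_le_inf_right _ le_top))

end Cfsg.Agent.ConjFunctor
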