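import Cfsg.Agent.ConjFunctor.Stable
import Cfsg.Agent.ConjFunctor.Unipotent
import Cfsg.Agent.Lib.PComplement.Stability
import Cfsg.Agent.LocalEven61.QdStability
import Cfsg.Agent.S2004

/-!
Normal `p`-complement criteria for functors.
-/

set_option autoImplicit false

open scoped commutatorElement IsMulCommutative

namespace Cfsg.Agent.ConjFunctor

open Cfsg PComplement

universe u

variable {p : ℕ} [hp : Fact p.Prime] {W : ∀ (Q : Type u) [Group Q], Subgroup Q}

/-- The inductive form of the hypothesis: a section of `G₀` whose `N(W(P))` has a complement. -/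
def WGood (p : ℕ) (W : ∀ (Q : Type u) [Group Q], Subgroup Q) (G₀ : Type u) [Group G₀] (G : Type u)
    [Group G] (P : Subgroup G) : Prop :=
  IsSec G₀ G ∧ HasNormalPComplement p ↥(nrm (inducedFunctor W P))

theorem complement_of_injective_image {G H : Type*} [Group G] [Group H] [Finite G] [Finite H]
    {N : Subgroup G} {M : Subgroup H} (f : G →* H) (hM : M = N.map f)
    (h : HasNormalPComplement p ↥N) : HasNormalPComplement p ↥M := by
  subst hM
  exact Transfer.hasNormalPComplement_of_surjective h (f.subgroupMap N) (f.subgroupMap_surjective N)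

/-- Reduction to a reduced section. -/
theorem hasNormalPComplement_of_functor (hW : IsCharPFunctor.{u} p W) {G₀ : Type u} [Group G₀]
    [Finite G₀]
    (hfinal : ∀ (G : Type u) [Group G] [Finite G] (P : Sylow p G) (V K : Subgroup G), IsSec G₀ G →
      IsReduced p (P : Subgroup G) V K →
      HasNormalPComplement p ↥(nrm (inducedFunctor W (P : Subgroup G))) → False)
    (S : Sylow p G₀) (hN : HasNormalPComplement p ↥(nrm (inducedFunctor W (S : Subgroup G₀)))) :
    HasNormalPComplement p G₀ := by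
  refine hasNormalPComplement_of_criterion (fun G _ _ P => WGood p W G₀ G P) ?_ ?_ ?_ ?_ ?_ G₀ S
    ⟨isSec_refl G₀, hN⟩
  · intro G _ _ P M hPM hP
    refine ⟨hP.1.trans (isSec_subgroup M), ?_⟩
    refine Transfer.hasNormalPComplement_of_injective hP.2
      ((M.subtype.comp (nrm _).subtype).codRestrict _ fun x => ?_) ?_
    · have h1 : M.subtype x ∈ nrm ((inducedFunctor W ((P : Subgroup G).subgroupOf M)).map M.subtype) :=
        Subgroup.le_normalizer_map M.subtype ⟨x, x.2, rfl⟩
      rwa [← inducedFunctor_map hW M.subtype ((P : Subgroup G).subgroupOf M) (P.2.comap_subtype) M.subtype_injective.injOn,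
        Subgroup.map_subgroupOf_eq_of_le hPM] at h1
    · intro a b hab
      exact Subtype.ext (Subtype.ext (Subtype.ext_iff.1 hab :))
  · intro G _ _ P H hH hHP hK hP
    set N := Subgroup.normalizer (H : Set G) with hNdef
    set S' := (P : Subgroup G) ⊓ N with hS'
    have hS'p : IsPGroup p ↥S' := P.2.to_inf_left
    have hWf := isConjugacyFunctor_inducedFunctor (G := G) hW
    have hne : S' ≠ ⊥ := fun he => hH (le_bot_iff.1 (he ▸ le_inf hHP Subgroup.le_normalizer))
    have hcomp := hK (inducedFunctor W S') ((inducedFunctor_le W S').trans inf_le_left)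
      (functor_ne_bot hWf hS'p hne) (nrm_le_nrm_functor hWf hS'p)
    refine ⟨hP.1.trans (isSec_subgroup N), ?_⟩
    refine Transfer.hasNormalPComplement_of_injective hcomp
      ((N.subtype.comp (nrm _).subtype).codRestrict _ fun x => ?_) ?_
    · have h1 : N.subtype x ∈ nrm ((inducedFunctor W (S'.subgroupOf N)).map N.subtype) :=
        Subgroup.le_normalizer_map N.subtype ⟨x, x.2, rfl⟩
      rwa [← inducedFunctor_map hW N.subtype (S'.subgroupOf N) (hS'p.comap_subtype) N.subtype_injective.injOn,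
        Subgroup.map_subgroupOf_eq_of_le inf_le_right] at h1
    · intro a b hab
      exact Subtype.ext (Subtype.ext (Subtype.ext_iff.1 hab :))
  · intro G _ _ P V _ hV hVP hK hP
    refine ⟨hP.1.trans (isSec_quotient V), ?_⟩
    set f := QuotientGroup.mk' V with hf
    have hs := QuotientGroup.mk'_surjective V
    have hWf := isConjugacyFunctor_inducedFunctor (G := G ⧸ V) hW
    set P' := (P : Subgroup G).map f with hP'
    have hP'p : IsPGroup p ↥P' := P.2.map f
    set K := (inducedFunctor W P').comap f with hKdef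
    have hmapK : K.map f = inducedFunctor W P' := Subgroup.map_comap_eq_self_of_surjective hs _
    have hVK : V < K := by
      refine lt_of_le_of_ne (fun v hv => ?_) fun he => ?_
      · show f v ∈ inducedFunctor W P'
        rw [show f v = 1 from (QuotientGroup.eq_one_iff v).2 hv]
        exact Subgroup.one_mem _
      · have hbot : inducedFunctor W P' = ⊥ := by
          rw [← hmapK, ← he, hf, QuotientGroup.map_mk'_self]
        refine functor_ne_bot hWf hP'p (fun h0 => hVP.not_ge ?_) hbot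
        rw [hP', Subgroup.map_eq_bot_iff, hf, QuotientGroup.ker_mk'] at h0
        exact h0
    have hKP : K ≤ (P : Subgroup G) := by
      refine (Subgroup.comap_mono (inducedFunctor_le W P')).trans ?_
      rw [hP', Subgroup.comap_map_eq, hf, QuotientGroup.ker_mk', sup_of_le_left hVP.le]
    have hPK : (P : Subgroup G) ≤ nrm K := fun x hx =>
      Subgroup.le_normalizer_comap f (le_nrm_functor hWf hP'p (Subgroup.mem_map_of_mem f hx))
    refine complement_of_injective_image f ?_ (hK K hVK hKP hPK)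
    show nrm (inducedFunctor W P') = (nrm K).map f
    have h2 := Subgroup.comap_normalizer_eq_of_le_range (f := f) (H := inducedFunctor W P')
      (by rw [MonoidHom.range_eq_top_of_surjective f hs]; exact le_top)
    show Subgroup.normalizer ((inducedFunctor W P' : Subgroup (G ⧸ V)) : Set (G ⧸ V)) =
      (Subgroup.normalizer ((K : Subgroup G) : Set G)).map f
    rw [hKdef, ← h2, Subgroup.map_comap_eq_self_of_surjective hs]
  · intro G _ _ P N _ hcop hP
    refine ⟨hP.1.trans (isSec_quotient N), ?_⟩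
    refine complement_of_injective_image (QuotientGroup.mk' N) ?_ hP.2
    rw [inducedFunctor_map hW (QuotientGroup.mk' N) _ P.2 (injOn_mk_of_coprime P.2 N hcop),
      map_nrm_of_coprime (P.2.to_le (inducedFunctor_le W _)) N hcop]
  · intro G _ _ P V K hP hred
    exact hfinal G P V K hP.1 hred hP.2

/-- In a reduced group `W(P)` is not normal when its normaliser has a complement. -/
theorem not_normal_of_reduced {G : Type u} [Group G] [Finite G] {P V K : Subgroup G}
    (hred : IsReduced p P V K) (hN : HasNormalPComplement p ↥(nrm (inducedFunctor W P))) :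
    ¬ (inducedFunctor W P).Normal := fun hn =>
  hred.not_complement ((Transfer.hasNormalPComplement_congr
    ((MulEquiv.subgroupCongr (Subgroup.normalizer_eq_top_iff.2 hn)).trans Subgroup.topEquiv)).1 hN)

section Reduced

variable {G : Type u} [Group G] [Finite G] {P : Sylow p G} {V K : Subgroup G}
  (hred : IsReduced p (P : Subgroup G) V K)
include hred

theorem IsReduced.constr : Constr p G := by
  show Subgroup.centralizer ((pCore p G : Subgroup G) : Set G) ≤ pCore p G
  rw [← hred.eq_pCore]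
  exact hred.centralizer_le

theorem IsReduced.isPGroup_quotient_K : letI := hred.normal; IsPGroup p (G ⧸ K) := by
  haveI := hred.normal
  refine IsPGroup.of_surjective P.2 ((QuotientGroup.mk' K).comp (P : Subgroup G).subtype) ?_
  intro q
  obtain ⟨g, rfl⟩ := QuotientGroup.mk'_surjective K q
  obtain ⟨a, ha, b, hb, rfl⟩ := Subgroup.mem_sup_of_normal_right.1
    (hred.sup_eq_top ▸ Subgroup.mem_top g)
  refine ⟨⟨a, ha⟩, ?_⟩
  show QuotientGroup.mk' K a = _
  rw [map_mul, show QuotientGroup.mk' K b = 1 from (QuotientGroup.eq_one_iff b).2 hb, mul_one]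

/-- An element of `P` of degree below `p` acting nontrivially on a chief factor inside `V` is
impossible in a reduced group. -/
theorem IsReduced.no_small_degree {g : G} (hg : g ∈ (P : Subgroup G)) {U X : Subgroup G}
    (h : IsChiefFactor U X) (hUV : U ≤ pCore p G)
    (hdeg : iterCommutator U (Subgroup.zpowers g) (p - 1) ≤ X) : ⁅U, Subgroup.zpowers g⁆ ≤ X := by
  haveI := h.2.1
  haveI := h.2.2.1
  haveI := hred.normal
  haveI hVn : V.Normal := hred.eq_pCore ▸ inferInstance
  have hUp : IsPGroup p ↥U := Thompson.isPGroup_pCore.to_le hUV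
  set f := QuotientGroup.mk' X with hf
  set B := U.map f with hB
  haveI : B.Normal := Subgroup.Normal.map h.2.1 _ (QuotientGroup.mk'_surjective X)
  haveI := ChiefFactor.isMulCommutative_map h hUp
  let ρ : G →* (AddMonoid.End (Additive ↥B))ˣ := ((conjEnd B).comp f).toHomUnits
  have hker : ∀ x : G, ρ x = 1 ↔ x ∈ KInfEngel.facCent U X := by
    intro x
    constructor
    · intro hx
      refine Subgroup.mem_comap.2 (Subgroup.mem_centralizer_iff.2 fun b hb => ?_)
      have h1 := congrArg (fun e : (AddMonoid.End (Additive ↥B))ˣ => ((Additive.toMul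
        ((e : AddMonoid.End (Additive ↥B)) (Additive.ofMul ⟨b, hb⟩)) : ↥B) : G ⧸ X)) hx
      have h2 : f x * b * (f x)⁻¹ = b := h1
      exact (mul_inv_eq_iff_eq_mul.1 h2).symm
    · intro hx
      refine Units.ext (DFunLike.ext _ _ fun a => ?_)
      refine Additive.toMul.injective (Subtype.ext ?_)
      show f x * ((Additive.toMul a : ↥B) : G ⧸ X) * (f x)⁻¹ = _
      rw [← Subgroup.mem_centralizer_iff.1 hx _ (Additive.toMul a : ↥B).2, mul_inv_cancel_right]
      rfl
  have hVker : ∀ v ∈ V, ρ v = 1 := fun v hv => (hker v).2 (KInfEngel.le_facCent.2 (by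
    rw [Subgroup.commutator_comm]
    exact ChiefFactor.commutator_le_of_normal_pgroup h hUp (P.2.to_le hred.le_sylow)) hv)
  have hR : ((p : ℕ) : AddMonoid.End (Additive ↥B)) = 0 :=
    natCast_end_eq_zero B fun a ha => ChiefFactor.pow_map_eq_one h hUp ha
  have hg1 : ((ρ g : AddMonoid.End (Additive ↥B)) - 1) ^ (p - 1) = 0 := by
    refine conjEnd_sub_one_pow_eq_zero B ?_
    rw [← MonoidHom.map_zpowers, hB, ← map_iterCommutator, Subgroup.map_eq_bot_iff, hf,
      QuotientGroup.ker_mk']
    exact hdeg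
  obtain ⟨n, hn⟩ := P.2 ⟨g, hg⟩
  have hcomm := commute_of_unipotent hR (ρ g)
    ⟨n, by rw [← map_pow, show g ^ p ^ n = 1 from congrArg Subtype.val hn, map_one]⟩ hg1
    (ρ '' (K : Set G))
    (by
      rintro _ ⟨x, hx, rfl⟩ _ ⟨y, hy, rfl⟩
      rw [← commutatorElement_eq_one_iff_commute, ← map_commutatorElement]
      exact hVker _ (hred.comm_mem x hx y hy))
    (by
      rintro _ ⟨x, hx, rfl⟩
      exact ⟨g * x * g⁻¹, hred.normal.conj_mem x hx g, by rw [map_mul, map_mul, map_inv]⟩)
    (by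
      rintro _ ⟨x, hx, rfl⟩
      refine ⟨V.relIndex K, hred.coprime, ?_⟩
      rw [← map_pow]
      refine hVker _ ?_
      exact Subgroup.pow_index_mem (V.subgroupOf K) (⟨x, hx⟩ : ↥K))
  -- the elements of `P` commuting with the action of `K`
  set F := KInfEngel.facCent U X with hF
  haveI : F.Normal := (Subgroup.normal_centralizer).comap f
  let D₁ : Subgroup G := (P : Subgroup G) ⊓ (Subgroup.centralizer (ρ '' (K : Set G))).comap ρ
  have hDn : (D₁ ⊔ F).Normal := by
    rw [← Subgroup.normalizer_eq_top_iff, eq_top_iff, ← hred.sup_eq_top]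
    refine sup_le (le_nrm_sup ?_ (by rw [nrm_eq_top]; exact le_top)) ?_
    · intro x hx
      refine mem_nrm_of_forall fun d hd => ⟨?_, Subgroup.mem_centralizer_iff.2 ?_⟩
      · exact (P : Subgroup G).mul_mem ((P : Subgroup G).mul_mem hx hd.1)
          ((P : Subgroup G).inv_mem hx)
      · rintro _ ⟨k, hk, rfl⟩
        have h1 := Subgroup.mem_centralizer_iff.1 hd.2 (ρ (x⁻¹ * k * x))
          ⟨_, hred.normal.conj_mem' k hk x, rfl⟩
        simp only [map_mul, map_inv] at h1 ⊢
        calc ρ k * (ρ x * ρ d * (ρ x)⁻¹) = ρ x * ((ρ x)⁻¹ * ρ k * ρ x * ρ d) * (ρ x)⁻¹ := by group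
          _ = ρ x * (ρ d * ((ρ x)⁻¹ * ρ k * ρ x)) * (ρ x)⁻¹ := by rw [h1]
          _ = ρ x * ρ d * (ρ x)⁻¹ * ρ k := by group
    · intro k hk
      refine mem_nrm_of_forall fun z hz => ?_
      obtain ⟨d, hd, c, hc, rfl⟩ := Subgroup.mem_sup_of_normal_right.1 hz
      rw [show k * (d * c) * k⁻¹ = d * ((d⁻¹ * k * d * k⁻¹) * (k * c * k⁻¹)) by group]
      refine Subgroup.mul_mem_sup hd (F.mul_mem ?_ ((inferInstance : F.Normal).conj_mem c hc k))
      rw [hF, ← hker]
      have h1 := Subgroup.mem_centralizer_iff.1 hd.2 (ρ k) ⟨k, hk, rfl⟩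
      rw [map_mul, map_mul, map_mul, map_inv, map_inv, mul_assoc ((ρ d)⁻¹), h1, inv_mul_cancel_left,
        mul_inv_cancel]
  have hpow : ∀ x ∈ D₁ ⊔ F, ∃ k : ℕ, x ^ p ^ k ∈ F := by
    intro x hx
    obtain ⟨d, hd, c, hc, rfl⟩ := Subgroup.mem_sup_of_normal_right.1 hx
    obtain ⟨k, hk⟩ := P.2 ⟨d, hd.1⟩
    refine ⟨k, ?_⟩
    rw [hF, ← hker, map_pow, map_mul, (hker c).2 hc, mul_one, ← map_pow,
      show d ^ p ^ k = 1 from congrArg Subtype.val hk, map_one]
  refine le_trans (Subgroup.commutator_mono le_rfl (Subgroup.zpowers_le.2 ?_))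
    (commutator_le_of_forall_pow h hUp hpow)
  refine Subgroup.mem_sup_left ⟨hg, Subgroup.mem_centralizer_iff.2 fun y hy => ?_⟩
  exact ((hcomm y hy).eq).symm

/-- All sections of a reduced group are stable for odd `p`. -/
theorem IsReduced.stable (hp2 : p ≠ 2) : ∀ (L R : Subgroup G) [(R.subgroupOf L).Normal],
    IsNormalizerPStable p (↥L ⧸ R.subgroupOf L) := by
  haveI := hred.normal
  refine S2004.result hp2 fun Y _ _ hinv => ?_
  have htwo : ∀ T : Subgroup G, IsPGroup 2 ↥T → ∀ a ∈ T, ∀ b ∈ T, Commute a b := by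
    intro T hT a ha b hb
    have hVp : IsPGroup p ↥V := P.2.to_le hred.le_sylow
    have hTV : ∀ x ∈ T, x ∈ V → x = 1 := fun x hx hxV => by
      obtain ⟨i, hi⟩ := hT ⟨x, hx⟩
      obtain ⟨j, hj⟩ := hVp ⟨x, hxV⟩
      exact orderOf_eq_one_iff.1 (Nat.eq_one_of_dvd_coprimes
        (((Nat.coprime_primes Nat.prime_two hp.out).2 (Ne.symm hp2)).pow i j)
        (orderOf_dvd_of_pow_eq_one (congrArg Subtype.val hi))
        (orderOf_dvd_of_pow_eq_one (congrArg Subtype.val hj)))
    have hTK : ∀ x ∈ T, x ∈ K := fun x hx => by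
      obtain ⟨i, hi⟩ := hT ⟨x, hx⟩
      obtain ⟨j, hj⟩ := ConjFunctor.IsReduced.isPGroup_quotient_K hred (QuotientGroup.mk' K x)
      refine (QuotientGroup.eq_one_iff x).1 (orderOf_eq_one_iff.1 (Nat.eq_one_of_dvd_coprimes
        (((Nat.coprime_primes Nat.prime_two hp.out).2 (Ne.symm hp2)).pow i j)
        ((orderOf_map_dvd (QuotientGroup.mk' K) x).trans
          (orderOf_dvd_of_pow_eq_one (congrArg Subtype.val hi)))
        (orderOf_dvd_of_pow_eq_one hj)))
    exact commutatorElement_eq_one_iff_commute.1 (hTV _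
      (Subgroup.commutator_le_self T (Subgroup.commutator_mem_commutator ha hb))
      (hred.comm_mem a (hTK a ha) b (hTK b hb)))
  -- `SL(2, p)` has non-commuting 2-elements
  obtain ⟨L, π, hπ⟩ := LocalEven61.exists_surjective_of_involves
    (LocalEven61.involves_of_subgroup _ hinv)
  obtain ⟨x, y, hxy⟩ := ZMod.sq_add_sq p (-1)
  let w : Matrix.SpecialLinearGroup (Fin 2) (ZMod p) := ⟨!![0, -1; 1, 0], by simp [Matrix.det_fin_two]⟩
  let v : Matrix.SpecialLinearGroup (Fin 2) (ZMod p) := ⟨!![x, y; y, -x], by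
    rw [Matrix.det_fin_two_of]; linear_combination -hxy⟩
  have hw4 : w ^ 4 = 1 := by
    apply Subtype.ext
    rw [Matrix.SpecialLinearGroup.coe_pow, Matrix.SpecialLinearGroup.coe_one, pow_succ, pow_succ,
      pow_two]
    ext i j
    fin_cases i <;> fin_cases j <;> simp [w, Matrix.mul_apply, Fin.sum_univ_two]
  have hvinv : v⁻¹ = ⟨!![-x, -y; -y, x], by rw [Matrix.det_fin_two_of]; linear_combination -hxy⟩ := by
    apply Subtype.ext
    rw [Matrix.SpecialLinearGroup.coe_inv, Matrix.adjugate_fin_two]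
    simp [v]
  have hv4 : v ^ 4 = 1 := by
    have h2 : (v ^ 2 : Matrix.SpecialLinearGroup (Fin 2) (ZMod p)).1 = -1 := by
      rw [Matrix.SpecialLinearGroup.coe_pow, pow_two]
      ext i j
      fin_cases i <;> fin_cases j <;> simp [v, Matrix.mul_apply, Fin.sum_univ_two] <;>
        first | linear_combination hxy | linear_combination -hxy | linear_combination (0 : ZMod p) * hxy
    apply Subtype.ext
    rw [show v ^ 4 = v ^ 2 * v ^ 2 by rw [← pow_add], Matrix.SpecialLinearGroup.coe_mul, h2,
      Matrix.SpecialLinearGroup.coe_one]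
    simp
  have hwinv : w⁻¹ = ⟨!![0, 1; -1, 0], by simp [Matrix.det_fin_two]⟩ := by
    apply Subtype.ext
    rw [Matrix.SpecialLinearGroup.coe_inv, Matrix.adjugate_fin_two]
    simp [w]
  have hvw : v * w * v⁻¹ = w⁻¹ := by
    rw [hvinv, hwinv]
    apply Subtype.ext
    show (!![x, y; y, -x] : Matrix (Fin 2) (Fin 2) (ZMod p)) * !![0, -1; 1, 0] * !![-x, -y; -y, x] =
      !![0, 1; -1, 0]
    ext i j
    fin_cases i <;> fin_cases j <;> simp [v, w, Matrix.mul_apply, Fin.sum_univ_two] <;>
      first | linear_combination hxy | linear_combination -hxy | linear_combination (0 : ZMod p) * hxy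
  have hne : ¬ Commute v w := fun hc => by
    have h1 : w = w⁻¹ := by rw [← hvw, hc.eq, mul_inv_cancel_right]
    have h2 : w 0 1 = (w⁻¹ : Matrix.SpecialLinearGroup (Fin 2) (ZMod p)) 0 1 := by rw [← h1]
    rw [hwinv] at h2
    simp [w] at h2
    have h3 : ((2 : ℕ) : ZMod p) = 0 := by push_cast; linear_combination -h2
    rw [ZMod.natCast_eq_zero_iff] at h3
    exact hp2 ((Nat.prime_dvd_prime_iff_eq hp.out Nat.prime_two).1 h3)
  have hnorm : Subgroup.zpowers v ≤ Subgroup.normalizer
      ((Subgroup.zpowers w : Subgroup (Matrix.SpecialLinearGroup (Fin 2) (ZMod p))) :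
        Set (Matrix.SpecialLinearGroup (Fin 2) (ZMod p))) := by
    rw [Subgroup.zpowers_le]
    refine mem_nrm_of_forall fun z hz => ?_
    obtain ⟨k, rfl⟩ := Subgroup.mem_zpowers_iff.1 hz
    rw [← conj_zpow, hvw]
    exact Subgroup.zpow_mem _ (Subgroup.inv_mem _ (Subgroup.mem_zpowers w)) k
  have hp4 : ∀ a : Matrix.SpecialLinearGroup (Fin 2) (ZMod p), a ^ 4 = 1 →
      IsPGroup 2 ↥(Subgroup.zpowers a) := fun a ha z => by
    obtain ⟨k, hk⟩ := Subgroup.mem_zpowers_iff.1 z.2
    refine ⟨2, Subtype.ext ?_⟩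
    rw [SubmonoidClass.coe_pow, ← hk, ← zpow_natCast, ← zpow_mul, mul_comm, zpow_mul, zpow_natCast,
      show 2 ^ 2 = 4 from rfl, ha, one_zpow]
    rfl
  have h2 : IsPGroup 2 ↥(Subgroup.zpowers v ⊔ Subgroup.zpowers w) :=
    IsPGroup.to_sup_of_normal_right' (hp4 v hv4) (hp4 w hw4) hnorm
  obtain ⟨E, hE⟩ : ∃ E : Subgroup G, IsPGroup 2 ↥E ∧ ∀ z ∈ Subgroup.zpowers v ⊔ Subgroup.zpowers w,
      ∃ l : ↥L, (l : G) ∈ E ∧ π l = z := by
    haveI : Fact (Nat.Prime 2) := ⟨Nat.prime_two⟩
    set U2 := Subgroup.zpowers v ⊔ Subgroup.zpowers w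
    obtain ⟨Q⟩ : Nonempty (Sylow 2 ↥(U2.comap π)) := inferInstance
    let πL : ↥(U2.comap π) →* ↥U2 := π.subgroupComap U2
    have hπL : Function.Surjective πL := π.subgroupComap_surjective_of_surjective U2 hπ
    have htop : ((Q.mapSurjective hπL : Sylow 2 ↥U2) : Subgroup ↥U2) = ⊤ :=
      ((Q.mapSurjective hπL).is_maximal' (h2.to_subgroup ⊤) le_top).symm
    refine ⟨((Q : Subgroup ↥(U2.comap π)).map (U2.comap π).subtype).map L.subtype,
      (Q.2.map _).map _, fun z hz => ?_⟩
    obtain ⟨l, hl, hlz⟩ : (⟨z, hz⟩ : ↥U2) ∈ ((Q.mapSurjective hπL : Sylow 2 ↥U2) : Subgroup ↥U2) := by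
      rw [htop]; trivial
    exact ⟨l.1, ⟨l.1, ⟨l, hl, rfl⟩, rfl⟩, congrArg Subtype.val hlz⟩
  obtain ⟨a, ha, hav⟩ := hE.2 v (Subgroup.mem_sup_left (Subgroup.mem_zpowers v))
  obtain ⟨b, hb, hbw⟩ := hE.2 w (Subgroup.mem_sup_right (Subgroup.mem_zpowers w))
  refine hne ?_
  rw [← hav, ← hbw]
  have : Commute a b := Subtype.ext (htwo E hE.1 a ha b hb).eq
  exact this.map π

end Reduced

/-- A subgroup controlling strong fusion whose normaliser has a normal `p`-complement. -/
theorem hasNormalPComplement_of_controlsStrongFusion {G : Type u} [Group G] [Finite G]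
    {U : Subgroup G} (hctl : ControlsStrongFusion p U) (hN : HasNormalPComplement p ↥(nrm U)) :
    HasNormalPComplement p G := by
  obtain ⟨T, hUT, hT⟩ := hctl
  have hTN : (T : Subgroup G) ≤ nrm U := by
    intro t ht
    obtain ⟨x, hx, he⟩ := (hT ((T : Subgroup G) : Set G) subset_rfl).2 t (by
      rintro _ ⟨a, ha, rfl⟩
      exact (T : Subgroup G).mul_mem ((T : Subgroup G).mul_mem ht ha) ((T : Subgroup G).inv_mem ht))
    refine mem_nrm_of_forall fun u hu => ?_
    rw [he u (hUT hu)]
    exact conj_mem_of_nrm hx hu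
  refine Transfer.hasNormalPComplement_of_normalizer_centralizer T fun Q hQT _ g hg hgp => ?_
  obtain ⟨x, hx, he⟩ := (hT (Q : Set G) (SetLike.coe_subset_coe.2 hQT)).2 g (by
    rintro _ ⟨a, ha, rfl⟩
    exact hQT (conj_mem_of_nrm hg ha))
  have hxQ : x ∈ nrm Q := mem_nrm_of_forall fun q hq => by
    rw [← he q hq]; exact conj_mem_of_nrm hg hq
  obtain ⟨k, hk⟩ := exists_pow_mem_of_forall_coprime (p := p) (H := nrm U ⊓ nrm Q)
    (K := Subgroup.centralizer (Q : Set G)) (fun y hy hyc => by
      refine Subgroup.mem_centralizer_iff.2 fun q hq => ?_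
      have hQN : Q ≤ nrm U := hQT.trans hTN
      have := Transfer.mem_centralizer_of_hasNormalPComplement hN (Q := Q.subgroupOf (nrm U))
        ((T.2.to_le hQT).comap_subtype) (g := ⟨y, hy.1⟩)
        (by
          rw [← Subgroup.subgroupOf_normalizer_eq hQN]
          exact hy.2)
        (by rwa [Subgroup.orderOf_mk])
      exact congrArg Subtype.val (Subgroup.mem_centralizer_iff.1 this ⟨q, hQN hq⟩ hq))
    (⟨hx, hxQ⟩ : x ∈ nrm U ⊓ nrm Q)
  have hpow : ∀ j : ℕ, ∀ q ∈ Q, g ^ j * q * (g ^ j)⁻¹ = x ^ j * q * (x ^ j)⁻¹ := by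
    intro j
    induction j with
    | zero => simp
    | succ j ih =>
      intro q hq
      rw [pow_succ, pow_succ, show g ^ j * g * q * (g ^ j * g)⁻¹ = g ^ j * (g * q * g⁻¹) * (g ^ j)⁻¹ by
        group, ih _ (conj_mem_of_nrm hg hq), he q hq]
      group
  have hgk : g ^ p ^ k ∈ Subgroup.centralizer (Q : Set G) := by
    refine Subgroup.mem_centralizer_iff.2 fun q hq => ?_
    have h2 := hpow (p ^ k) q hq
    rw [← Subgroup.mem_centralizer_iff.1 hk q hq, mul_inv_cancel_right] at h2
    exact (mul_inv_eq_iff_eq_mul.1 h2).symm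
  obtain ⟨m, hm⟩ := exists_pow_eq_self_of_coprime (hgp.symm.pow_left k)
  rw [← hm]
  exact Subgroup.pow_mem _ hgk m

end Cfsg.Agent.ConjFunctor
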