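import Cfsg.Agent.ConjFunctor.KInfEngel

/-!
Degree of an element on the chief factors of a normal `p`-subgroup, from its degrees inside a
critical subgroup.
-/

set_option autoImplicit false

open scoped commutatorElement

namespace Cfsg.Agent.ConjFunctor

open Cfsg KInfEngel

variable {G : Type*} [Group G]

/-- The three subgroup lemma modulo a subgroup normalised by the three subgroups. -/
theorem commutator_le_of_rotate_nrm {A B C W : Subgroup G} (hA : A ≤ nrm W) (hB : B ≤ nrm W)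
    (hC : C ≤ nrm W) (h1 : ⁅⁅B, C⁆, A⁆ ≤ W) (h2 : ⁅⁅C, A⁆, B⁆ ≤ W) : ⁅⁅A, B⁆, C⁆ ≤ W := by
  set N := nrm W with hN
  haveI : (W.subgroupOf N).Normal := Subgroup.normal_in_normalizer
  set f := QuotientGroup.mk' (W.subgroupOf N) with hf
  have key : ∀ {a b c : Subgroup G}, a ≤ N → b ≤ N → c ≤ N →
      (⁅⁅a, b⁆, c⁆ ≤ W ↔
        ⁅⁅(a.subgroupOf N).map f, (b.subgroupOf N).map f⁆, (c.subgroupOf N).map f⁆ = ⊥) := by
    intro a b c ha hb hc
    rw [← Subgroup.map_commutator, ← Subgroup.map_commutator, Subgroup.map_eq_bot_iff, hf,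
      QuotientGroup.ker_mk']
    conv_lhs => rw [← Subgroup.map_subgroupOf_eq_of_le ha, ← Subgroup.map_subgroupOf_eq_of_le hb,
      ← Subgroup.map_subgroupOf_eq_of_le hc, ← Subgroup.map_commutator, ← Subgroup.map_commutator]
    exact Subgroup.map_le_iff_le_comap
  exact (key hA hB hC).2 (Subgroup.commutator_commutator_eq_bot_of_rotate
    ((key hB hC hA).1 h1) ((key hC hA hB).1 h2))

theorem zpowers_le_nrm_iterCommutator {Y : Subgroup G} [Y.Normal] (g : G) (c : ℕ) :
    Subgroup.zpowers g ≤ nrm (iterCommutator Y (Subgroup.zpowers g) c) :=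
  Subgroup.le_normalizer_iff_commutator_le_left.2
    (iterCommutator_antitone (by rw [nrm_eq_top]; exact le_top) c.le_succ)

theorem le_nrm_sup {A B T : Subgroup G} (hA : T ≤ nrm A) (hB : T ≤ nrm B) : T ≤ nrm (A ⊔ B) := by
  intro t ht
  rw [mem_nrm_iff_cnj, cnj, Subgroup.map_sup]
  congr 1
  · exact mem_nrm_iff_cnj.1 (hA ht)
  · exact mem_nrm_iff_cnj.1 (hB ht)

/-- The degree of an element on a group pairing two others. -/
theorem commutator_iter_le {U X X' Y Y' : Subgroup G} [U.Normal] [X.Normal] [Y.Normal] [Y'.Normal]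
    (hY' : Y' ≤ Y) {g : G} {i j : ℕ} (hX : iterCommutator X (Subgroup.zpowers g) i ≤ X')
    (hX'U : ⁅X', U⁆ ≤ Y') (hY : iterCommutator Y (Subgroup.zpowers g) j ≤ Y') (hXU : ⁅X, U⁆ ≤ Y)
    (hYU : ⁅Y, U⁆ ≤ Y') (hYX : ⁅Y, X⁆ ≤ Y') :
    ⁅X, iterCommutator U (Subgroup.zpowers g) (i + j - 1)⁆ ≤ Y' := by
  set Z := Subgroup.zpowers g with hZ
  set W : ℕ → Subgroup G := fun c => iterCommutator Y Z c ⊔ Y' with hW
  have hWY : ∀ c, W c ≤ Y := fun c =>
    sup_le (iterCommutator_le_self (by rw [nrm_eq_top]; exact le_top) c) hY'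
  have hnrm : ∀ c (T : Subgroup G), ⁅Y, T⁆ ≤ Y' → T ≤ nrm (W c) := fun c T hT =>
    Subgroup.le_normalizer_iff_commutator_le_left.2
      (((Subgroup.commutator_mono (hWY c) le_rfl).trans hT).trans le_sup_right)
  have hanti : ∀ {c d}, c ≤ d → W d ≤ W c := fun h =>
    sup_le_sup_right (iterCommutator_antitone (by rw [nrm_eq_top]; exact le_top) h) _
  have hZW : ∀ c, ⁅W c, Z⁆ ≤ W (c + 1) := fun c => by
    have h1 : ⁅W c, Z⁆.map (QuotientGroup.mk' Y') = (W (c + 1)).map (QuotientGroup.mk' Y') := by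
      rw [Subgroup.map_commutator, hW]
      simp only [Subgroup.map_sup, QuotientGroup.map_mk'_self, sup_bot_eq, iterCommutator_succ,
        Subgroup.map_commutator]
    have h2 := Subgroup.map_le_iff_le_comap.1 h1.le
    rwa [Subgroup.comap_map_eq, QuotientGroup.ker_mk', sup_eq_left.2 (le_sup_right : Y' ≤ W (c + 1))]
      at h2
  have key : ∀ n a, ⁅iterCommutator X Z a, iterCommutator U Z n⁆ ≤ W (n + a + 1 - i) := by
    intro n
    induction n with
    | zero =>
      intro a
      by_cases ha : a < i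
      · rw [show 0 + a + 1 - i = 0 by omega]
        exact (Subgroup.commutator_mono
          (iterCommutator_le_self (by rw [nrm_eq_top]; exact le_top) a) le_rfl).trans
          (hXU.trans le_sup_left)
      · exact ((Subgroup.commutator_mono ((iterCommutator_antitone
          (by rw [nrm_eq_top]; exact le_top) (not_lt.1 ha)).trans hX) le_rfl).trans hX'U).trans
          le_sup_right
    | succ n ih =>
      intro a
      have hUn : iterCommutator U Z n ≤ U :=
        iterCommutator_le_self (by rw [nrm_eq_top]; exact le_top) n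
      have hXa : iterCommutator X Z a ≤ X :=
        iterCommutator_le_self (by rw [nrm_eq_top]; exact le_top) a
      rw [iterCommutator_succ, Subgroup.commutator_comm]
      refine commutator_le_of_rotate_nrm
        (hnrm _ _ ((Subgroup.commutator_mono le_rfl hUn).trans hYU))
        (le_nrm_sup (zpowers_le_nrm_iterCommutator g _) (by rw [nrm_eq_top]; exact le_top))
        (hnrm _ _ ((Subgroup.commutator_mono le_rfl hXa).trans hYX)) ?_ ?_
      · rw [Subgroup.commutator_comm Z, ← iterCommutator_succ]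
        exact (ih (a + 1)).trans (hanti (by omega))
      · exact ((Subgroup.commutator_mono (ih a) le_rfl).trans (hZW _)).trans (hanti (by omega))
  refine (key (i + j - 1) 0).trans ((hanti (show j ≤ i + j - 1 + 0 + 1 - i by omega)).trans ?_)
  exact sup_le hY le_rfl

theorem iter_le_of_sup_eq {U U₀ V X : Subgroup G} [V.Normal] (hU : U₀ ⊔ V = U) {n : ℕ}
    (h : iterCommutator U₀ X n ≤ V) : iterCommutator U X n ≤ V := by
  rw [← QuotientGroup.ker_mk' V, ← Subgroup.map_eq_bot_iff, map_iterCommutator, ← hU,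
    Subgroup.map_sup, QuotientGroup.map_mk'_self, sup_bot_eq, ← map_iterCommutator,
    Subgroup.map_eq_bot_iff, QuotientGroup.ker_mk']
  exact h

variable [Finite G] {p : ℕ} [Fact p.Prime]

/-- Degree on the chief factors in `P` from the degrees inside a self-centralising part `Q`. -/
theorem iter_le_of_critical {P Q : Subgroup G} [P.Normal] [Q.Normal] (hP : IsPGroup p ↥P)
    (hQP : Q ≤ P) (hcomm : ⁅P, Q⁆ ≤ KInf.zc Q)
    (hcent : P ⊓ Subgroup.centralizer (Q : Set G) ≤ Q) (g : G) {i j : ℕ} (hj : 1 ≤ j)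
    (hQi : ∀ U V : Subgroup G, IsChiefFactor U V → U ≤ Q →
      iterCommutator U (Subgroup.zpowers g) i ≤ V)
    (hZj : ∀ U V : Subgroup G, IsChiefFactor U V → U ≤ KInf.zc Q →
      iterCommutator U (Subgroup.zpowers g) j ≤ V)
    {U V : Subgroup G} (h : IsChiefFactor U V) (hUP : U ≤ P) :
    iterCommutator U (Subgroup.zpowers g) (i + j - 1) ≤ V := by
  haveI := h.2.1
  haveI := h.2.2.1
  obtain ⟨U₀, ⟨hU₀n, hU₀U, hU₀V⟩, hmin⟩ :=
    (Set.toFinite {N : Subgroup G | N.Normal ∧ N ≤ U ∧ ¬ N ≤ V}).exists_minimal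
      ⟨U, h.2.1, le_rfl, fun hle => h.1.not_ge hle⟩
  haveI := hU₀n
  have hsup : U₀ ⊔ V = U :=
    (h.2.2.2 _ (Subgroup.sup_normal U₀ V) le_sup_right (sup_le hU₀U h.1.le)).resolve_left
      fun he => hU₀V (he ▸ le_sup_left)
  refine iter_le_of_sup_eq hsup ?_
  have hproper : ∀ N : Subgroup G, N.Normal → N ≤ U₀ → N ≠ U₀ → N ≤ V := fun N hN hle hne => by
    by_contra hNV
    exact hne (le_antisymm hle (hmin ⟨hN, hle.trans hU₀U, hNV⟩ hle))
  by_cases hQ0 : U₀ ≤ Q
  · have hchief : IsChiefFactor U₀ (U₀ ⊓ V) := by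
      refine ⟨lt_of_le_of_ne inf_le_left fun he => hU₀V (inf_eq_left.1 he), hU₀n,
        Subgroup.normal_inf_normal _ _, fun N hN h1 h2 => ?_⟩
      by_cases hN0 : N = U₀
      · exact Or.inr hN0
      · exact Or.inl (le_antisymm (le_inf h2 (hproper N hN h2 hN0)) h1)
    exact ((iterCommutator_antitone (by rw [nrm_eq_top]; exact le_top)
      (by omega : i ≤ i + j - 1)).trans (hQi U₀ _ hchief hQ0)).trans inf_le_right
  · have hQU : ⁅Q, U₀⁆ ≠ ⊥ := fun he => hQ0 fun u hu => hcent ⟨hUP (hU₀U hu), by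
      rw [Subgroup.commutator_comm] at he
      exact Subgroup.commutator_eq_bot_iff_le_centralizer.1 he hu⟩
    obtain ⟨X, ⟨hXn, hXQ, hXU⟩, hXmin⟩ :=
      (Set.toFinite {N : Subgroup G | N.Normal ∧ N ≤ Q ∧ ⁅N, U₀⁆ ≠ ⊥}).exists_minimal
        ⟨Q, inferInstance, le_rfl, hQU⟩
    haveI := hXn
    have hXne : X ≠ ⊥ := fun he => hXU (by rw [he, Subgroup.commutator_bot_left])
    obtain ⟨X', hX'⟩ := exists_chiefFactor hXn hXne
    have hX'U : ⁅X', U₀⁆ = ⊥ := by
      by_contra hne
      exact hX'.1.not_ge (hXmin ⟨hX'.2.2.1, hX'.1.le.trans hXQ, hne⟩ hX'.1.le)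
    obtain ⟨Y', hY'⟩ := exists_chiefFactor (Subgroup.commutator_normal X U₀) hXU
    haveI := hY'.2.2.1
    have hYQ : ⁅X, U₀⁆ ≤ KInf.zc Q := (Subgroup.commutator_mono hXQ (hU₀U.trans hUP)).trans
      (by rw [Subgroup.commutator_comm]; exact hcomm)
    have hact : ⁅⁅X, U₀⁆, P⁆ ≤ Y' := ChiefFactor.commutator_le_of_normal_pgroup hY'
      ((hP.to_le hQP).to_le (hYQ.trans inf_le_left)) hP
    have key := commutator_iter_le hY'.1.le (U := U₀) (g := g) (hQi X X' hX' hXQ)
      (hX'U.le.trans bot_le) (hZj _ Y' hY' hYQ) le_rfl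
      ((Subgroup.commutator_mono le_rfl (hU₀U.trans hUP)).trans hact)
      ((Subgroup.commutator_mono le_rfl (hXQ.trans hQP)).trans hact)
    set K := U₀ ⊓ facCent X Y' with hK
    haveI : (facCent X Y').Normal := by
      haveI : (X.map (QuotientGroup.mk' Y')).Normal :=
        Subgroup.Normal.map hXn _ (QuotientGroup.mk'_surjective Y')
      exact (Subgroup.normal_centralizer).comap _
    have hKne : K ≠ U₀ := fun he => hY'.1.not_ge (by
      rw [Subgroup.commutator_comm]
      exact le_facCent.1 (inf_eq_left.1 he))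
    refine le_trans ?_ (hproper K (Subgroup.normal_inf_normal _ _) inf_le_left hKne)
    refine le_inf (iterCommutator_le_self (by rw [nrm_eq_top]; exact le_top) _) (le_facCent.2 ?_)
    rw [Subgroup.commutator_comm]
    exact key

end Cfsg.Agent.ConjFunctor
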