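import Cfsg.Agent.ConjFunctor.Sections
import Cfsg.Agent.LocalEven61.Qd
import Cfsg.Agent.LocalEven61.Involves
import Mathlib.Data.ZMod.Basic

/-!
No family of characteristic functors controls strong fusion in `Qd(p)`.
-/

set_option autoImplicit false

open scoped MatrixGroups

namespace Cfsg.Agent.ConjFunctor

open Cfsg LocalEven61
open Cfsg.Agent.PLocalB (upper)

universe u

variable {p : ℕ} [Fact p.Prime]

theorem lower_zero_of_conj_upper {A : SL(2, ZMod p)} {a : ZMod p} (ha : a ≠ 0)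
    (h : A * upper a * A⁻¹ ∈ upperGroup (ZMod p)) : A 1 0 = 0 := by
  rw [mem_upperGroup_iff] at h
  have h2 := h.1
  simp [Matrix.SpecialLinearGroup.coe_inv, Matrix.adjugate_fin_two, Matrix.mul_apply,
    Fin.sum_univ_two] at h2
  have h3 : A 1 0 * A 1 0 * a = 0 := by linear_combination -h2
  exact mul_self_eq_zero.1 ((mul_eq_zero.1 h3).resolve_right ha)

/-- The exchange of the two abelian normal subgroups of a Sylow subgroup of `Qd(p)`. -/
def qdSwap (x : ↥(Cfsg.qdOver (ZMod p))) : ↥(Cfsg.qdOver (ZMod p)) :=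
  qdAff ![(qdLin x : Matrix (Fin 2) (Fin 2) (ZMod p)) 0 1 * qdTrans x 1 - qdTrans x 0,
    (qdLin x : Matrix (Fin 2) (Fin 2) (ZMod p)) 0 1] (upper (qdTrans x 1))

theorem qdSwap_aff (t a b : ZMod p) :
    qdSwap (qdAff ![a, b] (upper t)) = qdAff ![t * b - a, t] (upper b) := by
  unfold qdSwap
  rw [qdLin_qdAff, qdTrans_qdAff]
  simp

theorem eq_aff_of_lin_mem {x : ↥(Cfsg.qdOver (ZMod p))} (hx : qdLin x ∈ upperGroup (ZMod p)) :
    ∃ t a b : ZMod p, x = qdAff ![a, b] (upper t) := by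
  obtain ⟨t, ht⟩ := hx
  refine ⟨t.toAdd, qdTrans x 0, qdTrans x 1, qd_ext ?_ ?_⟩
  · rw [qdLin_qdAff, ← ht]; rfl
  · rw [qdTrans_qdAff]; funext i; fin_cases i <;> rfl

theorem aff_mul_aff (t a b t' a' b' : ZMod p) :
    qdAff ![a, b] (upper t) * qdAff ![a', b'] (upper t') =
      qdAff ![a + a' + t * b', b + b'] (upper (t + t')) := by
  rw [qdAff_mul, PLocalB.upper_mul]
  congr 1
  funext i
  fin_cases i <;> simp [Matrix.vecHead, Matrix.vecTail] <;> ring

/-- The normalisers of the functor values at a Sylow subgroup of `Qd(p)` fix its central line. -/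
theorem qd_nrm_fixes_line {X : Type u} [Group X] [Finite X] (e : X ≃* ↥(Cfsg.qdOver (ZMod p))) :
    ∃ T : Sylow p X, ∀ W : ∀ (Q : Type u) [Group Q], Subgroup Q, IsCharPFunctor.{u} p W →
      ∀ g ∈ nrm (inducedFunctor W (T : Subgroup X)), qdLin (e g) 1 0 = 0 := by
  haveI : CharP (ZMod p) p := ZMod.charP p
  let lin : X →* SL(2, ZMod p) := qdLin.comp e.toMonoidHom
  have hlin : Function.Surjective lin := qdLin_surjective.comp e.surjective
  set T : Subgroup X := (upperGroup (ZMod p)).comap lin with hT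
  have hTp : IsPGroup p ↥T := by
    refine IsPGroup.comap_of_ker_isPGroup (upperSylow (F := ZMod p) (p := p)).2 lin ?_
    rw [show lin.ker = (qdLin (F := ZMod p)).ker.comap e.toMonoidHom from (MonoidHom.comap_ker _ _).symm]
    exact (isPGroup_ker_qdLin (F := ZMod p)).comap_of_injective e.toMonoidHom e.injective
  have hTsyl : IsSylowIn p T ⊤ := ⟨le_top, hTp, by
    rw [Subgroup.relIndex_top_right, hT, Subgroup.index_comap_of_surjective _ hlin]
    exact (upperSylow (F := ZMod p) (p := p)).not_dvd_index⟩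
  have hmemT : ∀ {x : X}, x ∈ T ↔ qdLin (e x) ∈ upperGroup (ZMod p) := Iff.rfl
  -- the swap automorphism of `T`
  have hswapT : ∀ x : X, x ∈ T → e.symm (qdSwap (e x)) ∈ T := by
    intro x hx
    obtain ⟨t, a, b, h⟩ := eq_aff_of_lin_mem (hmemT.1 hx)
    rw [hmemT, e.apply_symm_apply, h, qdSwap_aff, qdLin_qdAff]
    exact ⟨Multiplicative.ofAdd b, rfl⟩
  let φ : ↥T ≃* ↥T :=
    { toFun := fun x => ⟨e.symm (qdSwap (e x)), hswapT x x.2⟩
      invFun := fun x => ⟨e.symm (qdSwap (e x)), hswapT x x.2⟩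
      left_inv := fun x => by
        obtain ⟨t, a, b, h⟩ := eq_aff_of_lin_mem (hmemT.1 x.2)
        apply Subtype.ext
        show e.symm (qdSwap (e (e.symm (qdSwap (e x))))) = x
        rw [e.apply_symm_apply, h, qdSwap_aff, qdSwap_aff, mul_comm b t, sub_sub_cancel, ← h,
          e.symm_apply_apply]
      right_inv := fun x => by
        obtain ⟨t, a, b, h⟩ := eq_aff_of_lin_mem (hmemT.1 x.2)
        apply Subtype.ext
        show e.symm (qdSwap (e (e.symm (qdSwap (e x))))) = x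
        rw [e.apply_symm_apply, h, qdSwap_aff, qdSwap_aff, mul_comm b t, sub_sub_cancel, ← h,
          e.symm_apply_apply]
      map_mul' := fun x y => by
        obtain ⟨t, a, b, h⟩ := eq_aff_of_lin_mem (hmemT.1 x.2)
        obtain ⟨t', a', b', h'⟩ := eq_aff_of_lin_mem (hmemT.1 y.2)
        apply Subtype.ext
        show e.symm (qdSwap (e ((x : X) * y))) = e.symm (qdSwap (e x)) * e.symm (qdSwap (e y))
        rw [map_mul, h, h', aff_mul_aff, qdSwap_aff, qdSwap_aff, qdSwap_aff, ← map_mul e.symm,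
          aff_mul_aff]
        congr 2
        funext i
        fin_cases i
        · simp
          ring
        · rfl }
  -- normalisers of the values of the functors fix the line
  obtain ⟨T', hT'⟩ := hTsyl.exists_top
  refine ⟨T', fun W hW => ?_⟩
  rw [hT']
  suffices hN : ∀ g ∈ nrm (inducedFunctor W T), qdLin (e g) 1 0 = 0 from hN
  · intro g hg
    haveI : Nontrivial ↥T := by
      refine ⟨⟨e.symm (qdAff ![1, 0] (upper 0)), ?_⟩, 1, fun he => ?_⟩
      · rw [hmemT, e.apply_symm_apply, qdLin_qdAff]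
        exact ⟨Multiplicative.ofAdd 0, rfl⟩
      · have h1 : e (e.symm (qdAff ![(1 : ZMod p), 0] (upper 0))) = e 1 := congrArg e (Subtype.ext_iff.1 he)
        rw [e.apply_symm_apply, map_one, PLocalB.upper_zero, ← qdAff_zero_one] at h1
        have h2 := congrFun (congrArg qdTrans h1) 0
        rw [qdTrans_qdAff, qdTrans_qdAff] at h2
        exact one_ne_zero h2
    obtain ⟨x, hx, hx1⟩ : ∃ x ∈ W ↥T, x ≠ 1 := by
      by_contra hc
      push Not at hc
      exact hW.1 ↥T hTp inferInstance ((Subgroup.eq_bot_iff_forall _).2 hc)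
    have hφx : φ x ∈ W ↥T := hW.2 ↥T ↥T hTp φ ▸ Subgroup.mem_map_of_mem φ.toMonoidHom hx
    have hmem : ∀ y : ↥T, y ∈ W ↥T → g * (y : X) * g⁻¹ ∈ T := fun y hy =>
      inducedFunctor_le W T (conj_mem_of_nrm hg ⟨y, hy, rfl⟩)
    by_cases hlin1 : ∃ y ∈ W ↥T, qdLin (e (y : X)) ≠ 1
    · obtain ⟨y, hy, hy1⟩ := hlin1
      obtain ⟨a, ha⟩ := hmemT.1 y.2
      refine lower_zero_of_conj_upper (a := a.toAdd) (fun h0 => hy1 ?_) ?_
      · rw [← ha]
        show upper a.toAdd = 1
        rw [h0, PLocalB.upper_zero]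
      · have := hmemT.1 (hmem y hy)
        rwa [map_mul, map_mul, map_inv, map_mul, map_mul, map_inv, ← ha] at this
    · push Not at hlin1
      obtain ⟨t, a, b, h⟩ := eq_aff_of_lin_mem (hmemT.1 x.2)
      have ht := hlin1 x hx
      rw [h, qdLin_qdAff, ← PLocalB.upper_zero] at ht
      obtain rfl := PLocalB.upper_injective ht
      have hb := hlin1 _ hφx
      change qdLin (e (e.symm (qdSwap (e (x : X))))) = 1 at hb
      rw [e.apply_symm_apply, h, qdSwap_aff, qdLin_qdAff, ← PLocalB.upper_zero] at hb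
      obtain rfl := PLocalB.upper_injective hb
      rw [PLocalB.upper_zero] at h
      have ha : a ≠ 0 := by
        rintro rfl
        refine hx1 (Subtype.ext (e.injective ?_))
        rw [h, OneMemClass.coe_one, map_one, ← qdAff_zero_one]
        congr 1
        funext i
        fin_cases i <;> rfl
      -- the conjugate of `x` lies in `W` too
      obtain ⟨z, hz, hzx⟩ := conj_mem_of_nrm hg (show (x : X) ∈ inducedFunctor W T from ⟨x, hx, rfl⟩)
      obtain ⟨t', a', b', h'⟩ := eq_aff_of_lin_mem (hmemT.1 z.2)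
      have hφz : φ z ∈ W ↥T := hW.2 ↥T ↥T hTp φ ▸ Subgroup.mem_map_of_mem φ.toMonoidHom hz
      have hb' := hlin1 _ hφz
      change qdLin (e (e.symm (qdSwap (e (z : X))))) = 1 at hb'
      rw [e.apply_symm_apply, h', qdSwap_aff, qdLin_qdAff, ← PLocalB.upper_zero] at hb'
      obtain rfl := PLocalB.upper_injective hb'
      have h2 := congrArg (fun u => qdTrans (e u) 1) hzx
      simp only [Subgroup.coe_subtype, map_mul, map_inv, h, h', qd_conj_ker, qdTrans_qdAff] at h2
      rw [sl2_smul_apply] at h2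
      simp only [Matrix.cons_val_zero, Matrix.cons_val_one, mul_zero, add_zero] at h2
      exact (mul_eq_zero.1 h2.symm).resolve_right ha
/-- The witness of fusion that moves the central line. -/
theorem qd_witness {X : Type u} [Group X] [Finite X] (e : X ≃* ↥(Cfsg.qdOver (ZMod p)))
    (T : Sylow p X) : ∃ z g : X, z ∈ (T : Subgroup X) ∧ g * z * g⁻¹ ∈ (T : Subgroup X) ∧
      e z = qdAff ![1, 0] 1 ∧ e (g * z * g⁻¹) = qdAff ![0, 1] 1 := by
  haveI : CharP (ZMod p) p := ZMod.charP p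
  have hker : IsPGroup p ↥((qdLin (F := ZMod p)).ker.comap e.toMonoidHom) :=
    (isPGroup_ker_qdLin (F := ZMod p)).comap_of_injective e.toMonoidHom e.injective
  haveI : ((qdLin (F := ZMod p)).ker.comap e.toMonoidHom).Normal := inferInstance
  have hle : (qdLin (F := ZMod p)).ker.comap e.toMonoidHom ≤ (T : Subgroup X) :=
    (Thompson.le_pCore inferInstance hker).trans (Thompson.pCore_le_sylow T)
  have hzT : ∀ v : Fin 2 → ZMod p, e.symm (qdAff v 1) ∈ (T : Subgroup X) := fun v => hle <| by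
    show qdLin (e (e.symm (qdAff v 1))) = 1
    rw [e.apply_symm_apply, qdLin_qdAff]
  set z : X := e.symm (qdAff ![1, 0] 1) with hz
  set r : SL(2, ZMod p) := ⟨!![0, -1; 1, 0], by simp [Matrix.det_fin_two]⟩ with hr
  set g : X := e.symm (qdAff 0 r) with hg
  have hgz : g * z * g⁻¹ = e.symm (qdAff ![0, 1] 1) := by
    rw [hg, hz, ← map_inv e.symm, ← map_mul, ← map_mul, qd_conj_ker, qdLin_qdAff, hr]
    congr 2
    funext i
    fin_cases i <;> simp [Matrix.vecHead, Matrix.vecTail]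
  refine ⟨z, g, hzT _, ?_, e.apply_symm_apply _, ?_⟩
  · rw [hgz]; exact hzT _
  · rw [hgz, e.apply_symm_apply]

theorem qd_line_ne (c : ZMod p) : qdAff ![0, 1] (1 : SL(2, ZMod p)) ≠ qdAff ![c, 0] 1 := fun h => by
  have h5 := congrFun (congrArg qdTrans h) 1
  rw [qdTrans_qdAff, qdTrans_qdAff] at h5
  exact one_ne_zero h5

theorem qd_line_conj {x : ↥(Cfsg.qdOver (ZMod p))} (hx : qdLin x 1 0 = 0) (c : ZMod p) :
    x * qdAff ![c, 0] 1 * x⁻¹ = qdAff ![qdLin x 0 0 * c, 0] 1 := by
  rw [qd_conj_ker]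
  congr 1
  funext i
  rw [sl2_smul_apply]
  fin_cases i <;> simp [hx]

/-- `Qd(p)` has no family of functors controlling strong fusion. -/
theorem not_familyControls_qd {X : Type u} [Group X] [Finite X] (e : X ≃* ↥(Cfsg.qdOver (ZMod p)))
    {𝓦 : Set (∀ (Q : Type u) [Group Q], Subgroup Q)} (h𝓦 : ∀ W ∈ 𝓦, IsCharPFunctor.{u} p W) :
    ¬ FamilyControlsStrongFusionIn p (indFam 𝓦 X) ⊤ := by
  intro hctl
  obtain ⟨T, hT⟩ := qd_nrm_fixes_line e
  obtain ⟨z, g, hz, hgz, hez, hegz⟩ := qd_witness e T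
  have hfus := FamilyControlsStrongFusionIn.controls (indFam_isConjugacyFunctor h𝓦) hctl
    (isSylowIn_top T) {z} g (Subgroup.mem_top g) (Set.singleton_subset_iff.2 hz)
    (by rw [img, Set.image_singleton, Set.singleton_subset_iff]; exact hgz)
  have key : ∀ (A : Set X) (x : X), Fus (locN (indFam 𝓦 X) (T : Subgroup X) ⊤) ((T : Subgroup X) : Set X) A x →
      (∀ a ∈ A, ∃ c, e a = qdAff ![c, 0] 1) → ∀ a ∈ A, ∃ c, e (x * a * x⁻¹) = qdAff ![c, 0] 1 := by
    intro A x h
    induction h with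
    | refl h => intro hA a ha; rw [h a ha]; exact hA a ha
    | @step A M x y hM hx _ _ _ ih =>
      intro hA a ha
      rw [show y * x * a * (y * x)⁻¹ = y * (x * a * x⁻¹) * y⁻¹ by group]
      refine ih ?_ _ ⟨a, ha, rfl⟩
      rintro _ ⟨b, hb, rfl⟩
      obtain ⟨_, ⟨W, hW, rfl⟩, rfl⟩ := hM
      obtain ⟨c, hc⟩ := hA b hb
      exact ⟨_, by rw [map_mul, map_mul, map_inv, hc, qd_line_conj (hT W (h𝓦 W hW) x hx.2) c]⟩
  obtain ⟨c, hc⟩ := key _ _ hfus (by rintro a rfl; exact ⟨1, hez⟩) z rfl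
  exact qd_line_ne c (hegz.symm.trans hc)

/-- No functor value at a Sylow subgroup controls strong fusion in `Qd(p)`. -/
theorem not_controlsStrongFusion_qd {X : Type u} [Group X] [Finite X]
    (e : X ≃* ↥(Cfsg.qdOver (ZMod p))) {W : ∀ (Q : Type u) [Group Q], Subgroup Q}
    (hW : IsCharPFunctor.{u} p W)
    (h : ∀ T : Sylow p X, ControlsStrongFusion p (inducedFunctor W (T : Subgroup X))) : False := by
  obtain ⟨T, hT⟩ := qd_nrm_fixes_line e
  obtain ⟨T', -, hT'⟩ := h T
  obtain ⟨z, g, hz, hgz, hez, hegz⟩ := qd_witness e T'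
  obtain ⟨x, hx, he⟩ := (hT' {z} (Set.singleton_subset_iff.2 hz)).2 g
    (by rw [Set.image_singleton, Set.singleton_subset_iff]; exact hgz)
  have h1 : e (g * z * g⁻¹) = qdAff ![qdLin (e x) 0 0 * 1, 0] 1 := by
    rw [he z rfl, map_mul, map_mul, map_inv, hez, qd_line_conj (hT W hW x hx) 1]
  exact qd_line_ne _ (hegz.symm.trans h1)

end Cfsg.Agent.ConjFunctor
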