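import Cfsg.Agent.ConjFunctor.Stable
import Cfsg.Agent.ConjFunctor.QdFusion
import Cfsg.Agent.ConjFunctor.FusionReduction
import Cfsg.Agent.S2795

/-!
`Qd(p)` and families of functors controlling strong fusion in all sections.
-/

set_option autoImplicit false
set_option linter.style.haveILetI false

namespace Cfsg.Agent.ConjFunctor

universe u

variable {p : ℕ} [Fact p.Prime] {G : Type u} [Group G] [Finite G]

/-- A family controlling strong fusion in all sections forbids `Qd(p)`. -/
theorem not_involves_qd_of_familyControls {𝓦 : Set (∀ (Q : Type u) [Group Q], Subgroup Q)}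
    (h𝓦 : ∀ W ∈ 𝓦, IsCharPFunctor.{u} p W)
    (h : ∀ (K R : Subgroup G) [(R.subgroupOf K).Normal],
      FamilyControlsStrongFusionIn p (indFam 𝓦 (↥K ⧸ R.subgroupOf K)) ⊤) :
    ¬ Cfsg.Involves ↥(Cfsg.qd p) G := by
  rintro ⟨K, R, hR, ⟨e⟩⟩
  exact not_familyControls_qd e h𝓦 (h K R)

/-- For odd `p`, without `Qd(p)` the lower `K`-infinity functor controls strong fusion in all
sections, as a one-element family. -/
theorem familyControls_kInf_of_not_involves_qd (hp : p ≠ 2)
    (h : ¬ Cfsg.Involves ↥(Cfsg.qd p) G) (H : Type u) [Group H] [Finite H] (hH : IsSec G H) :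
    FamilyControlsStrongFusionIn p (indFam {kInfLower} H) ⊤ := by
  rw [singleton_indFam, ← controlsStrongFusionIn_iff_family]
  obtain ⟨S⟩ : Nonempty (Sylow p H) := inferInstance
  refine ⟨(S : Subgroup H), le_top, S.2, (isSylowIn_top S).2.2, fun A g _ hA hgA => ?_⟩
  obtain ⟨x, hx, he⟩ := LocalEven61.strongCtl_of_constrained (KInf.isCharPFunctor p).1
    (fun X _ _ hX hc T => (kInf_normal_of_stable ((S2795.result hp).1 h) X hX hc T).1) H hH S A g hA hgA
  exact ⟨x, ⟨Subgroup.mem_top x, hx⟩, he⟩

end Cfsg.Agent.ConjFunctor
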