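import Cfsg.Agent.ConjFunctor.TransferControl
import Cfsg.Agent.LocalEven61.StrongFusionSections

/-!
`p`-stable sections: isomorphism invariance, normality of the `K`-infinity subgroups in constrained
sections, and the resulting control of strong fusion.
-/

set_option autoImplicit false

open scoped commutatorElement

namespace Cfsg.Agent.ConjFunctor

open Cfsg

universe u

variable {p : ℕ} [Fact p.Prime]

omit [Fact p.Prime] in
theorem isNormalizerPStable_equiv {X Y : Type*} [Group X] [Group Y] (e : X ≃* Y)
    (h : IsNormalizerPStable p X) : IsNormalizerPStable p Y := by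
  intro P hP g hg hquad
  set P' := P.map e.symm.toMonoidHom with hP'
  have hPe : P'.map e.toMonoidHom = P := by
    rw [hP', Subgroup.map_map]
    convert Subgroup.map_id P
    ext x
    simp
  have hNe : (nrm P').map e.toMonoidHom = nrm P := by rw [map_nrm_equiv, hPe]
  have hg' : e.symm g ∈ nrm P' := by
    rw [hP', ← map_nrm_equiv]
    exact ⟨g, hg, rfl⟩
  have hquad' : ⁅⁅P', Subgroup.zpowers (e.symm g)⁆, Subgroup.zpowers (e.symm g)⁆ = ⊥ := by
    rw [show Subgroup.zpowers (e.symm g) = (Subgroup.zpowers g).map e.symm.toMonoidHom from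
      (MonoidHom.map_zpowers e.symm.toMonoidHom g).symm, hP', ← Subgroup.map_commutator,
      ← Subgroup.map_commutator, hquad, Subgroup.map_bot]
  have hcore := h P' (hP.map _) (e.symm g) hg' hquad'
  let eN : ↥(Subgroup.normalizer (P' : Set X)) ≃* ↥(Subgroup.normalizer (P : Set Y)) :=
    (Subgroup.equivMapOfInjective _ e.toMonoidHom e.injective).trans (MulEquiv.subgroupCongr hNe)
  haveI := Subgroup.normal_subgroupOf_centralizer_normalizer (P : Set Y)
  haveI := Subgroup.normal_subgroupOf_centralizer_normalizer (P' : Set X)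
  have heN : ∀ x, ((eN x : ↥(Subgroup.normalizer (P : Set Y))) : Y) = e (x : X) := fun x => rfl
  have hC : ((Subgroup.centralizer (P' : Set X)).subgroupOf (Subgroup.normalizer (P' : Set X))).map
      eN.toMonoidHom =
      (Subgroup.centralizer (P : Set Y)).subgroupOf (Subgroup.normalizer (P : Set Y)) := by
    ext y
    rw [Subgroup.mem_map_equiv, Subgroup.mem_subgroupOf, Subgroup.mem_subgroupOf]
    have hy : e ((eN.symm y : ↥(Subgroup.normalizer (P' : Set X))) : X) = (y : Y) := by
      rw [← heN, eN.apply_symm_apply]
    rw [← hy, Subgroup.mem_centralizer_iff, Subgroup.mem_centralizer_iff]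
    constructor
    · intro hc b hb
      rw [SetLike.mem_coe, ← hPe] at hb
      obtain ⟨a, ha, rfl⟩ := hb
      show e a * e _ = e _ * e a
      rw [← map_mul, ← map_mul, hc a ha]
    · intro hc a ha
      exact e.injective (by
        rw [map_mul, map_mul]
        exact hc (e a) (hPe ▸ Subgroup.mem_map_of_mem e.toMonoidHom ha))
  set eQ := QuotientGroup.congr _ _ eN hC with heQ
  have := Subgroup.mem_map_of_mem eQ.toMonoidHom hcore
  rw [Thompson.map_pCore_equiv eQ] at this
  convert this using 1
  show _ = QuotientGroup.mk (eN ⟨e.symm g, hg'⟩)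
  exact congrArg QuotientGroup.mk (Subtype.ext (by rw [heN]; exact (e.apply_symm_apply g).symm))

variable {G : Type u} [Group G] [Finite G]

/-- In a `p`-stable world the `K`-infinity subgroups are normal in constrained sections. -/
theorem kInf_normal_of_stable
    (hst : ∀ (K R : Subgroup G) [(R.subgroupOf K).Normal], IsNormalizerPStable p (↥K ⧸ R.subgroupOf K))
    (H : Type u) [Group H] [Finite H] (hH : IsSec G H) (hc : Constr p H) (T : Sylow p H) :
    (inducedFunctor kInfLower (T : Subgroup H)).Normal ∧
      (inducedFunctor kInfUpper (T : Subgroup H)).Normal := by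
  by_contra hcon
  obtain ⟨g, -, -, -, -, hN⟩ := exists_kInf_element T (not_and_or.1 hcon)
  obtain ⟨N, hNn, hns⟩ := hN hc
  obtain ⟨K, R, hR, ⟨e⟩⟩ := (hH.trans (isSec_quotient N)).exists_section
  exact hns (isNormalizerPStable_equiv e (hst K R))

/-- Control of strong fusion by both `K`-infinity subgroups. -/
theorem kInf_controlsStrongFusion
    (hst : ∀ (K R : Subgroup G) [(R.subgroupOf K).Normal], IsNormalizerPStable p (↥K ⧸ R.subgroupOf K))
    (H : Type u) [Group H] [Finite H] (hH : IsSec G H) (S : Sylow p H) :
    ControlsStrongFusion p (inducedFunctor kInfLower (S : Subgroup H)) ∧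
      ControlsStrongFusion p (inducedFunctor kInfUpper (S : Subgroup H)) :=
  ⟨LocalEven61.controlsStrongFusion_of_strongCtl
      (LocalEven61.strongCtl_of_constrained (KInf.isCharPFunctor p).1
        (fun X _ _ hX hc T => (kInf_normal_of_stable hst X hX hc T).1) H hH) S,
    LocalEven61.controlsStrongFusion_of_strongCtl
      (LocalEven61.strongCtl_of_constrained (KInf.isCharPFunctor p).2
        (fun X _ _ hX hc T => (kInf_normal_of_stable hst X hX hc T).2) H hH) S⟩

theorem kInfUpper_controlsTransfer (hp : 5 ≤ p) (H : Type u) [Group H] [Finite H] :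
    ControlsTransferIn p (inducedFunctor (G := H) kInfUpper) ⊤ :=
  controlsTransfer_of_engel (KInf.isCharPFunctor p).2 (G := H) (fun X _ _ _ _ T hn => by
    obtain ⟨g, hg, hgQ, h4, -⟩ := exists_kInf_element T (Or.inr hn)
    refine ⟨g, hg, hgQ, fun U V h hU => ?_⟩
    haveI := h.2.1
    exact (iterCommutator_antitone (by rw [nrm_eq_top]; exact le_top) (by omega)).trans (h4 U V h hU))
    H (isSec_refl H)

end Cfsg.Agent.ConjFunctor
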