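import Cfsg.Agent.ConjFunctor.Sections
import Mathlib.GroupTheory.Transfer
import Mathlib.GroupTheory.Abelianization.Defs
import Mathlib.GroupTheory.SchurZassenhaus

/-!
Reduction of control of transfer to the constrained sections.
-/

set_option autoImplicit false

open scoped commutatorElement IsMulCommutative

namespace Cfsg.Agent.ConjFunctor

universe u

variable {p : ℕ} [Fact p.Prime]

/-- The transfer of an element all of whose conjugates lie in `M`. -/
theorem transfer_eq_prod_of_forall_mem {G : Type*} [Group G] {M : Subgroup G} [M.FiniteIndex]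
    [Fintype (G ⧸ M)] {A : Type*} [CommGroup A] (φ : ↥M →* A) {z : G}
    (hz : ∀ t : G, t⁻¹ * z * t ∈ M) :
    φ.transfer z = ∏ q : G ⧸ M, φ ⟨q.out⁻¹ * z * q.out, hz _⟩ := by
  classical
  let T : M.LeftTransversal :=
    ⟨Set.range (fun q : G ⧸ M => q.out),
      Subgroup.isComplement_range_left fun q => QuotientGroup.out_eq' q⟩
  have hT : ∀ q : G ⧸ M, (T.2.leftQuotientEquiv q : G) = q.out := fun q =>
    Subgroup.IsComplement.leftQuotientEquiv_apply (fun q => QuotientGroup.out_eq' q) q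
  rw [MonoidHom.transfer_def φ T z]
  unfold Subgroup.leftTransversals.diff
  simp only
  refine Finset.prod_bij' (fun q _ => q) (fun q _ => q) (by simp) (by simp) (by simp) (by simp)
    fun q _ => ?_
  refine congrArg φ (Subtype.ext ?_)
  have hfix : z⁻¹ • q = q := by
    induction q using QuotientGroup.induction_on with
    | _ g =>
      refine (QuotientGroup.eq).2 ?_
      have := hz g
      simpa [mul_assoc] using this
  show (T.2.leftQuotientEquiv q : G)⁻¹ * ((z • T).2.leftQuotientEquiv q : G) = q.out⁻¹ * z * q.out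
  rw [Subgroup.smul_apply_eq_smul_apply_inv_smul, hfix, hT, smul_eq_mul, mul_assoc]

/-- If all conjugates of `z ∈ S ∩ G'` lie in `S` and agree with `z` modulo `D ⊇ S'`, then
`z ∈ D`. -/
theorem mem_of_conj_congr {G : Type*} [Group G] [Finite G] (S : Sylow p G) {D : Subgroup G}
    (hD : D ≤ (S : Subgroup G)) (hSD : ⁅(S : Subgroup G), (S : Subgroup G)⁆ ≤ D) {z : G}
    (hzS : ∀ t : G, t⁻¹ * z * t ∈ (S : Subgroup G))
    (hcong : ∀ t : G, t⁻¹ * z * t * z⁻¹ ∈ D) (hz : z ∈ commutator G) : z ∈ D := by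
  classical
  haveI : Fintype (G ⧸ (S : Subgroup G)) := Fintype.ofFinite _
  have hcomm : commutator ↥(S : Subgroup G) ≤ D.subgroupOf (S : Subgroup G) := by
    rw [← Subgroup.map_subtype_le_map_subtype, Subgroup.map_subtype_commutator,
      Subgroup.subgroupOf_map_subtype, inf_of_le_left hD]
    exact hSD
  haveI hn : (D.subgroupOf (S : Subgroup G)).Normal := Subgroup.Normal.of_commutator_le (G := ↥(S : Subgroup G)) hcomm
  haveI : IsMulCommutative (↥(S : Subgroup G) ⧸ D.subgroupOf (S : Subgroup G)) :=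
    Subgroup.Normal.quotient_commutative_iff_commutator_le.mpr hcomm
  have hzmem : z ∈ (S : Subgroup G) := by simpa using hzS 1
  have h1 := transfer_eq_prod_of_forall_mem (QuotientGroup.mk' (D.subgroupOf (S : Subgroup G))) hzS
  rw [MonoidHom.mem_ker.1 (Abelianization.commutator_subset_ker _ hz)] at h1
  have h2 : ∀ q : G ⧸ (S : Subgroup G),
      QuotientGroup.mk' (D.subgroupOf (S : Subgroup G)) ⟨q.out⁻¹ * z * q.out, hzS _⟩ =
        QuotientGroup.mk' (D.subgroupOf (S : Subgroup G)) ⟨z, hzmem⟩ := fun q => by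
    rw [← div_eq_one, ← map_div, QuotientGroup.mk'_apply, QuotientGroup.eq_one_iff]
    simpa [Subgroup.mem_subgroupOf, div_eq_mul_inv] using hcong q.out
  rw [Finset.prod_congr rfl fun q _ => h2 q, Finset.prod_const, Finset.card_univ,
    ← Nat.card_eq_fintype_card, ← Subgroup.index_eq_card] at h1
  have h3 := ((S.2.to_quotient (D.subgroupOf (S : Subgroup G))).powEquiv'
    S.not_dvd_index).injective
    (a₁ := QuotientGroup.mk' (D.subgroupOf (S : Subgroup G)) ⟨z, hzmem⟩) (a₂ := 1)
    (by simpa using h1.symm)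
  rwa [QuotientGroup.mk'_apply, QuotientGroup.eq_one_iff, Subgroup.mem_subgroupOf] at h3

section Quot

variable {G : Type u} [Group G] [Finite G]

theorem inf_eq_bot_of_coprime {A K : Subgroup G} (hA : IsPGroup p ↥A)
    (hK : (Nat.card ↥K).Coprime p) : A ⊓ K = ⊥ :=
  Thompson.inf_eq_bot_of_isPGroup_of_coprime hA hK

theorem injOn_mk_of_coprime {A : Subgroup G} (hA : IsPGroup p ↥A) (K : Subgroup G) [K.Normal]
    (hK : (Nat.card ↥K).Coprime p) : Set.InjOn (QuotientGroup.mk' K) A := by
  intro a ha b hb h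
  have h1 : a⁻¹ * b ∈ A ⊓ K := ⟨A.mul_mem (A.inv_mem ha) hb, QuotientGroup.eq.1 h⟩
  rw [inf_eq_bot_of_coprime hA hK, Subgroup.mem_bot] at h1
  exact inv_mul_eq_one.1 h1

/-- Frattini: normalisers of `p`-subgroups pass to quotients by normal `p'`-subgroups. -/
theorem map_nrm_of_coprime {U : Subgroup G} (hU : IsPGroup p ↥U) (K : Subgroup G) [K.Normal]
    (hK : (Nat.card ↥K).Coprime p) :
    (nrm U).map (QuotientGroup.mk' K) = nrm (U.map (QuotientGroup.mk' K)) := by
  refine le_antisymm (Subgroup.le_normalizer_map _) fun y hy => ?_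
  obtain ⟨g, rfl⟩ := QuotientGroup.mk'_surjective K y
  have hg : g ∈ nrm (U ⊔ K) := by
    have : g ∈ (nrm (U.map (QuotientGroup.mk' K))).comap (QuotientGroup.mk' K) := hy
    have h2 := Subgroup.le_normalizer_comap (QuotientGroup.mk' K) this
    rwa [Subgroup.comap_map_eq, QuotientGroup.ker_mk'] at h2
  have hsyl : IsSylowIn p U (U ⊔ K) := by
    refine ⟨le_sup_left, hU, fun hd => ?_⟩
    have h3 : Nat.card ↥U * U.relIndex (U ⊔ K) ∣ Nat.card ↥U * Nat.card ↥K := by
      rw [← Subgroup.relIndex_bot_left U, Subgroup.relIndex_mul_relIndex _ _ _ bot_le le_sup_left,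
        Subgroup.relIndex_bot_left, Subgroup.relIndex_bot_left]
      exact Thompson.card_sup_dvd_mul U K
    have h4 := Nat.dvd_of_mul_dvd_mul_left Nat.card_pos h3
    have h5 : p ∣ 1 := by
      have := Nat.dvd_gcd (hd.trans h4) dvd_rfl
      rwa [hK] at this
    exact (Fact.out : p.Prime).not_dvd_one h5
  obtain ⟨c, hc, n, hn, rfl⟩ := exists_mul_of_frattini hsyl hg
  rw [map_mul]
  refine Subgroup.mul_mem _ ?_ (Subgroup.mem_map_of_mem _ hn)
  obtain ⟨u, hu, k, hk, rfl⟩ := Subgroup.mem_sup_of_normal_right.1 hc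
  rw [map_mul, QuotientGroup.mk'_apply, QuotientGroup.mk'_apply, (QuotientGroup.eq_one_iff k).2 hk,
    mul_one]
  exact Subgroup.mem_map_of_mem _ (Subgroup.le_normalizer hu)

variable {𝓦 : Set (∀ (Q : Type u) [Group Q], Subgroup Q)}
  (h𝓦 : ∀ W ∈ 𝓦, IsCharPFunctor.{u} p W)
include h𝓦

/-- Control of transfer lifts over normal `p'`-subgroups. -/
theorem familyControlsTransferIn_of_coprime_quotient (K : Subgroup G) [K.Normal]
    (hK : (Nat.card ↥K).Coprime p)
    (h : FamilyControlsTransferIn p (indFam 𝓦 (G ⧸ K)) ⊤) :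
    FamilyControlsTransferIn p (indFam 𝓦 G) ⊤ := by
  set f := QuotientGroup.mk' K with hf
  obtain ⟨S⟩ : Nonempty (Sylow p G) := inferInstance
  have hT := isSylowIn_top (S.mapSurjective (QuotientGroup.mk'_surjective K))
  rw [Sylow.coe_mapSurjective] at hT
  have hle := FamilyControlsTransferIn.le_sig (indFam_isConjugacyFunctor h𝓦) h hT
  have hinj := injOn_mk_of_coprime S.2 K hK
  have key : sig (indFam 𝓦 (G ⧸ K)) ((S : Subgroup G).map f) ⊤ ≤
      (sig (indFam 𝓦 G) (S : Subgroup G) ⊤).map f := by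
    simp only [sig, indFam, iSup_image]
    refine iSup₂_le fun W hW => ?_
    rw [inducedFunctor_map (h𝓦 W hW) f _ S.2 hinj, top_inf_eq,
      ← map_nrm_of_coprime (S.2.to_le (inducedFunctor_le W _)) K hK, ← Subgroup.map_commutator]
    rintro _ ⟨⟨s, hs, rfl⟩, m, hm, hfm⟩
    refine Subgroup.mem_map_of_mem f
      (le_iSup₂ (f := fun (W : ∀ (Q : Type u) [Group Q], Subgroup Q) (_ : W ∈ 𝓦) =>
        (S : Subgroup G) ⊓ ⁅⊤ ⊓ nrm (inducedFunctor W (S : Subgroup G)),
          ⊤ ⊓ nrm (inducedFunctor W (S : Subgroup G))⁆) W hW ⟨hs, ?_⟩)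
    rw [top_inf_eq]
    set N := nrm (inducedFunctor W (S : Subgroup G)) with hN
    have hsN : s ∈ N := (le_nrm_functor (isConjugacyFunctor_inducedFunctor (h𝓦 W hW)) S.2) hs
    have hkK : m⁻¹ * s ∈ K := QuotientGroup.eq.1 hfm
    have hmN : m ∈ N := Subgroup.commutator_le_self _ hm
    have e1 : (Abelianization.of (⟨m, hmN⟩ : ↥N)) = 1 := by
      have : (⟨m, hmN⟩ : ↥N) ∈ commutator ↥N := by
        rw [← Subgroup.mem_map_iff_mem N.subtype_injective, Subgroup.map_subtype_commutator]
        exact hm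
      exact (QuotientGroup.eq_one_iff _).2 this
    have e2 : Abelianization.of (⟨s, hsN⟩ : ↥N) =
        Abelianization.of (⟨m⁻¹ * s, N.mul_mem (N.inv_mem hmN) hsN⟩ : ↥N) := by
      rw [show (⟨s, hsN⟩ : ↥N) = ⟨m, hmN⟩ * ⟨m⁻¹ * s, N.mul_mem (N.inv_mem hmN) hsN⟩ from
        Subtype.ext (mul_inv_cancel_left m s).symm, map_mul, e1, one_mul]
    obtain ⟨j, hj⟩ := S.2 ⟨s, hs⟩
    have hj' : orderOf (Abelianization.of (⟨s, hsN⟩ : ↥N)) ∣ p ^ j := by
      refine orderOf_dvd_of_pow_eq_one ?_
      have : (⟨s, hsN⟩ : ↥N) ^ p ^ j = 1 := by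
        ext
        simpa using congrArg Subtype.val hj
      rw [← map_pow, this, map_one]
    have hk' : orderOf (Abelianization.of (⟨s, hsN⟩ : ↥N)) ∣ Nat.card ↥K := by
      rw [e2]
      refine orderOf_dvd_of_pow_eq_one ?_
      have hk0 : (m⁻¹ * s) ^ Nat.card ↥K = 1 := by
        have := congrArg Subtype.val (pow_card_eq_one' (G := ↥K) (x := ⟨_, hkK⟩))
        exact this
      rw [← map_pow, ← map_one Abelianization.of]
      exact congrArg _ (Subtype.ext (by simpa using hk0))
    have h1 : orderOf (Abelianization.of (⟨s, hsN⟩ : ↥N)) = 1 :=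
      Nat.eq_one_of_dvd_coprimes (hK.pow_right j).symm hj' hk'
    have : (⟨s, hsN⟩ : ↥N) ∈ commutator ↥N :=
      (QuotientGroup.eq_one_iff _).1 (orderOf_eq_one_iff.1 h1)
    rw [← Subgroup.map_subtype_commutator]
    exact ⟨_, this, rfl⟩
  refine familyControlsTransferIn_iff.2 ⟨_, isSylowIn_top S, fun s hs => ?_⟩
  have h1 : f s ∈ ((S : Subgroup G).map f) ⊓ ⁅(⊤ : Subgroup (G ⧸ K)), ⊤⁆ := by
    refine ⟨Subgroup.mem_map_of_mem f hs.1, ?_⟩
    have := Subgroup.mem_map_of_mem f hs.2
    rw [Subgroup.map_commutator, Subgroup.map_top_of_surjective f (QuotientGroup.mk'_surjective K)]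
      at this
    exact this
  obtain ⟨σ, hσ, he⟩ := key (hle h1)
  have := hinj (sig_le hσ).1 hs.1 he
  rwa [← this]

/-- Modulo `O_p`, transfer is controlled by proper subgroups containing `S`. -/
theorem inf_commutator_le_sup_pCore (S : Sylow p G) (hSQ : ¬ (S : Subgroup G) ≤ pCore p G)
    (hsub : ∀ M : Subgroup G, M ≠ ⊤ → (S : Subgroup G) ≤ M →
      FamilyControlsTransferIn p (indFam 𝓦 ↥M) ⊤)
    (hquot : FamilyControlsTransferIn p (indFam 𝓦 (G ⧸ pCore p G)) ⊤) :
    (S : Subgroup G) ⊓ ⁅(⊤ : Subgroup G), ⊤⁆ ≤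
      sig (indFam 𝓦 G) (S : Subgroup G) ⊤ ⊔ pCore p G := by
  set f := QuotientGroup.mk' (pCore p G) with hf
  have hT := isSylowIn_top (S.mapSurjective (QuotientGroup.mk'_surjective (pCore p G)))
  rw [Sylow.coe_mapSurjective] at hT
  have hle := FamilyControlsTransferIn.le_sig (indFam_isConjugacyFunctor h𝓦) hquot hT
  have hker : f.ker = pCore p G := QuotientGroup.ker_mk' _
  have hcm : ((S : Subgroup G).map f).comap f = S := by
    rw [Subgroup.comap_map_eq, hker, sup_of_le_left (Thompson.pCore_le_sylow S)]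
  have key : sig (indFam 𝓦 (G ⧸ pCore p G)) ((S : Subgroup G).map f) ⊤ ≤
      (sig (indFam 𝓦 G) (S : Subgroup G) ⊤).map f := by
    simp only [sig, indFam, iSup_image]
    refine iSup₂_le fun W hW => ?_
    rw [top_inf_eq]
    set V := inducedFunctor W ((S : Subgroup G).map f) with hV
    set M := nrm (V.comap f) with hM
    have hMf : (nrm V).comap f = M :=
      Subgroup.comap_normalizer_eq_of_le_range (by
        rw [MonoidHom.range_eq_top_of_surjective f (QuotientGroup.mk'_surjective _)]; exact le_top)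
    have hSM : (S : Subgroup G) ≤ M := by
      rw [← hMf, ← Subgroup.map_le_iff_le_comap]
      exact le_nrm_functor (isConjugacyFunctor_inducedFunctor (h𝓦 W hW)) hT.isPGroup
    have hMne : M ≠ ⊤ := by
      intro htop
      haveI : (V.comap f).Normal := Subgroup.normalizer_eq_top_iff.1 htop
      have hp : IsPGroup p ↥(V.comap f) :=
        (hT.isPGroup.to_le (inducedFunctor_le W _)).comap_of_ker_isPGroup f
          (by rw [hker]; exact Thompson.isPGroup_pCore)
      have h2 : V = ⊥ := by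
        rw [eq_bot_iff]
        intro v hv
        obtain ⟨g, rfl⟩ := QuotientGroup.mk'_surjective (pCore p G) v
        exact Subgroup.mem_bot.2 ((QuotientGroup.eq_one_iff g).2
          (Thompson.le_pCore ‹_› hp hv))
      refine hSQ ?_
      by_contra hne
      refine functor_ne_bot (isConjugacyFunctor_inducedFunctor (h𝓦 W hW)) hT.isPGroup ?_ h2
      rwa [Ne, Subgroup.map_eq_bot_iff, hker]
    have hsigM := inf_commutator_le_sig h𝓦 S hSM (hsub M hMne hSM)
    have hmap : nrm V = M.map f := by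
      rw [← hMf, Subgroup.map_comap_eq_self_of_surjective (QuotientGroup.mk'_surjective _)]
    rw [hmap, ← Subgroup.map_commutator]
    rintro _ ⟨hv, m, hm, rfl⟩
    refine Subgroup.mem_map_of_mem f ?_
    have hmS : m ∈ (S : Subgroup G) := by rw [← hcm]; exact hv
    have h' := hsigM ⟨hmS, hm⟩
    simp only [sig, indFam, iSup_image] at h'
    exact h'
  intro s hs
  have h1 : f s ∈ ((S : Subgroup G).map f) ⊓ ⁅(⊤ : Subgroup (G ⧸ pCore p G)), ⊤⁆ := by
    refine ⟨Subgroup.mem_map_of_mem f hs.1, ?_⟩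
    have := Subgroup.mem_map_of_mem f hs.2
    rw [Subgroup.map_commutator, Subgroup.map_top_of_surjective f (QuotientGroup.mk'_surjective _)]
      at this
    exact this
  have h2 : s ∈ ((sig (indFam 𝓦 G) (S : Subgroup G) ⊤).map f).comap f := key (hle h1)
  rwa [Subgroup.comap_map_eq, hker] at h2

omit h𝓦 in
/-- In a group with `O_{p'} = 1`: if `S ∩ C(O_p) ≤ O_p` then `C(O_p) ≤ O_p`. -/
theorem constr_of_inf_centralizer_le (hO : pPrimeCore p G = ⊥) (S : Sylow p G)
    (h : (S : Subgroup G) ⊓ Subgroup.centralizer ((pCore p G : Subgroup G) : Set G) ≤ pCore p G) :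
    Constr p G := by
  unfold Constr
  set C := Subgroup.centralizer ((pCore p G : Subgroup G) : Set G) with hC
  haveI : C.Normal := Subgroup.normal_centralizer
  have hS : IsSylowIn p ((S : Subgroup G) ⊓ C) C :=
    isSylowIn_inf_of_normal (isSylowIn_top S) le_top (by rw [nrm_eq_top]; )
  obtain ⟨P, hP⟩ := hS.exists_sylow
  have hcen : nrm (P : Subgroup ↥C) ≤ Subgroup.centralizer ((P : Subgroup ↥C) : Set ↥C) := by
    intro c _
    refine Subgroup.mem_centralizer_iff.2 fun x hx => Subtype.ext ?_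
    have hxQ : (x : G) ∈ pCore p G := h (hP ▸ ⟨x, hx, rfl⟩)
    exact Subgroup.mem_centralizer_iff.1 c.2 _ hxQ
  have hker := MonoidHom.ker_transferSylow_isComplement' P hcen
  have hcard := MonoidHom.not_dvd_card_ker_transferSylow P hcen
  set N₀ := (MonoidHom.transferSylow P hcen).ker with hN₀
  have hNle : N₀ ≤ pPrimeCore p ↥C :=
    Thompson.le_pPrimeCore inferInstance ((Fact.out : p.Prime).coprime_iff_not_dvd.2 hcard).symm
  have h1 : (pPrimeCore p ↥C).map C.subtype ≤ pPrimeCore p G := Thompson.map_pPrimeCore_normal_le C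
  have hN₀bot : N₀ = ⊥ := by
    refine (Subgroup.map_eq_bot_iff_of_injective _ C.subtype_injective).1 (le_bot_iff.1 ?_)
    exact (Subgroup.map_mono hNle).trans (h1.trans hO.le)
  have hPtop : (P : Subgroup ↥C) = ⊤ := by
    have := hker.sup_eq_top
    rwa [hN₀bot, bot_sup_eq] at this
  have hCp : IsPGroup p ↥C := by
    have := P.2.map C.subtype
    rwa [hPtop, ← MonoidHom.range_eq_map, Subgroup.range_subtype] at this
  exact Thompson.le_pCore inferInstance hCp

/-- If control of transfer holds in all proper subgroups and quotients then it holds or the group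
is constrained. -/
theorem transfer_step (S : Sylow p G)
    (hsub : ∀ M : Subgroup G, M ≠ ⊤ → FamilyControlsTransferIn p (indFam 𝓦 ↥M) ⊤)
    (hquot : ∀ (N : Subgroup G) [N.Normal], N ≠ ⊥ →
      FamilyControlsTransferIn p (indFam 𝓦 (G ⧸ N)) ⊤) :
    FamilyControlsTransferIn p (indFam 𝓦 G) ⊤ ∨ Constr p G := by
  by_cases hQ : pCore p G = ⊥
  · refine Or.inl (familyControlsTransferIn_of_fully S (indFam_isConjugacyFunctor h𝓦)
      fun T hT hT0 _ => familyControlsTransferIn_subgroup h𝓦 (hsub _ fun htop => hT0 ?_))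
    haveI : T.Normal := Subgroup.normalizer_eq_top_iff.1 htop
    exact le_bot_iff.1 (hQ ▸ Thompson.le_pCore ‹_› (S.2.to_le hT))
  by_cases hK : pPrimeCore p G = ⊥
  swap
  · haveI : (pPrimeCore p G).Normal := Thompson.sSup_normal fun _ h => h.1
    exact Or.inl (familyControlsTransferIn_of_coprime_quotient h𝓦 _
      Thompson.card_pPrimeCore_coprime (hquot _ hK))
  by_cases hP : (S : Subgroup G) ⊓ Subgroup.centralizer ((pCore p G : Subgroup G) : Set G) ≤ pCore p G
  · exact Or.inr (constr_of_inf_centralizer_le hK S hP)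
  refine Or.inl (familyControlsTransferIn_iff.2 ⟨_, isSylowIn_top S, ?_⟩)
  set Q := pCore p G with hQdef
  set C := Subgroup.centralizer (Q : Set G) with hC
  haveI : C.Normal := Subgroup.normal_centralizer
  set L := Q ⊔ C with hL
  set P := (S : Subgroup G) ⊓ L with hPdef
  have hPsyl : IsSylowIn p P L :=
    isSylowIn_inf_of_normal (isSylowIn_top S) le_top (by rw [nrm_eq_top]; )
  have hNP : nrm P ≠ ⊤ := by
    intro htop
    haveI : P.Normal := Subgroup.normalizer_eq_top_iff.1 htop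
    exact hP ((inf_le_inf_left _ le_sup_right).trans (Thompson.le_pCore ‹_› hPsyl.isPGroup))
  have hSN : (S : Subgroup G) ≤ nrm P := by
    refine Subgroup.le_normalizer_iff.2 fun s hs x hx => ⟨?_, ?_⟩
    · exact (S : Subgroup G).mul_mem ((S : Subgroup G).mul_mem hs hx.1) ((S : Subgroup G).inv_mem hs)
    · exact (inferInstance : L.Normal).conj_mem x hx.2 s
  set D := sig (indFam 𝓦 G) (S : Subgroup G) ⊤ with hD
  have hNPD : (S : Subgroup G) ⊓ ⁅nrm P, nrm P⁆ ≤ D :=
    inf_commutator_le_sig h𝓦 S hSN (hsub _ hNP)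
  have hSD : ⁅(S : Subgroup G), (S : Subgroup G)⁆ ≤ D :=
    (le_inf (Subgroup.commutator_le_self _) (Subgroup.commutator_mono hSN hSN)).trans hNPD
  have hSQ : ¬ (S : Subgroup G) ≤ Q := fun h => hP (inf_le_left.trans h)
  have h1 := inf_commutator_le_sup_pCore h𝓦 S hSQ (fun M hM _ => hsub M hM) (hquot Q hQ)
  intro s hs
  obtain ⟨σ, hσ, z, hz, rfl⟩ := Subgroup.mem_sup_of_normal_right.1 (h1 hs)
  refine D.mul_mem hσ ?_
  have hzS : ∀ t : G, t⁻¹ * z * t ∈ (S : Subgroup G) := fun t => Thompson.pCore_le_sylow S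
    (by simpa using (inferInstance : Q.Normal).conj_mem z hz t⁻¹)
  have hz' : z ∈ commutator G := by
    have := (commutator G).mul_mem ((commutator G).inv_mem (sig_le hσ).2) hs.2
    simpa using this
  refine mem_of_conj_congr S (sig_le.trans inf_le_left) hSD hzS (fun t => ?_) hz'
  obtain ⟨l, hl, n, hn, he⟩ := exists_mul_of_frattini hPsyl
    (g := t⁻¹) (by rw [nrm_eq_top]; exact Subgroup.mem_top _)
  obtain ⟨q, hq, c, hc, rfl⟩ := Subgroup.mem_sup_of_normal_right.1 hl
  have hw : n * z * n⁻¹ ∈ Q := (inferInstance : Q.Normal).conj_mem z hz n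
  have ht : t = n⁻¹ * (q * c)⁻¹ := by rw [← inv_inv t, he, mul_inv_rev]
  have hcw : c * (n * z * n⁻¹) * c⁻¹ = n * z * n⁻¹ := by
    rw [← Subgroup.mem_centralizer_iff.1 hc _ hw, mul_inv_cancel_right]
  have e : t⁻¹ * z * t * z⁻¹ = ⁅q, n * z * n⁻¹⁆ * ⁅n, z⁆ := by
    calc t⁻¹ * z * t * z⁻¹ = q * (c * (n * z * n⁻¹) * c⁻¹) * q⁻¹ * z⁻¹ := by rw [ht]; group
      _ = q * (n * z * n⁻¹) * q⁻¹ * z⁻¹ := by rw [hcw]
      _ = _ := by simp [commutatorElement_def, mul_assoc]
  rw [e]
  have hQS := Thompson.pCore_le_sylow S (p := p)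
  refine D.mul_mem (hSD (Subgroup.commutator_mem_commutator (hQS hq) (hQS hw))) (hNPD ⟨?_, ?_⟩)
  · show ⁅n, z⁆ ∈ (S : Subgroup G)
    rw [commutatorElement_def]
    exact (S : Subgroup G).mul_mem (hQS hw) ((S : Subgroup G).inv_mem (hQS hz))
  · exact Subgroup.commutator_mem_commutator hn (hSN (hQS hz))

end Quot

/-- Induction along sections: it is enough to treat constrained sections all of whose proper
subgroups and quotients are controlled. -/
theorem transfer_induction {G : Type u} [Group G] [Finite G]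
    {𝓦 : Set (∀ (Q : Type u) [Group Q], Subgroup Q)} (h𝓦 : ∀ W ∈ 𝓦, IsCharPFunctor.{u} p W)
    (hloc : ∀ (H : Type u) [Group H] [Finite H], IsSec G H → Constr p H →
      (∀ M : Subgroup H, M ≠ ⊤ → FamilyControlsTransferIn p (indFam 𝓦 ↥M) ⊤) →
      (∀ (N : Subgroup H) [N.Normal], N ≠ ⊥ →
        FamilyControlsTransferIn p (indFam 𝓦 (H ⧸ N)) ⊤) →
      FamilyControlsTransferIn p (indFam 𝓦 H) ⊤)
    (H : Type u) [Group H] [Finite H] (hH : IsSec G H) :
    FamilyControlsTransferIn p (indFam 𝓦 H) ⊤ := by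
  suffices key : ∀ (n : ℕ) (H : Type u) [Group H] [Finite H], Nat.card H ≤ n → IsSec G H →
      FamilyControlsTransferIn p (indFam 𝓦 H) ⊤ from key _ H le_rfl hH
  intro n
  induction n using Nat.strong_induction_on with
  | _ n ih =>
    intro H _ _ hn hH
    obtain ⟨S⟩ : Nonempty (Sylow p H) := inferInstance
    have hsub : ∀ M : Subgroup H, M ≠ ⊤ → FamilyControlsTransferIn p (indFam 𝓦 ↥M) ⊤ := by
      intro M hM
      refine ih (Nat.card ↥M) ?_ ↥M le_rfl (hH.trans (isSec_subgroup M))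
      exact ((Subgroup.card_le_card_group M).lt_of_ne fun he =>
        hM (Subgroup.eq_top_of_card_eq M he)).trans_le hn
    have hquot : ∀ (N : Subgroup H) [N.Normal], N ≠ ⊥ →
        FamilyControlsTransferIn p (indFam 𝓦 (H ⧸ N)) ⊤ := by
      intro N _ hN
      refine ih (Nat.card (H ⧸ N)) ?_ _ le_rfl (hH.trans (isSec_quotient N))
      have h1 := Subgroup.card_eq_card_quotient_mul_card_subgroup N
      have h2 : 1 < Nat.card ↥N := (Subgroup.one_lt_card_iff_ne_bot N).2 hN
      have h3 : 0 < Nat.card (H ⧸ N) := Nat.card_pos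
      calc Nat.card (H ⧸ N) < Nat.card (H ⧸ N) * Nat.card ↥N := lt_mul_of_one_lt_right h3 h2
        _ ≤ n := h1 ▸ hn
    exact (transfer_step h𝓦 S hsub hquot).elim id fun hc => hloc H hH hc hsub hquot

/-- Control of transfer in all constrained sections gives control in all sections. -/
theorem transfer_of_constrained {G : Type u} [Group G] [Finite G]
    {𝓦 : Set (∀ (Q : Type u) [Group Q], Subgroup Q)} (h𝓦 : ∀ W ∈ 𝓦, IsCharPFunctor.{u} p W)
    (hloc : ∀ (H : Type u) [Group H] [Finite H], IsSec G H → Constr p H →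
      FamilyControlsTransferIn p (indFam 𝓦 H) ⊤)
    (H : Type u) [Group H] [Finite H] (hH : IsSec G H) :
    FamilyControlsTransferIn p (indFam 𝓦 H) ⊤ :=
  transfer_induction h𝓦 (fun H _ _ h1 h2 _ _ => hloc H h1 h2) H hH

theorem singleton_indFam (W : ∀ (Q : Type u) [Group Q], Subgroup Q) (H : Type u) [Group H] :
    indFam ({W} : Set (∀ (Q : Type u) [Group Q], Subgroup Q)) H = {inducedFunctor W} := by
  simp [indFam]

theorem controlsTransferIn_iff_indFam {W : ∀ (Q : Type u) [Group Q], Subgroup Q}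
    (H : Type u) [Group H] (M : Subgroup H) :
    ControlsTransferIn p (inducedFunctor W) M ↔ FamilyControlsTransferIn p (indFam {W} H) M := by
  rw [singleton_indFam]
  exact controlsTransferIn_iff_family

theorem sig_indFam_singleton (W : ∀ (Q : Type u) [Group Q], Subgroup Q) {H : Type u} [Group H]
    (S : Subgroup H) :
    sig (indFam {W} H) S ⊤ = S ⊓ ⁅nrm (inducedFunctor W S), nrm (inducedFunctor W S)⁆ := by
  simp [sig, singleton_indFam]

end Cfsg.Agent.ConjFunctor
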